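import Cfsg.Agent.Kgv.Main
import Cfsg.Agent.Char.GoodExt
import Cfsg.Agent.Blk.TameThree
import Cfsg.Prelude.Def_CaseTheorems

/-!
# Consequences of the `k(GV)` theorem for blocks of `p`-solvable groups
-/

set_option autoImplicit false
set_option linter.unusedSectionVars false
set_option linter.unusedVariables false
set_option linter.style.haveILetI false

namespace Cfsg.Kgv

universe u v

variable {p : ℕ} [hp : Fact p.Prime] {G : Type u} [Group G] [Finite G]

theorem card_le_pow_of_section {D : Type u} [Group D] {Q : Type v} [Group Q] {r : ℕ}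
    (hr : SectionalPRankLE p r D) (f : D →* Q) {V : Subgroup Q} (hV : IsElementaryAbelian p V)
    (h : V ≤ f.range) : Nat.card V ≤ p ^ r := by
  have e : (f.domRestrict (V.comap f)).range = V := by
    rw [MonoidHom.domRestrict_range, Subgroup.map_comap_eq_self h]
  let φ := QuotientGroup.quotientKerEquivRange (f.domRestrict (V.comap f))
  have h1 := hr (V.comap f) (f.domRestrict (V.comap f)).ker ⊤
    ⟨⟨fun a b => Subtype.ext (φ.injective (by
      haveI := hV.1
      rw [Subgroup.coe_mul, Subgroup.coe_mul, map_mul, map_mul]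
      exact Subtype.ext (setLike_mul_comm (s := V) (e.le (φ a).2) (e.le (φ b).2))))⟩⟩
    fun a _ => φ.injective (by
      rw [map_pow, map_one]
      exact Subtype.ext (hV.2 _ (e.le (φ a).2)))
  rwa [Subgroup.card_top, Nat.card_congr φ.toEquiv, e] at h1

theorem isElementaryAbelian_pCore_quotient :
    IsElementaryAbelian p (pCore p (G ⧸ frattiniOf (pCore p G))) := by
  have hP := isPGroup_pCore p G
  rw [← map_pCore_quotient (hP.to_le (frattiniOf_le _)), isElementaryAbelian_map_mk'_iff hP]

theorem card_conjClasses_lt_frattini [Nontrivial G] (hG : IsPSolvable p G)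
    (h0 : pPrimeCore p G = ⊥) {T : Subgroup G} (hT : ¬ p ∣ Nat.card T) :
    Nat.card (ConjClasses T) < Nat.card (pCore p (G ⧸ frattiniOf (pCore p G))) := by
  have hP := isPGroup_pCore p G
  have hΦ := hP.to_le (frattiniOf_le (pCore p G))
  have h1 := pPrimeCore_quotient_frattiniOf hG h0
  have hinj : Function.Injective ((QuotientGroup.mk' (frattiniOf (pCore p G))).domRestrict T) := by
    rw [← MonoidHom.ker_eq_bot_iff, MonoidHom.ker_domRestrict, QuotientGroup.ker_mk',
      Subgroup.subgroupOf_eq_bot, disjoint_iff]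
    exact inf_eq_bot_of_isPGroup_of_not_dvd hΦ hT
  have e := MonoidHom.ofInjective hinj
  have hA : ¬ p ∣ Nat.card ((QuotientGroup.mk' (frattiniOf (pCore p G))).domRestrict T).range := by
    rwa [← Nat.card_congr e.toEquiv]
  rw [card_conjClasses_congr e]
  refine card_conjClasses_lt isElementaryAbelian_pCore_quotient (fun h => ?_)
    Subgroup.le_normalizer_of_normal hA (le_bot_iff.1 ((inf_le_inf_left _
      ((hG.to_quotient _).centralizer_pCore_le h1)).trans ?_))
  · rw [← map_pCore_quotient hΦ, Subgroup.map_eq_bot_iff, QuotientGroup.ker_mk'] at h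
    exact (frattiniOf_lt (hG.pCore_ne_bot_or.resolve_right fun h' => h' h0)).not_ge h
  · rw [inf_comm, inf_eq_bot_of_isPGroup_of_not_dvd (isPGroup_pCore p _) hA]

theorem card_regClasses_le (hG : IsPSolvable p G) {T : Subgroup G} (hT : ¬ p ∣ Nat.card T)
    {k : ℕ} (hi : T.index = p ^ k) :
    Nat.card {C : ConjClasses G // ∃ g : G, ConjClasses.mk g = C ∧ ¬ p ∣ orderOf g} ≤
      Nat.card (ConjClasses T) := by
  refine Nat.card_le_card_of_surjective (fun C => ⟨ConjClasses.map T.subtype C, ?_⟩) ?_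
  · obtain ⟨t, rfl⟩ := ConjClasses.mk_surjective C
    exact ⟨t, rfl, isPRegular_of_mem_of_not_dvd hT t.2⟩
  · rintro ⟨_, g, rfl, hg⟩
    obtain ⟨x, hx⟩ := hG.exists_conj_mem hT hi hg
    exact ⟨ConjClasses.mk ⟨_, hx⟩, Subtype.ext
      (ConjClasses.mk_eq_mk_iff_isConj.2 (isConj_iff.2 ⟨x, rfl⟩).symm)⟩

theorem card_regClasses_lt_frattini [Nontrivial G] (hG : IsPSolvable p G)
    (h0 : pPrimeCore p G = ⊥) :
    Nat.card {C : ConjClasses G // ∃ g : G, ConjClasses.mk g = C ∧ ¬ p ∣ orderOf g} <
      Nat.card (pCore p (G ⧸ frattiniOf (pCore p G))) := by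
  obtain ⟨T, hT, k, hi⟩ := hG.exists_pComplement
  exact (card_regClasses_le hG hT hi).trans_lt (card_conjClasses_lt_frattini hG h0 hT)

theorem card_frattini_le {D : Type v} [Group D] {r : ℕ} (hr : SectionalPRankLE p r D)
    (f : D →* G) (h : pCore p G ≤ f.range) :
    Nat.card (pCore p (G ⧸ frattiniOf (pCore p G))) ≤ p ^ r := by
  refine card_le_pow_of_section hr ((QuotientGroup.mk' _).comp f)
    isElementaryAbelian_pCore_quotient ?_
  rw [← map_pCore_quotient ((isPGroup_pCore p G).to_le (frattiniOf_le _)), MonoidHom.range_comp]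
  exact Subgroup.map_mono h

/-- The rank over an invariant character is at most the number of `p`-regular classes of the
quotient. -/
theorem blockRank_irrOver_le {K : Subgroup G} [K.Normal] {θ : IrrCharacter K}
    (hθ : inertia K.subtype θ = ⊤) : blockRank p (irrOver K.subtype {θ}) ≤
      Nat.card {C : ConjClasses (G ⧸ K) // ∃ g, ConjClasses.mk g = C ∧ ¬ p ∣ orderOf g} := by
  classical
  obtain ⟨c⟩ := nonempty_charCover hθ
  have h1 : ∀ C : ConjClasses (G ⧸ K), ∃ x : c.E, ConjClasses.mk (c.π x : G ⧸ K) = C ∧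
      ((∃ n, c.ext (c.ι n * x) ≠ 0) → c.ext x ≠ 0) := fun C => by
    obtain ⟨q, rfl⟩ := ConjClasses.mk_surjective C
    obtain ⟨g, rfl⟩ := QuotientGroup.mk_surjective q
    obtain ⟨x, rfl⟩ := c.π_surjective g
    by_cases h : ∃ n, c.ext (c.ι n * x) ≠ 0
    · obtain ⟨n, hn⟩ := h
      refine ⟨c.ι n * x, ?_, fun _ => hn⟩
      rw [map_mul, c.π_ι, QuotientGroup.mk_mul, (QuotientGroup.eq_one_iff (K.subtype n)).2 n.2,
        one_mul]
    · exact ⟨x, rfl, fun h' => absurd h' h⟩
  choose x hx hx' using h1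
  let W := Submodule.span ℂ ((fun χ : IrrCharacter G => χ.1) '' irrOver K.subtype {θ})
  have h2 : ∀ F ∈ W, IsClassFunction G F ∧ ∃ β, c.Rel F β := fun F hF => by
    induction hF using Submodule.span_induction with
    | mem F h =>
      obtain ⟨χ, hχ, rfl⟩ := h
      obtain ⟨β, hβ⟩ := c.exists_rel_of_liesOver_left (mem_irrOver_singleton.1 hχ)
      exact ⟨χ.isClassFunction, _, hβ⟩
    | zero => exact ⟨fun _ _ => rfl, 0, c.rel_zero⟩
    | add F F' _ _ h h' => exact ⟨h.1.add h'.1, _, h.2.choose_spec.add h'.2.choose_spec⟩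
    | smul a F _ h => exact ⟨h.1.smul a, _, h.2.choose_spec.smul a⟩
  let R : (G → ℂ) →ₗ[ℂ] (G → ℂ) :=
    { toFun := pRegularPart p
      map_add' := fun a b => funext fun g => by
        simp only [pRegularPart, Pi.add_apply]; split_ifs <;> simp
      map_smul' := fun a b => funext fun g => by
        simp only [pRegularPart, Pi.smul_apply]; split_ifs <;> simp }
  let Φ : (G → ℂ) →ₗ[ℂ]
      ({C : ConjClasses (G ⧸ K) // ∃ g, ConjClasses.mk g = C ∧ ¬ p ∣ orderOf g} → ℂ) :=
    LinearMap.funLeft ℂ ℂ fun C => c.π (x C.1)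
  have h3 : LinearMap.ker (Φ.domRestrict W) ≤ LinearMap.ker (R.domRestrict W) := by
    rintro ⟨F, hF⟩ h0
    obtain ⟨hc, β, hβ⟩ := h2 F hF
    refine funext fun g => ?_
    change (if IsPRegular p g then F g else 0) = 0
    split_ifs with hg
    · have h4 : F (c.π (x (ConjClasses.mk (g : G ⧸ K)))) = 0 :=
        congrFun h0 ⟨_, g, rfl, hg.map (QuotientGroup.mk' K)⟩
      obtain ⟨y, hy⟩ := isConj_iff.1
        (ConjClasses.mk_eq_mk_iff_isConj.1 (hx (ConjClasses.mk (g : G ⧸ K)))).symm
      obtain ⟨y, rfl⟩ := QuotientGroup.mk_surjective y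
      have h5 : y * g * y⁻¹ * (c.π (x (ConjClasses.mk (g : G ⧸ K))))⁻¹ ∈ K := by
        rw [← QuotientGroup.eq_one_iff, QuotientGroup.mk_mul, QuotientGroup.mk_inv, ← hy]
        simp
      have h6 := congrFun hβ.comp_eq (c.ι ⟨_, h5⟩ * x (ConjClasses.mk (g : G ⧸ K)))
      have h7 := congrFun hβ.comp_eq (x (ConjClasses.mk (g : G ⧸ K)))
      simp only [Function.comp_apply, Pi.mul_apply, map_mul, c.π_ι, c.q_ι, one_mul,
        Subgroup.subtype_apply, inv_mul_cancel_right] at h6 h7
      rw [← hc g y, h6]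
      by_cases h8 : c.ext.1 (c.ι ⟨_, h5⟩ * x (ConjClasses.mk (g : G ⧸ K))) = 0
      · rw [h8, zero_mul]
      · rw [h4] at h7
        rw [(mul_eq_zero.1 h7.symm).resolve_left (hx' _ ⟨_, h8⟩), mul_zero]
    · rfl
  have h4 := (Φ.domRestrict W).finrank_range_add_finrank_ker
  have h5 := (R.domRestrict W).finrank_range_add_finrank_ker
  have h6 := Submodule.finrank_mono h3
  have h7 := Submodule.finrank_le (LinearMap.range (Φ.domRestrict W))
  haveI := Fintype.ofFinite
    {C : ConjClasses (G ⧸ K) // ∃ g, ConjClasses.mk g = C ∧ ¬ p ∣ orderOf g}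
  rw [Module.finrank_fintype_fun_eq_card, ← Nat.card_eq_fintype_card] at h7
  have h8 : blockRank p (irrOver K.subtype {θ}) =
      Module.finrank ℂ (LinearMap.range (R.domRestrict W)) := by
    rw [LinearMap.range_domRestrict, Submodule.map_span, Set.image_image]
    rfl
  omega

variable {M : Ideal AlgInt}

/-- Brauer's `k(B)` bound for `p`-solvable groups. -/
theorem card_block_le (hG : IsPSolvable p G) (hM : IsPModular p M) {B : Set (IrrCharacter G)}
    (hB : IsPBlock M B) : ∀ D : Subgroup G, IsDefectGroup p M B D → Nat.card B ≤ Nat.card D := by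
  refine fong_induction hM (fun G _ _ B => ∀ D : Subgroup G, IsDefectGroup p M B D →
    Nat.card B ≤ Nat.card D) ?_ ?_ G hG B hB
  · intro G _ _ hG θ hθ D hD
    have hK := not_dvd_card_pPrimeCore p G
    have hB := hG.isPBlock_irrOver hM (Subgroup.range_subtype _) hθ
    obtain ⟨S, rfl⟩ := (isDefectGroup_irrOver_singleton_iff hM hK hθ hB D).1 hD
    have h1 := card_liesOver_eq_card_extGood (QuotientGroup.mk'_surjective (pPrimeCore p G))
      ((QuotientGroup.ker_mk' _).trans (Subgroup.range_subtype _).symm) hθ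
    have h2 := card_conjClasses_le_of_pSolvable _ (hG.to_quotient (pPrimeCore p G))
      (pPrimeCore_quotient_pPrimeCore p G)
    rw [Nat.card_congr (Equiv.subtypeEquivRight fun _ => mem_irrOver_singleton), h1,
      S.card_eq_multiplicity]
    refine (Nat.card_le_card_of_injective _ Subtype.val_injective).trans (h2.trans
      (Nat.pow_le_pow_right hp.out.pos ?_))
    exact (Nat.factorization_le_iff_dvd Nat.card_pos.ne' Nat.card_pos.ne').2
      (Subgroup.card_quotient_dvd_card _) p
  · intro G T N _ _ _ _ _ _ f _ i j b _ hi hfac hb hT B' hB' hcov ih P hP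
    haveI : IsNormalEmb j := IsNormalEmb.of_factor hi hfac
    have hA := hcov.subset_irrOver hM hB' (hb.isBlockUnion hM)
    obtain ⟨D, hD⟩ := hB'.exists_isDefectGroup (p := p) hM
    obtain ⟨g, rfl⟩ := (fr_isDefectGroup hM hi hfac hb hT hB' hcov hD).exists_conj
      (fr_isPBlock hM hi hfac hb hT hB' hcov) hM hP
    rw [fr_card hM hi hfac hb hT hA, ← Nat.card_congr ((D.equivMapOfInjective i hi).trans
        ((D.map i).equivMapOfInjective _ (MulAut.conj g).injective)).toEquiv]
    exact ih D hD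

theorem blockRank_lt (hG : IsPSolvable p G) (hM : IsPModular p M) {B : Set (IrrCharacter G)}
    (hB : IsPBlock M B) {r : ℕ} : ∀ D : Subgroup G, IsDefectGroup p M B D → D ≠ ⊥ →
      (∀ (Q : Type u) [Group Q] (f : D →* Q) (V : Subgroup Q), IsElementaryAbelian p V →
        V ≤ f.range → Nat.card V ≤ p ^ r) → blockRank p B < p ^ r := by
  refine fong_induction hM (fun G _ _ B => ∀ D : Subgroup G, IsDefectGroup p M B D → D ≠ ⊥ →
      (∀ (Q : Type u) [Group Q] (f : D →* Q) (V : Subgroup Q), IsElementaryAbelian p V →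
        V ≤ f.range → Nat.card V ≤ p ^ r) → blockRank p B < p ^ r) ?_ ?_ G hG B hB
  · intro G _ _ hG θ hθ D hD hD1 hr
    have hK := not_dvd_card_pPrimeCore p G
    have hB := hG.isPBlock_irrOver hM (Subgroup.range_subtype _) hθ
    obtain ⟨S, rfl⟩ := (isDefectGroup_irrOver_singleton_iff hM hK hθ hB D).1 hD
    haveI : Nontrivial (G ⧸ pPrimeCore p G) := QuotientGroup.nontrivial_iff.2 fun h => hD1 (by
      have := inf_eq_bot_of_isPGroup_of_not_dvd S.2 hK
      rwa [h, inf_top_eq] at this)
    refine (blockRank_irrOver_le hθ).trans_lt ((card_regClasses_lt_frattini (hG.to_quotient _)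
      (pPrimeCore_quotient_pPrimeCore p G)).trans_le (hr _ ((QuotientGroup.mk' _).comp
        ((QuotientGroup.mk' _).comp (S : Subgroup G).subtype)) _
        isElementaryAbelian_pCore_quotient ?_))
    rw [← map_pCore_quotient ((isPGroup_pCore p _).to_le (frattiniOf_le _)), MonoidHom.range_comp,
      MonoidHom.range_comp, Subgroup.range_subtype]
    exact Subgroup.map_mono (pCore_le_sylow
      (S.mapSurjective (QuotientGroup.mk'_surjective (pPrimeCore p G))))
  · intro G T N _ _ _ _ _ _ f _ i j b _ hi hfac hb hT B' hB' hcov ih P hP hP1 hr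
    haveI : IsNormalEmb j := IsNormalEmb.of_factor hi hfac
    have hA := hcov.subset_irrOver hM hB' (hb.isBlockUnion hM)
    obtain ⟨D, hD⟩ := hB'.exists_isDefectGroup (p := p) hM
    obtain ⟨g, rfl⟩ := (fr_isDefectGroup hM hi hfac hb hT hB' hcov hD).exists_conj
      (fr_isPBlock hM hi hfac hb hT hB' hcov) hM hP
    let e := (D.equivMapOfInjective i hi).trans
      ((D.map i).equivMapOfInjective (MulAut.conj g).toMonoidHom (MulAut.conj g).injective)
    refine (blockRank_le_of_ind hi fun χ => (fr_mem_irrOver_iff hM hi hfac hb hT hA).1).trans_lt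
      (ih D hD (fun h => hP1 (by rw [h, Subgroup.map_bot, Subgroup.map_bot])) fun Q _ φ V hV h =>
        hr Q (φ.comp e.symm.toMonoidHom) V hV ?_)
    rwa [MonoidHom.range_comp, MonoidHom.range_eq_top.2 e.symm.surjective,
      ← MonoidHom.range_eq_map]

end Cfsg.Kgv
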