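import Cfsg.Agent.Blk.Ring
import Cfsg.Agent.Char.Galois
import Cfsg.Agent.Char.IndCore
import Mathlib.FieldTheory.Finite.GaloisField
import Mathlib.Analysis.SpecialFunctions.Complex.CircleAddChar

/-!
# Definitions for the Gauss sum proof of the `k(GV)` theorem

See `plans/lead_kgv.md`.
-/

set_option autoImplicit false
set_option linter.unusedSectionVars false
set_option linter.unusedVariables false
set_option linter.style.haveILetI false

namespace Cfsg.Kgv

open Finset

universe u v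

variable (p : ℕ) [hp : Fact p.Prime] (D : ℕ)

/-- A generator of the multiplicative group of the field with `p ^ D` elements. -/
noncomputable def gF : (GaloisField p D)ˣ :=
  (IsCyclic.exists_generator (α := (GaloisField p D)ˣ)).choose

theorem gF_spec (x : (GaloisField p D)ˣ) : x ∈ Subgroup.zpowers (gF p D) :=
  (IsCyclic.exists_generator (α := (GaloisField p D)ˣ)).choose_spec x

theorem exists_ret : ∃ r : GaloisField p D →ₗ[ZMod p] ZMod p,
    r ∘ₗ Algebra.linearMap (ZMod p) (GaloisField p D) = LinearMap.id :=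
  LinearMap.exists_leftInverse_of_injective _
    (LinearMap.ker_eq_bot.2 (algebraMap (ZMod p) (GaloisField p D)).injective)

/-- A linear retraction onto the prime field. -/
noncomputable def ret : GaloisField p D →ₗ[ZMod p] ZMod p := (exists_ret p D).choose

theorem ret_algebraMap (a : ZMod p) : ret p D (algebraMap (ZMod p) (GaloisField p D) a) = a :=
  LinearMap.congr_fun (exists_ret p D).choose_spec a

/-- Norm-compatible generator of the subfield with `p ^ e` elements (`e ∣ D`). -/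
noncomputable def gen (e : ℕ) : GaloisField p D :=
  (gF p D : GaloisField p D) ^ ((p ^ D - 1) / (p ^ e - 1))

/-- The trace to the prime field of `gen e ^ b`. -/
noncomputable def TT (e b : ℕ) : ZMod p := ret p D (∑ i ∈ range e, (gen p D e ^ b) ^ p ^ i)

/-- Minus the Gauss sum over the field with `p ^ e` elements of the multiplicative character
`gen e ↦ α` and the additive character `x ↦ ζ ^ (c * Tr x)`. -/
noncomputable def GS (e : ℕ) (c : ZMod p) (α : ℂ) : ℂ :=
  -∑ b ∈ range (p ^ e - 1), ZMod.stdAddChar (c * TT p D e b) * α ^ b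

/-- The multiset `α, α ^ p, …, α ^ p ^ (e - 1)`. -/
noncomputable def orb (e : ℕ) (α : ℂ) : Multiset ℂ := (Multiset.range e).map fun i => α ^ p ^ i

/-- `z` is the product of Gauss sums attached to a decomposition of `S` into Frobenius orbits. -/
inductive Rep : Multiset ℂ → ((ZMod p)ˣ → ℂ) → Prop
  | nil : Rep 0 1
  | cons (e : ℕ) (α : ℂ) (S : Multiset ℂ) (z : (ZMod p)ˣ → ℂ) : e ∣ D → α ^ (p ^ e - 1) = 1 →
      Rep S z → Rep (orb p e α + S) (fun c => GS p D e c α * z c)

/-- The product of Gauss sums attached to a Frobenius-stable multiset of roots of unity. -/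
noncomputable def gam (S : Multiset ℂ) : (ZMod p)ˣ → ℂ := Classical.epsilon (Rep p D S)

/-- A Frobenius-stable multiset of `(p ^ D - 1)`-th roots of unity. -/
def Good (S : Multiset ℂ) : Prop := (∀ α ∈ S, α ^ (p ^ D - 1) = 1) ∧ S.map (· ^ p) = S

/-- All `l`-th roots of the members of `S`. -/
noncomputable def rts (l : ℕ) (S : Multiset ℂ) : Multiset ℂ := S.bind (Polynomial.nthRoots l)

/-- First digit in base `p` of the fractional part of `A / (p ^ D - 1)`. -/
def dig (A : ℕ) : ℕ := p * (A % (p ^ D - 1)) / (p ^ D - 1)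

/-- The leading term `(c π) ^ k / k!` with `π = ζ - 1`. -/
noncomputable def wt (c : ZMod p) (k : ℕ) : ℂ :=
  ((c.val : ℂ) * (ZMod.stdAddChar (1 : ZMod p) - 1)) ^ k / (k.factorial : ℂ)

/-- `S` is the multiset of eigenvalues of `h` in a representation with character `χ`. -/
def IsEig {E : Type u} [Group E] (χ : E → ℂ) (h : E) (S : Multiset ℂ) : Prop :=
  ∀ k : ℕ, χ (h ^ k) = (S.map (· ^ k)).sum

noncomputable def eig {E : Type u} [Group E] (χ : E → ℂ) (h : E) : Multiset ℂ :=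
  Classical.epsilon (IsEig χ h)

/-- The class function `h ↦ γ (eigenvalues of h)`. -/
noncomputable def Gam {E : Type u} [Group E] (χ : E → ℂ) : (ZMod p)ˣ → E → ℂ :=
  fun c h => gam p D (eig χ h) c

/-- `ℤ[ζ_p]`-combinations of characters, together with all their conjugates `ζ ↦ ζ ^ c`. -/
noncomputable def Fam (E : Type u) [Group E] : AddSubgroup ((ZMod p)ˣ → E → ℂ) :=
  AddSubgroup.closure {f | ∃ (j : ZMod p) (χ : E → ℂ), IsCharacter E χ ∧
    f = fun (c : (ZMod p)ˣ) h => ZMod.stdAddChar ((c : ZMod p) * j) * χ h}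

/-- The sum of the first `e` Frobenius twists of `θ`. -/
noncomputable def frobSum {E : Type u} [Group E] (e : ℕ) (θ : E → ℂ) : E → ℂ :=
  fun h => ∑ i ∈ range e, θ (h ^ p ^ i)

end Cfsg.Kgv

set_option linter.all false in
theorem Cfsg.Rz.Kgv_Defs_0 : True := by
  have := @_root_.Cfsg.Kgv.orb.eq_def
  have := @_root_.Cfsg.Kgv.orb.eq_1
  have := @_root_.Cfsg.Kgv.orb.fun_cases
  have := @_root_.Cfsg.Kgv.Good.eq_def
  have := @_root_.Cfsg.Kgv.Good.eq_1
  have := @_root_.Cfsg.Kgv.Good.fun_cases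
  have := @_root_.Cfsg.Kgv.Rep.cons.congr_simp
  have := @_root_.Cfsg.Kgv.eig.eq_def.{0}
  have := @_root_.Cfsg.Kgv.eig.eq_1.{0}
  have := @_root_.Cfsg.Kgv.eig.fun_cases
  have := @_root_.Cfsg.Kgv.GS.congr_simp
  have := @_root_.Cfsg.Kgv.GS.eq_def
  have := @_root_.Cfsg.Kgv.GS.eq_1
  have := @_root_.Cfsg.Kgv.GS.fun_cases
  have := @_root_.Cfsg.Kgv.gam.eq_def
  have := @_root_.Cfsg.Kgv.gam.eq_1
  have := @_root_.Cfsg.Kgv.gam.fun_cases
  have := @_root_.Cfsg.Kgv.wt.congr_simp
  have := @_root_.Cfsg.Kgv.wt.eq_def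
  have := @_root_.Cfsg.Kgv.wt.eq_1
  have := @_root_.Cfsg.Kgv.wt.fun_cases
  have := @_root_.Cfsg.Kgv.frobSum.eq_def.{0}
  have := @_root_.Cfsg.Kgv.frobSum.eq_1.{0}
  have := @_root_.Cfsg.Kgv.frobSum.fun_cases
  have := @_root_.Cfsg.Kgv.gen.eq_def
  have := @_root_.Cfsg.Kgv.gen.eq_1
  have := @_root_.Cfsg.Kgv.gen.fun_cases
  have := @_root_.Cfsg.Kgv.Gam.eq_def.{0}
  have := @_root_.Cfsg.Kgv.Gam.eq_1.{0}
  have := @_root_.Cfsg.Kgv.Gam.fun_cases
  trivial

set_option linter.all false in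
theorem Cfsg.Rz.Kgv_Defs_1 : True := by
  have := @_root_.Cfsg.Kgv.TT.congr_simp
  have := @_root_.Cfsg.Kgv.TT.eq_def
  have := @_root_.Cfsg.Kgv.TT.eq_1
  have := @_root_.Cfsg.Kgv.TT.fun_cases
  have := @_root_.Cfsg.Kgv.dig.eq_def
  have := @_root_.Cfsg.Kgv.dig.eq_1
  have := @_root_.Cfsg.Kgv.dig.fun_cases
  have := @_root_.Cfsg.Kgv.IsEig.eq_def.{0}
  have := @_root_.Cfsg.Kgv.IsEig.eq_1.{0}
  have := @_root_.Cfsg.Kgv.IsEig.fun_cases
  have := @_root_.Cfsg.Kgv.ret.eq_def
  have := @_root_.Cfsg.Kgv.ret.eq_1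
  have := @_root_.Cfsg.Kgv.ret.fun_cases
  have := @_root_.Cfsg.Kgv.rts.eq_def
  have := @_root_.Cfsg.Kgv.rts.eq_1
  have := @_root_.Cfsg.Kgv.rts.fun_cases
  have := @_root_.Cfsg.Kgv.gF.eq_def
  have := @_root_.Cfsg.Kgv.gF.eq_1
  have := @_root_.Cfsg.Kgv.gF.fun_cases
  have := @_root_.Cfsg.Kgv.Fam.eq_def.{0}
  have := @_root_.Cfsg.Kgv.Fam.eq_1.{0}
  have := @_root_.Cfsg.Kgv.Fam.fun_cases
  trivial
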