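import Cfsg.Agent.Kgv.Tens
import Cfsg.Agent.Char.BrauerInd

/-!
# The ring of `ℤ[ζ_p]`-combinations of characters
-/

set_option autoImplicit false
set_option linter.unusedSectionVars false
set_option linter.unusedVariables false
set_option linter.style.haveILetI false

namespace Cfsg.Kgv

open Finset
open scoped ComplexConjugate

universe u v

variable {p : ℕ} [hp : Fact p.Prime] {E : Type u} [Group E] [Finite E]

theorem Fam.of_char {θ : E → ℂ} (h : IsCharacter E θ) (j : ZMod p) :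
    (fun (c : (ZMod p)ˣ) g => ZMod.stdAddChar ((c : ZMod p) * j) * θ g) ∈ Fam p E :=
  AddSubgroup.subset_closure ⟨j, θ, h, rfl⟩

theorem Fam.of_gen {θ : E → ℂ} (h : IsGeneralizedCharacter E θ) (j : ZMod p) :
    (fun (c : (ZMod p)ˣ) g => ZMod.stdAddChar ((c : ZMod p) * j) * θ g) ∈ Fam p E := by
  obtain ⟨χ, ψ, hχ, hψ, rfl⟩ := h
  convert sub_mem (Fam.of_char hχ j) (Fam.of_char hψ j) using 1
  ext c g; simp [mul_sub]

theorem Fam.const {θ : E → ℂ} (h : IsGeneralizedCharacter E θ) :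
    (fun _ : (ZMod p)ˣ => θ) ∈ Fam p E := by
  simpa using Fam.of_gen (p := p) h 0

theorem Fam.one : (1 : (ZMod p)ˣ → E → ℂ) ∈ Fam p E :=
  Fam.const (IrrCharacter.one E).isCharacter.isGen

theorem Fam.mul {f g : (ZMod p)ˣ → E → ℂ} (hf : f ∈ Fam p E) (hg : g ∈ Fam p E) :
    f * g ∈ Fam p E := by
  induction hf, hg using AddSubgroup.closure_induction₂ with
  | mem f g hf hg =>
    obtain ⟨i, χ, hχ, rfl⟩ := hf
    obtain ⟨j, ψ, hψ, rfl⟩ := hg
    convert Fam.of_char (hχ.mul hψ) (i + j) using 1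
    ext c g; simp only [Pi.mul_apply, mul_add, AddChar.map_add_eq_mul]; ring
  | zero_left => simp
  | zero_right => simp
  | add_left _ _ _ _ _ _ a b => rw [add_mul]; exact add_mem a b
  | add_right _ _ _ _ _ _ a b => rw [mul_add]; exact add_mem a b
  | neg_left _ _ _ _ a => rw [neg_mul]; exact neg_mem a
  | neg_right _ _ _ _ a => rw [mul_neg]; exact neg_mem a

theorem Fam.pow {f : (ZMod p)ˣ → E → ℂ} (hf : f ∈ Fam p E) (n : ℕ) : f ^ n ∈ Fam p E := by
  induction n with
  | zero => rw [pow_zero]; exact Fam.one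
  | succ n ih => rw [pow_succ]; exact Fam.mul ih hf

theorem Fam.prod {ι : Type*} {s : Finset ι} {f : ι → (ZMod p)ˣ → E → ℂ}
    (hf : ∀ i ∈ s, f i ∈ Fam p E) : ∏ i ∈ s, f i ∈ Fam p E :=
  Finset.prod_induction f (· ∈ Fam p E) (fun _ _ => Fam.mul) Fam.one hf

theorem Fam.isClassFunction {f : (ZMod p)ˣ → E → ℂ} (hf : f ∈ Fam p E) (c : (ZMod p)ˣ) :
    IsClassFunction E (f c) := by
  induction hf using AddSubgroup.closure_induction with
  | mem f hf =>
    obtain ⟨i, χ, hχ, rfl⟩ := hf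
    exact fun g h => congrArg (_ * ·) (hχ.isClassFunction g h)
  | zero => exact fun _ _ => rfl
  | add _ _ _ _ a b => exact a.add b
  | neg _ _ a => exact a.neg

theorem Fam.comp {E' : Type v} [Group E'] [Finite E'] {f : (ZMod p)ˣ → E → ℂ} (hf : f ∈ Fam p E)
    (φ : E' →* E) : (fun c => f c ∘ φ) ∈ Fam p E' := by
  induction hf using AddSubgroup.closure_induction with
  | mem f hf =>
    obtain ⟨i, χ, hχ, rfl⟩ := hf
    exact Fam.of_char (hχ.comp φ) i
  | zero => exact zero_mem _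
  | add _ _ _ _ a b => exact add_mem a b
  | neg _ _ a => exact neg_mem a

theorem Fam.ind {E' : Type v} [Group E'] [Finite E'] {f : (ZMod p)ˣ → E' → ℂ}
    (hf : f ∈ Fam p E') (φ : E' →* E) : (fun c => ind φ (f c)) ∈ Fam p E := by
  induction hf using AddSubgroup.closure_induction with
  | mem f hf =>
    obtain ⟨i, χ, hχ, rfl⟩ := hf
    convert Fam.of_char (hχ.ind φ) i using 2 with c
    exact ind_smul φ _ χ
  | zero => simp only [Pi.zero_apply, ind_zero]; exact zero_mem _
  | add _ _ _ _ a b => simp only [Pi.add_apply, ind_add]; exact add_mem a b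
  | neg _ _ a => simp only [Pi.neg_apply, ind_neg]; exact neg_mem a

theorem Fam.exists_coeff {f : (ZMod p)ˣ → E → ℂ} (hf : f ∈ Fam p E) {θ : E → ℂ}
    (hθ : IsGeneralizedCharacter E θ) : ∃ a : ZMod p → ℤ, ∀ c : (ZMod p)ˣ,
      ip (f c) θ = ∑ j, (a j : ℂ) * ZMod.stdAddChar ((c : ZMod p) * j) := by
  induction hf using AddSubgroup.closure_induction with
  | mem f hf =>
    obtain ⟨i, χ, hχ, rfl⟩ := hf
    obtain ⟨n, hn⟩ := hχ.isGen.exists_ip_eq_int hθ
    refine ⟨Pi.single i n, fun c => ?_⟩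
    rw [Finset.sum_eq_single i (fun j _ e => by simp [e]) (by simp), Pi.single_eq_same, ← hn,
      mul_comm]
    exact ip_smul_left _ χ θ
  | zero => exact ⟨0, fun c => by simp⟩
  | add _ _ _ _ a b =>
    obtain ⟨a, ha⟩ := a
    obtain ⟨b, hb⟩ := b
    exact ⟨a + b, fun c => by simp [ip_add_left, ha, hb, add_mul, Finset.sum_add_distrib]⟩
  | neg _ _ a =>
    obtain ⟨a, ha⟩ := a
    exact ⟨-a, fun c => by simp [ip_neg_left, ha]⟩

/-- Brauer's characterization. -/
theorem Fam.of_nilpotent {f : (ZMod p)ˣ → E → ℂ} (hf : ∀ c, IsClassFunction E (f c))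
    (h : ∀ L : Subgroup E, Group.IsNilpotent L → (fun c => f c ∘ L.subtype) ∈ Fam p L) :
    f ∈ Fam p E := by
  have h1 := brauer_one_mem_span (G := E)
  suffices ∀ φ ∈ _, (fun c => f c * φ) ∈ Fam p E by simpa [← Pi.one_def] using this _ h1
  intro φ hφ
  induction hφ using Submodule.span_induction with
  | mem φ hφ =>
    obtain ⟨q, L, ψ, hq, hL, hψ, rfl⟩ := hφ
    convert Fam.ind (Fam.mul (h L (hL.isNilpotent hq)) (Fam.const hψ.isGen)) L.subtype using 2
      with c
    exact (ind_comp_mul _ _ (hf c)).symm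
  | zero => simp only [mul_zero]; exact zero_mem _
  | add φ ψ _ _ a b => simp only [mul_add]; exact add_mem a b
  | smul r φ _ a => simp only [mul_smul_comm]; exact zsmul_mem a r

theorem extendByZero_congr {L : Subgroup E} {θ : L → ℂ} (hθ : IsClassFunction L θ) {y y' : E}
    (h : (y : E ⧸ L) = y') (u : E) :
    extendByZero L θ (y⁻¹ * u * y) = extendByZero L θ (y'⁻¹ * u * y') := by
  rw [← extendByZero_conj hθ _ (QuotientGroup.eq.1 h)]
  congr 1; group

theorem Fam.orbit_finset (L : Subgroup E) [L.Normal] {l : ℕ} (hl : l.Prime) (hi : L.index = l)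
    {x : E} (hx : x ∉ L) {I : Type v} (τ : Equiv.Perm I) (hτ : τ ^ l = 1)
    (f : I → (ZMod p)ˣ → L → ℂ) (hf : ∀ i, f i ∈ Fam p L)
    (hfx : ∀ i c, ∀ u ∈ L, extendByZero L (f (τ i) c) u = extendByZero L (f i c) (x⁻¹ * u * x))
    (S : Finset I) (hS : ∀ i ∈ S, τ⁻¹ i ∈ S) (hfree : ∀ i ∈ S, τ i ≠ i) :
    (fun c => extendByZero L (∑ i ∈ S, f i c)) ∈ Fam p E := by
  classical
  haveI := Fact.mk hl
  haveI := Fintype.ofFinite (E ⧸ L)
  obtain ⟨-, idx, i1, i2, i3⟩ := exists_idx L hl hi hx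
  have hl1 : l - 1 + 1 = l := Nat.sub_add_cancel hl.one_le
  induction S using Finset.strongInduction with | _ S ih
  rcases S.eq_empty_or_nonempty with rfl | ⟨i, hiS⟩
  · convert zero_mem (Fam p E) using 1
    ext c g
    by_cases hg : g ∈ L <;> simp [extendByZero_of_mem, extendByZero_of_notMem, hg]
  have hinv : τ⁻¹ = τ ^ (l - 1) := inv_eq_of_mul_eq_one_right (by rw [← pow_succ', hl1, hτ])
  have hpow : ∀ k, ((τ⁻¹) ^ k) i ∈ S := fun k => by
    induction k with
    | zero => exact hiS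
    | succ k ih => rw [pow_succ']; exact hS _ ih
  have hO : (range l).image (fun k => (τ ^ k) i) ⊆ S := fun j hj => by
    obtain ⟨k, hk, rfl⟩ := Finset.mem_image.1 hj
    have : τ ^ k = (τ⁻¹) ^ (l - k) := by
      rw [inv_pow, eq_inv_iff_mul_eq_one, ← pow_add, Nat.add_sub_cancel' (mem_range.1 hk).le, hτ]
    exact this ▸ hpow _
  have hinj : Set.InjOn (fun k => (τ ^ k) i) (range l : Finset ℕ) := by
    have := Function.minimalPeriod_eq_prime (f := τ) (x := i) (p := l)
      (by rw [Function.IsPeriodicPt, ← Equiv.Perm.coe_pow, hτ]; rfl) (hfree i hiS)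
    rw [Finset.coe_range, ← this]
    exact Function.iterate_injOn_Iio_minimalPeriod
  have hk : ∀ c k, ∀ u ∈ L, extendByZero L (f ((τ ^ k) i) c) u =
      extendByZero L (f i c) ((x ^ k)⁻¹ * u * x ^ k) := fun c k => by
    induction k with
    | zero => simp
    | succ k ih =>
      intro u hu
      rw [pow_succ', Equiv.Perm.mul_apply, hfx _ _ u hu,
        ih _ (by simpa using (inferInstance : L.Normal).conj_mem u hu x⁻¹)]
      congr 1; group
  have h1 := ih (S \ (range l).image fun k => (τ ^ k) i)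
    (Finset.sdiff_ssubset hO ⟨i, Finset.mem_image.2 ⟨0, mem_range.2 hl.pos, rfl⟩⟩)
    (fun j hj => Finset.mem_sdiff.2 ⟨hS j (Finset.mem_sdiff.1 hj).1, fun h => by
      obtain ⟨k, hk, e⟩ := Finset.mem_image.1 h
      refine (Finset.mem_sdiff.1 hj).2
        (Finset.mem_image.2 ⟨(k + 1) % l, mem_range.2 (Nat.mod_lt _ hl.pos), ?_⟩)
      rw [← pow_eq_pow_mod _ hτ, pow_succ', Equiv.Perm.mul_apply, e]; simp⟩)
    fun j hj => hfree j (Finset.mem_sdiff.1 hj).1
  convert add_mem h1 (Fam.ind (hf i) L.subtype) using 1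
  ext c g
  by_cases hg : g ∈ L
  · rw [Pi.add_apply, Pi.add_apply, ← Finset.sum_sdiff hO, Finset.sum_image hinj,
      ind_subtype_apply_eq_sum_section L (Fam.isClassFunction (hf i) c) _ i2,
      extendByZero_of_mem _ _ hg, extendByZero_of_mem _ _ hg, Pi.add_apply]
    congr 1
    rw [Finset.sum_apply]
    refine (Finset.sum_nbij' idx (fun k => ((x ^ k : E) : E ⧸ L)) (fun t _ => mem_range.2 (i1 t))
      (fun _ _ => mem_univ _) (fun t _ => i2 t) (fun k hk => i3 k (mem_range.1 hk))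
      fun t _ => ?_).symm
    rw [← hk c _ g hg, extendByZero_of_mem _ _ hg]
  · rw [Pi.add_apply, Pi.add_apply, ind_apply_eq_zero_of_normal _ _ L.range_subtype.le hg,
      extendByZero_of_notMem _ _ hg, extendByZero_of_notMem _ _ hg, add_zero]

/-- A sum over free orbits is a sum of induced functions. -/
theorem Fam.orbit (L : Subgroup E) [L.Normal] {l : ℕ} (hl : l.Prime) (hi : L.index = l) {x : E}
    (hx : x ∉ L) {I : Type v} [Fintype I] (τ : Equiv.Perm I) (hτ : τ ^ l = 1)
    (hfree : ∀ i, τ i ≠ i) (f : I → (ZMod p)ˣ → L → ℂ) (hf : ∀ i, f i ∈ Fam p L)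
    (hfx : ∀ i c, ∀ u ∈ L, extendByZero L (f (τ i) c) u = extendByZero L (f i c) (x⁻¹ * u * x)) :
    (fun c => extendByZero L (∑ i, f i c)) ∈ Fam p E :=
  Fam.orbit_finset L hl hi hx τ hτ f hf hfx univ (fun _ _ => mem_univ _) fun i _ => hfree i

open Classical in
/-- Tensor induction with coefficients. -/
theorem Fam.norm (L : Subgroup E) [L.Normal] {l : ℕ} (hl : l.Prime) (hi : L.index = l) {x : E}
    (hx : x ∉ L) (lu : (ZMod p)ˣ) (hlu : (lu : ZMod p) = l) {f : (ZMod p)ˣ → L → ℂ}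
    (hf : f ∈ Fam p L) {F : (ZMod p)ˣ → E → ℂ}
    (h1 : ∀ c, ∀ u ∈ L, F c u = ∏ k ∈ range l, extendByZero L (f c) ((x ^ k)⁻¹ * u * x ^ k))
    (h2 : ∀ c h, h ∉ L → F c h = extendByZero L (f (c * lu)) (h ^ l)) : F ∈ Fam p E := by
  haveI := Fintype.ofFinite (E ⧸ L)
  obtain ⟨i0, idx, i1, i2, i3⟩ := exists_idx L hl hi hx
  have hn : ∀ u ∈ L, ∀ y : E, y⁻¹ * u * y ∈ L := fun u hu y => by
    simpa using (inferInstance : L.Normal).conj_mem u hu y⁻¹
  have hp : ∀ h : E, h ^ l ∈ L := fun h => hi ▸ L.pow_index_mem h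
  have hre : ∀ {θ : L → ℂ}, IsClassFunction L θ → ∀ u, ∏ k ∈ range l, extendByZero L θ
      ((x ^ k)⁻¹ * u * x ^ k) = ∏ t : E ⧸ L, extendByZero L θ (t.out⁻¹ * u * t.out) :=
    fun hθ u => (Finset.prod_nbij' idx (fun k => ((x ^ k : E) : E ⧸ L))
      (fun t _ => mem_range.2 (i1 t)) (fun _ _ => mem_univ _) (fun t _ => i2 t)
      (fun k hk => i3 k (mem_range.1 hk))
      fun t _ => extendByZero_congr hθ (t.out_eq.trans (i2 t).symm) u).symm
  let N : ((ZMod p)ˣ → L → ℂ) → (ZMod p)ˣ → E → ℂ := fun f c h =>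
    if h ∈ L then ∏ t : E ⧸ L, extendByZero L (f c) (t.out⁻¹ * h * t.out)
    else extendByZero L (f (c * lu)) (h ^ l)
  have hF : F = N f := by
    ext c h
    by_cases hh : h ∈ L
    · simp only [N, if_pos hh, h1 c h hh, hre (Fam.isClassFunction hf c)]
    · simp only [N, if_neg hh, h2 c h hh]
  have N0 : N 0 = 0 := by
    ext c h
    by_cases hh : h ∈ L
    · simp only [N, if_pos hh]
      exact Finset.prod_eq_zero (mem_univ 1) (extendByZero_of_mem _ _ (hn h hh _))
    · simp only [N, if_neg hh]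
      exact extendByZero_of_mem _ _ (hp h)
  have key : ∀ f ∈ Fam p L, ∀ g ∈ Fam p L, N (f + g) - N f - N g ∈ Fam p E := by
    intro f hf g hg
    let w : Bool → (ZMod p)ˣ → L → ℂ := fun b => if b then f else g
    have hw : ∀ b, w b ∈ Fam p L := fun b => by cases b; exacts [hg, hf]
    let Φ : (E ⧸ L → Bool) → (ZMod p)ˣ → L → ℂ := fun s =>
      ∏ t : E ⧸ L, fun c => w (s t) c ∘ (MulAut.conjNormal (H := L) t.out⁻¹).toMonoidHom
    have hΦ : ∀ s c, ∀ u ∈ L, extendByZero L (Φ s c) u =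
        ∏ t : E ⧸ L, extendByZero L (w (s t) c) (t.out⁻¹ * u * t.out) := fun s c u hu => by
      simp only [Φ, extendByZero_of_mem _ _ hu, Finset.prod_apply, Function.comp_apply]
      refine Finset.prod_congr rfl fun t _ => ?_
      rw [extendByZero_of_mem _ _ (hn u hu _)]
      exact congrArg _ (Subtype.ext (by simp))
    let τ : Equiv.Perm (E ⧸ L → Bool) := (Equiv.mulLeft (x : E ⧸ L)).arrowCongr (Equiv.refl _)
    have hτ : ∀ k s t, (τ ^ k) s ((x : E ⧸ L) ^ k * t) = s t := fun k => by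
      induction k with
      | zero => simp
      | succ k ih => intro s t; rw [pow_succ', pow_succ', ← ih s t]; simp [τ, mul_assoc]
    have h3 := Fam.orbit_finset L hl hi hx τ (by
        ext s t
        have := hτ l s t
        rwa [← QuotientGroup.mk_pow, i0, one_mul] at this) Φ
      (fun s => Fam.prod fun t _ => Fam.comp (hw _) _) (fun s c u hu => by
        rw [hΦ _ _ _ hu, hΦ _ _ _ (hn u hu x), ← Equiv.prod_comp (Equiv.mulLeft (x : E ⧸ L))]
        refine Finset.prod_congr rfl fun t _ => ?_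
        rw [extendByZero_congr (Fam.isClassFunction (hw _) c) (y' := x * t.out) (by simp)]
        simp [τ, mul_assoc])
      ((univ.erase fun _ => true).erase fun _ => false) (fun s hs => by
        simp only [Finset.mem_erase, mem_univ, and_true] at hs ⊢
        exact ⟨fun e => hs.1 (by rw [Equiv.Perm.inv_eq_iff_eq.1 e]; rfl),
          fun e => hs.2 (by rw [Equiv.Perm.inv_eq_iff_eq.1 e]; rfl)⟩) fun s hs e => by
        simp only [Finset.mem_erase, mem_univ, and_true] at hs
        have h4 : ∀ t, s t = s 1 := fun t => by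
          rw [← hτ (idx t) s 1, Equiv.Perm.pow_apply_eq_self_of_apply_eq_self e,
            ← QuotientGroup.mk_pow, i2, mul_one]
        cases h5 : s 1
        exacts [hs.1 (funext fun t => (h4 t).trans h5), hs.2 (funext fun t => (h4 t).trans h5)]
    convert h3 using 1
    ext c h
    by_cases hh : h ∈ L
    · have h5 : ∀ t : E ⧸ L, extendByZero L ((f + g) c) (t.out⁻¹ * h * t.out) =
          ∑ b, extendByZero L (w b c) (t.out⁻¹ * h * t.out) := fun t => by
        simp [w, extendByZero_of_mem _ _ (hn h hh _)]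
      have h6 : ∀ s, Φ s c ⟨h, hh⟩ = _ := fun s => (extendByZero_of_mem _ _ hh).symm.trans
        (hΦ s c h hh)
      simp only [N, Pi.sub_apply, if_pos hh, h5, extendByZero_of_mem _ _ hh, Finset.sum_apply, h6]
      rw [Finset.prod_univ_sum, Fintype.piFinset_univ, Finset.sum_erase_eq_sub,
        Finset.sum_erase_eq_sub (mem_univ _)]
      · simp [w]
      · simp [funext_iff]
    · simp [N, if_neg hh, extendByZero_of_notMem _ _ hh, extendByZero_of_mem _ _ (hp h)]
  rw [hF]
  clear hF h1 h2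
  induction hf using AddSubgroup.closure_induction with
  | mem f hf =>
    obtain ⟨j, χ, hχ, rfl⟩ := hf
    obtain ⟨T, hT, t1, t2⟩ := exists_tens L hl hi hx hχ
    convert Fam.of_char hT (l * j : ZMod p) using 1
    ext c h
    by_cases hh : h ∈ L
    · rw [t1 h hh, hre hχ.isClassFunction]
      simp only [N, if_pos hh, extendByZero_of_mem _ _ (hn h hh _), Finset.prod_mul_distrib,
        Finset.prod_const]
      rw [Finset.card_univ, ← Nat.card_eq_fintype_card, ← Subgroup.index, hi,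
        ← AddChar.map_nsmul_eq_pow, nsmul_eq_mul, mul_left_comm]
    · simp only [N, if_neg hh, t2 h hh, extendByZero_of_mem _ _ (hp h), Units.val_mul, hlu,
        mul_assoc]
  | zero => exact N0 ▸ zero_mem _
  | add f g hf hg a b => simpa using add_mem (add_mem (key f hf g hg) b) a
  | neg f hf a => simpa [N0] using neg_mem (add_mem (key f hf _ (neg_mem hf)) a)

end Cfsg.Kgv
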