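import Cfsg.Agent.FT.FixChar
import Cfsg.Agent.Char.Galois
import Cfsg.Agent.Char.FrobeniusGroup
import Cfsg.Agent.Grp.Hall
import Cfsg.Agent.Grp.Frattini
import Mathlib.Analysis.SpecialFunctions.Complex.CircleAddChar
import Mathlib.LinearAlgebra.Matrix.Charpoly.FiniteField
import Mathlib.GroupTheory.CommutingProbability

/-!
# Auxiliary facts for the `k(GV)` theorem
-/

set_option autoImplicit false
set_option linter.unusedSectionVars false
set_option linter.unusedVariables false
set_option linter.style.haveILetI false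

namespace Cfsg.Kgv

open Finset
open scoped ComplexConjugate TensorProduct IsMulCommutative

universe u v

variable {p : ℕ} [hp : Fact p.Prime]

theorem card_le_sum_of_one_le_prod {ι : Type*} [Fintype ι] {x : ι → ℝ} (hx : ∀ i, 0 < x i)
    (h : 1 ≤ ∏ i, x i) : (Fintype.card ι : ℝ) ≤ ∑ i, x i := by
  have h1 : 0 ≤ ∑ i, Real.log (x i) := by
    rw [← Real.log_prod fun i _ => (hx i).ne']
    exact Real.log_nonneg h
  have h2 : ∑ i, Real.log (x i) ≤ ∑ i, (x i - 1) :=
    sum_le_sum fun i _ => Real.log_le_sub_one_of_pos (hx i)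
  rw [sum_sub_distrib, sum_const, card_univ, nsmul_eq_mul, mul_one] at h2
  linarith

theorem stdAddChar_pow_p (x : ZMod p) : ZMod.stdAddChar x ^ p = 1 := by
  rw [← AddChar.map_nsmul_eq_pow, nsmul_eq_mul, ZMod.natCast_self, zero_mul,
    AddChar.map_zero_eq_one]

/-- A nonzero element of `ℤ[ζ_p]` has mean square of the conjugates at least one. -/
theorem card_le_sum_norm_sq (a : ZMod p → ℤ) {F : (ZMod p)ˣ → ℂ}
    (hF : ∀ c, F c = ∑ j, (a j : ℂ) * ZMod.stdAddChar ((c : ZMod p) * j)) (h0 : ∀ c, F c ≠ 0) :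
    (Fintype.card (ZMod p)ˣ : ℝ) ≤ ∑ c, ‖F c‖ ^ 2 := by
  refine card_le_sum_of_one_le_prod (fun c => pow_pos (norm_pos_iff.2 (h0 c)) 2) ?_
  have hi : IsIntegral ℤ (∏ c, F c) := IsIntegral.prod _ fun c _ => by
    rw [hF]
    exact IsIntegral.sum _ fun j _ => (isIntegral_algebraMap (x := a j)).mul
      (isIntegral_of_pow_eq_one hp.out.ne_zero (stdAddChar_pow_p _))
  obtain ⟨m, hm⟩ := exists_int_of_forall_ringEquiv_fix hi fun σ => by
    obtain ⟨k, hk, hσ⟩ := ringEquiv_exists_pow σ hp.out.ne_zero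
    rw [map_prod]
    refine Fintype.prod_equiv (Equiv.mulLeft (ZMod.unitOfCoprime k hk)) _ _ fun c => ?_
    rw [hF, hF, map_sum]
    refine sum_congr rfl fun j _ => ?_
    rw [map_mul, map_intCast, hσ _ (stdAddChar_pow_p _), ← AddChar.map_nsmul_eq_pow]
    simp [mul_assoc]
  have hm0 : m ≠ 0 := by
    rintro rfl
    exact prod_ne_zero_iff.2 (fun c _ => h0 c) (by simpa using hm)
  rw [prod_pow, ← norm_prod, hm, Complex.norm_intCast]
  refine one_le_pow₀ ?_
  exact_mod_cast Int.one_le_abs hm0

theorem exists_lift_rep {H : Type u} [Group H] [Finite H]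
    (hH : ¬ p ∣ Nat.card H) {V : Type v} [AddCommGroup V] [Module (ZMod p) V] [Finite V]
    (ρ : Representation (ZMod p) H V) :
    ∃ χ : H → ℂ, IsCharacter H χ ∧ (∀ h, χ (h ^ p) = χ h) ∧
      ∀ L : Subgroup H, ip (χ ∘ L.subtype) (fun _ => 1) =
      Module.finrank (ZMod p) (Representation.invariants (ρ.comp L.subtype)) := by
  obtain ⟨M, hM⟩ := exists_isPModular hp.out
  haveI := hM.charP
  letI : Algebra (ZMod p) (ResK M) := ZMod.algebra _ p
  let σ : Representation (ResK M) H (ResK M ⊗[ZMod p] V) :=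
    (Module.End.baseChangeHom (ZMod p) (ResK M) V).toMonoidHom.comp ρ
  have hreg : ∀ g : H, IsPRegular p g := fun g h => hH (h.trans (orderOf_dvd_natCard g))
  refine ⟨brauerChar p M σ, (isBrauerChar_iff_of_not_dvd hM hH).1 (isBrauerChar_of_rep σ),
    fun g => ?_, fun L => ?_⟩
  · rw [brauerChar_of_reg _ (hreg _), brauerChar_of_reg _ (hreg _)]
    have e : ∀ g, σ g = LinearMap.baseChange (ResK M) (ρ g) := fun _ => rfl
    let b := Module.Free.chooseBasis (ZMod p) V
    rw [e, e, LinearMap.charpoly_baseChange, LinearMap.charpoly_baseChange,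
      ← LinearMap.charpoly_toMatrix _ b, ← LinearMap.charpoly_toMatrix _ b, map_pow,
      ← LinearMap.toMatrix_pow, ZMod.charpoly_pow_card]
  haveI := Fintype.ofFinite L
  have hL : ¬ p ∣ Nat.card L := fun h => hH (h.trans L.card_subgroup_dvd_card)
  have h1 : brauerChar p M σ ∘ L.subtype = brauerChar p M (σ.comp L.subtype :
      Representation (ResK M) L _) := by
    rw [brauerChar_comp, pRegularPart_eq_self_of_not_dvd_card hL]
  have hK : (Fintype.card L : ResK M) ≠ 0 := by
    rwa [Ne, CharP.cast_eq_zero_iff (ResK M) p, ← Nat.card_eq_fintype_card]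
  have hK' : (Fintype.card L : ZMod p) ≠ 0 := by
    rwa [Ne, CharP.cast_eq_zero_iff (ZMod p) p, ← Nat.card_eq_fintype_card]
  rw [h1, Agent.FT.ip_brauerChar_one hM hL, Agent.FT.finrank_invariants_eq hK,
    Agent.FT.finrank_invariants_eq hK']
  have h2 : ((Fintype.card L : Module.End (ResK M) (ResK M ⊗[ZMod p] V)) -
      ∑ h, (σ.comp L.subtype) h) = LinearMap.baseChange (ResK M)
        ((Fintype.card L : Module.End (ZMod p) V) - ∑ h, (ρ.comp L.subtype) h) := by
    change _ = Module.End.baseChangeHom (ZMod p) (ResK M) V _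
    rw [map_sub, map_natCast, map_sum]
    rfl
  rw [h2, LinearMap.charpoly_baseChange, ← map_zero (algebraMap (ZMod p) (ResK M)),
    ← Polynomial.eq_rootMultiplicity_map (algebraMap (ZMod p) (ResK M)).injective]

theorem exists_lift_addRep {H : Type u} [Group H] [Finite H]
    (hH : ¬ p ∣ Nat.card H) {V : Type v} [AddCommGroup V] [Finite V] (hV : ∀ v : V, p • v = 0)
    (ρ : H →* AddMonoid.End V) :
    ∃ χ : H → ℂ, IsCharacter H χ ∧ (∀ h, χ (h ^ p) = χ h) ∧ ∀ L : Subgroup H,
      Nat.card {v : V // ∀ l ∈ L, ρ l v = v} = p ^ ipNat (χ ∘ L.subtype) (fun _ => 1) := by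
  haveI : Module (ZMod p) V := AddCommGroup.zmodModule hV
  let σ : H →* Module.End (ZMod p) V :=
    { toFun := fun a => AddMonoidHom.toZModLinearMap p (ρ a)
      map_one' := by rw [map_one]; rfl
      map_mul' := fun a b => by rw [map_mul]; rfl }
  obtain ⟨χ, hχ, hF, h⟩ := exists_lift_rep hH σ
  refine ⟨χ, hχ, hF, fun L => ?_⟩
  rw [ipNat_eq_of_ip_eq (h L)]
  have := Module.natCard_eq_pow_finrank (K := ZMod p)
    (V := Representation.invariants (σ.comp L.subtype))
  rw [Nat.card_zmod] at this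
  rw [← this]
  exact Nat.card_congr (Equiv.subtypeEquivRight fun v =>
    ⟨fun h l => h l l.2, fun h l hl => h ⟨l, hl⟩⟩)

theorem exists_lift_abelem {G : Type u} [Group G] [Finite G] {V A : Subgroup G}
    (hV : IsElementaryAbelian p V) (hn : A ≤ Subgroup.normalizer (V : Set G))
    (hA : ¬ p ∣ Nat.card A) : ∃ χ : A → ℂ, IsCharacter A χ ∧ (∀ h, χ (h ^ p) = χ h) ∧
      ∀ L : Subgroup A, Nat.card (V ⊓ Subgroup.centralizer (L.map A.subtype : Set G) :
        Subgroup G) = p ^ Agent.FT.fxDim χ L := by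
  haveI := hV.1
  obtain ⟨χ, hχ, hF, h⟩ := exists_lift_addRep hA (V := Additive V) (fun v =>
    Additive.toMul.injective (Subtype.ext (by simpa using hV.2 _ v.toMul.2)))
    ((FpfEnd.conjRep V).comp (Subgroup.inclusion hn))
  refine ⟨χ, hχ, hF, fun L => ?_⟩
  rw [Agent.FT.fxDim, ← h L]
  refine Nat.card_congr
    { toFun := fun x => ⟨Additive.ofMul ⟨x.1, x.2.1⟩, fun l hl =>
        FpfEnd.conjRep_eq_iff.2 (x.2.2 _ ⟨l, hl, rfl⟩)⟩
      invFun := fun v => ⟨v.1.toMul, v.1.toMul.2, by
        rintro _ ⟨l, hl, rfl⟩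
        exact FpfEnd.conjRep_eq_iff.1 (v.2 l hl)⟩
      left_inv := fun _ => rfl
      right_inv := fun _ => rfl }

section Classes

variable {G : Type u} [Group G] [Finite G]

theorem sum_card_centralizer [Fintype G] :
    ∑ g : G, Nat.card (Subgroup.centralizer ({g} : Set G)) =
      Nat.card (ConjClasses G) * Nat.card G := by
  rw [← card_comm_eq_card_conjClasses_mul_card, ← Nat.card_sigma]
  exact Nat.card_congr
    { toFun := fun x => ⟨(x.2.1, x.1), Subgroup.mem_centralizer_singleton_iff.1 x.2.2⟩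
      invFun := fun x => ⟨x.1.2, x.1.1, Subgroup.mem_centralizer_singleton_iff.2 x.2⟩
      left_inv := fun _ => rfl
      right_inv := fun _ => rfl }

theorem card_centralizer_le {Q : Type v} [Group Q] [Finite Q] (π : G →* Q) (g : G) :
    Nat.card (Subgroup.centralizer ({g} : Set G)) ≤
      Nat.card (π.ker ⊓ Subgroup.centralizer ({g} : Set G) : Subgroup G) *
        Nat.card (Subgroup.centralizer ({π g} : Set Q)) := by
  set C := Subgroup.centralizer ({g} : Set G)
  rw [← (π.domRestrict C).ker.card_mul_index, Subgroup.index_ker, MonoidHom.ker_domRestrict,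
    MonoidHom.domRestrict_range, ← Subgroup.inf_subgroupOf_right,
    Nat.card_congr (Subgroup.subgroupOfEquivOfLe inf_le_right).toEquiv]
  refine Nat.mul_le_mul_left _ (Subgroup.card_le_of_le ?_)
  rintro _ ⟨x, hx, rfl⟩
  rw [Subgroup.mem_centralizer_singleton_iff, ← map_mul, ← map_mul,
    Subgroup.mem_centralizer_singleton_iff.1 hx]

/-- The pairs `(x, n)` with `x` in a fibre of `π`, `n` in the kernel, that commute. -/
theorem sum_fiber_card_le {Q : Type v} [Group Q] [Fintype G] [DecidableEq Q] (π : G →* Q) (q : Q) :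
    ∑ x ∈ univ.filter (fun x => π x = q),
      Nat.card (π.ker ⊓ Subgroup.centralizer ({x} : Set G) : Subgroup G) ≤
      Nat.card (ConjClasses π.ker) * Nat.card π.ker := by
  classical
  have h1 : ∀ x : G, Nat.card (π.ker ⊓ Subgroup.centralizer ({x} : Set G) : Subgroup G) =
      ∑ n : π.ker, if Commute (n : G) x then 1 else 0 := fun x => by
    rw [← card_filter, ← Fintype.card_subtype, ← Nat.card_eq_fintype_card]
    exact Nat.card_congr
      { toFun := fun y => ⟨⟨y.1, y.2.1⟩, Subgroup.mem_centralizer_singleton_iff.1 y.2.2⟩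
        invFun := fun y => ⟨y.1.1, y.1.2, Subgroup.mem_centralizer_singleton_iff.2 y.2⟩
        left_inv := fun _ => rfl
        right_inv := fun _ => rfl }
  rw [sum_congr rfl fun x _ => h1 x, sum_comm, ← sum_card_centralizer]
  refine sum_le_sum fun n _ => ?_
  rw [← card_filter, filter_filter]
  rcases (univ.filter fun x => π x = q ∧ Commute (n : G) x).eq_empty_or_nonempty with h | ⟨y, hy⟩
  · rw [h, card_empty]; exact Nat.zero_le _
  · rw [mem_filter] at hy
    rw [← Fintype.card_subtype, ← Nat.card_eq_fintype_card]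
    refine Nat.card_le_card_of_injective (fun x => (⟨⟨y⁻¹ * x.1, by
      rw [MonoidHom.mem_ker, map_mul, map_inv, hy.2.1, x.2.1, inv_mul_cancel]⟩,
      Subgroup.mem_centralizer_singleton_iff.2 (Subtype.ext
        (hy.2.2.inv_right.mul_right x.2.2).eq.symm)⟩ : Subgroup.centralizer ({n} : Set π.ker)))
      fun x x' h => Subtype.ext ?_
    exact mul_left_cancel (congrArg (fun z : Subgroup.centralizer ({n} : Set π.ker) =>
      ((z : π.ker) : G)) h)

/-- `k(G) ≤ k(N) k(G / N)`. -/
theorem card_conjClasses_le_mul (N : Subgroup G) [N.Normal] :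
    Nat.card (ConjClasses G) ≤ Nat.card (ConjClasses N) * Nat.card (ConjClasses (G ⧸ N)) := by
  classical
  cases nonempty_fintype G
  have hk := QuotientGroup.ker_mk' N
  have h1 := sum_card_centralizer (G := G)
  have h2 := sum_card_centralizer (G := G ⧸ N)
  have h3 : ∑ g : G, Nat.card (Subgroup.centralizer ({g} : Set G)) ≤
      Nat.card (ConjClasses N) * Nat.card N *
        ∑ q : G ⧸ N, Nat.card (Subgroup.centralizer ({q} : Set (G ⧸ N))) := by
    rw [← sum_fiberwise univ (QuotientGroup.mk' N), mul_sum]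
    refine sum_le_sum fun q _ => ?_
    refine (sum_le_sum fun x hx => card_centralizer_le (QuotientGroup.mk' N) x).trans ?_
    rw [sum_congr rfl fun x hx => by rw [(mem_filter.1 hx).2], ← sum_mul]
    refine Nat.mul_le_mul_right _ ?_
    have := sum_fiber_card_le (QuotientGroup.mk' N) q
    rwa [show Nat.card (ConjClasses (QuotientGroup.mk' N).ker) *
      Nat.card (QuotientGroup.mk' N).ker = Nat.card (ConjClasses N) * Nat.card N by rw [hk]] at this
  rw [h1, h2, Subgroup.card_eq_card_quotient_mul_card_subgroup N] at h3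
  refine Nat.le_of_mul_le_mul_right (c := Nat.card (G ⧸ N) * Nat.card N) ?_
    (Nat.mul_pos Nat.card_pos Nat.card_pos)
  refine h3.trans (le_of_eq ?_)
  ring

theorem card_conjClasses_le_card : Nat.card (ConjClasses G) ≤ Nat.card G :=
  Nat.card_le_card_of_surjective ConjClasses.mk ConjClasses.mk_surjective

theorem card_conjClasses_congr {Q : Type v} [Group Q] (e : G ≃* Q) :
    Nat.card (ConjClasses G) = Nat.card (ConjClasses Q) := by
  refine Nat.card_congr (Quotient.congr e.toEquiv fun a b => ?_)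
  change IsConj a b ↔ IsConj (e a) (e b)
  refine ⟨fun h => e.toMonoidHom.map_isConj h, fun h => ?_⟩
  simpa using e.symm.toMonoidHom.map_isConj h

theorem card_conjClasses_le_mul_ker {Q : Type v} [Group Q] (π : G →* Q)
    (hπ : Function.Surjective π) :
    Nat.card (ConjClasses G) ≤ Nat.card (ConjClasses π.ker) * Nat.card (ConjClasses Q) := by
  rw [← card_conjClasses_congr (QuotientGroup.quotientKerEquivOfSurjective π hπ)]
  exact card_conjClasses_le_mul _

theorem card_le_pow_factorization {P N : Subgroup G} (hP : IsPGroup p P) (h : P ≤ N) :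
    Nat.card P ≤ p ^ (Nat.card N).factorization p := by
  obtain ⟨k, hk⟩ := hP.exists_card_eq
  have := Subgroup.card_dvd_of_le h
  rw [hk] at this ⊢
  exact Nat.pow_le_pow_right hp.out.pos
    ((hp.out.pow_dvd_iff_le_factorization Nat.card_pos.ne').1 this)

/-- Passing to the quotient by the Frattini subgroup of `O_p(G)` preserves `O_{p'}(G) = 1`. -/
theorem pPrimeCore_quotient_frattiniOf (hG : IsPSolvable p G) (h0 : pPrimeCore p G = ⊥) :
    pPrimeCore p (G ⧸ frattiniOf (pCore p G)) = ⊥ := by
  have hP := isPGroup_pCore p G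
  obtain ⟨H, hH, e⟩ := hG.isPiSeparable_compl.exists_map_eq
    (QuotientGroup.mk'_surjective (frattiniOf (pCore p G)))
    (X := pPrimeCore p (G ⧸ frattiniOf (pCore p G)))
    (isPiGroup_compl_singleton_iff.2 (not_dvd_card_pPrimeCore p _))
  have hH' := isPiGroup_compl_singleton_iff.1 hH
  have h1 : pCore p G ≤ Subgroup.centralizer (H : Set G) :=
    (isCoprimeAction_of_isPGroup_right (Subgroup.le_normalizer_of_normal) hP
      hH').le_centralizer_of_commutator_le_frattiniOf (by
        rw [← QuotientGroup.ker_mk' (frattiniOf (pCore p G)), ← Subgroup.map_eq_bot_iff,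
          Subgroup.map_commutator, e, Subgroup.commutator_eq_bot_iff_le_centralizer,
          map_pCore_quotient (hP.to_le (frattiniOf_le _))]
        exact pCore_le_centralizer_pPrimeCore)
  have h2 : H ≤ pCore p G :=
    (Subgroup.le_centralizer_iff.1 h1).trans (hG.centralizer_pCore_le h0)
  have h3 := inf_eq_bot_of_isPGroup_of_not_dvd hP hH'
  rw [inf_eq_right.2 h2] at h3
  rw [← e, h3, Subgroup.map_bot]

end Classes

end Cfsg.Kgv
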