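import Cfsg.Agent.Kgv.Nilp
import Cfsg.Agent.FT.FixChar
import Cfsg.Agent.Grp.PSolvable
import Cfsg.Agent.Kgv.MainA

/-!
# Knörr's inequality and the `k(GV)` theorem
-/

set_option autoImplicit false
set_option linter.unusedSectionVars false
set_option linter.unusedVariables false
set_option linter.style.haveILetI false

namespace Cfsg.Kgv

open Finset
open scoped ComplexConjugate

universe u v

variable {p : ℕ} [hp : Fact p.Prime]

theorem sum_zpowers_eq {H : Type u} [Group H] [Finite H] (h : H) [Fintype (Subgroup.zpowers h)]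
    (f : H → ℂ) : ∑ x : Subgroup.zpowers h, f x = ∑ k ∈ range (orderOf h), f (h ^ k) := by
  rw [sum_range]
  exact (Fintype.sum_equiv (finEquivZPowers (isOfFinOrder_of_finite h)) _ _ fun k => rfl).symm

open Classical in
theorem count_one_eig {H : Type u} [Group H] [Finite H] {χ : H → ℂ} (hχ : IsCharacter H χ)
    (h : H) : (eig χ h).count 1 = Agent.FT.fxDim χ (Subgroup.zpowers h) := by
  cases nonempty_fintype (Subgroup.zpowers h)
  have h1 := Agent.FT.card_mul_fxDim hχ (Subgroup.zpowers h)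
  have h2 : ∀ S : Multiset ℂ, (∀ α ∈ S, α ^ orderOf h = 1) →
      ∑ k ∈ range (orderOf h), (S.map (· ^ k)).sum = orderOf h * (S.count 1 : ℂ) := by
    intro S
    induction S using Multiset.induction_on with
    | empty => simp
    | cons α S ih =>
      intro hS
      simp only [Multiset.map_cons, Multiset.sum_cons, sum_add_distrib, Multiset.count_cons,
        ih fun β hβ => hS β (Multiset.mem_cons_of_mem hβ)]
      split_ifs with e
      · subst e
        simp [mul_add, add_comm]
      · have := mul_neg_geom_sum α (orderOf h)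
        rw [hS α (Multiset.mem_cons_self _ _), sub_self] at this
        rw [(mul_eq_zero.1 this).resolve_left (sub_ne_zero.2 e)]
        simp
  rw [sum_zpowers_eq, sum_congr rfl fun k _ => isEig_eig hχ h k, h2 _ (eig_pow_orderOf hχ h),
    Nat.card_zpowers] at h1
  exact_mod_cast (mul_left_cancel₀ (Nat.cast_ne_zero.2 (orderOf_pos h).ne') h1).symm

/-- Knörr's inequality. -/
theorem knorr {H : Type u} [Group H] [Fintype H] (hH : ¬ p ∣ Nat.card H) {χ : H → ℂ}
    (hχ : IsCharacter H χ) (hF : ∀ h, χ (h ^ p) = χ h) (hf : ∀ h, χ h = χ 1 → h = 1)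
    {θ : H → ℂ} (hθ : IsCharacter H θ) (h1 : ¬ p ∣ charDegree θ) :
    (Nat.card (ConjClasses H) : ℝ) * Nat.card H ≤
      ∑ h, (p : ℝ) ^ (charDegree χ - Agent.FT.fxDim χ (Subgroup.zpowers h)) * ‖θ h‖ ^ 2 := by
  classical
  obtain ⟨D, hD'⟩ : ∃ D, D = (Nat.card H).totient := ⟨_, rfl⟩
  have hD : D ≠ 0 := hD' ▸ (Nat.totient_pos.2 Nat.card_pos).ne'
  have hE : ∀ h : H, h ^ (p ^ D - 1) = 1 := fun h => by
    have := Nat.ModEq.pow_totient (hp.out.coprime_iff_not_dvd.2 hH)
    rw [← hD'] at this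
    obtain ⟨k, hk⟩ := (Nat.modEq_iff_dvd' (Nat.one_le_pow _ _ hp.out.pos)).1 this.symm
    rw [hk, pow_mul, pow_card_eq_one', one_pow]
  have hgood := good_eig hE hχ hF
  obtain ⟨f, hfd⟩ : ∃ f : (ZMod p)ˣ → H → ℂ, f = fun c h => Gam p D χ c h * θ h := ⟨_, rfl⟩
  have hfam : f ∈ Fam p H := by
    have := Fam.mul (Gam_mem hD hE hχ hF) (Fam.of_gen hθ.isGen 0)
    simp only [mul_zero, AddChar.map_zero_eq_one, one_mul] at this
    rw [hfd]
    exact this
  obtain ⟨M, hM⟩ := exists_isPModular hp.out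
  have hne : ∀ (ψ : IrrCharacter H) (c : (ZMod p)ˣ), ip (f c) ψ.1 ≠ 0 := fun ψ c h0 => by
    rw [ip_def, mul_eq_zero, inv_eq_zero, ← add_sum_erase _ _ (mem_univ (1 : H))] at h0
    have h2 := h0.resolve_left (natCard_cast_ne_zero H)
    have h3 : vM M (∑ h ∈ univ.erase (1 : H), f c h * conj (ψ.1 h)) < 1 := by
      refine vM_sum_lt_one fun h hh => ?_
      obtain ⟨α, hα, hα1⟩ : ∃ α ∈ eig χ h, α ≠ 1 := by
        by_contra hcon
        push Not at hcon
        refine (mem_erase.1 hh).1 (hf h ?_)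
        have e1 := isEig_eig hχ h 1
        have e2 := isEig_eig hχ h 0
        rw [pow_one] at e1
        rw [pow_zero] at e2
        rw [e1, e2]
        exact congrArg Multiset.sum (Multiset.map_congr rfl fun α hα => by simp [hcon α hα])
      rw [hfd]
      exact vM_mul_lt_one (vM_mul_lt_one (red_gam_eq_zero hD hM (hgood h) hα hα1 c)
        (mem_locO_of_isIntegral (hθ.isIntegral h)))
        (mem_locO_of_isIntegral (isIntegral_conj (ψ.isIntegral h)))
    have h4 : f c 1 * conj (ψ.1 1) = ((charDegree θ * charDegree ψ.1 : ℕ) : ℂ) := by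
      have e : eig χ (1 : H) = Multiset.replicate (Multiset.card (eig χ (1 : H))) 1 :=
        Multiset.eq_replicate_card.2 fun α hα => by simpa using eig_pow_orderOf hχ 1 α hα
      rw [hfd]
      dsimp only [Gam]
      rw [e, gam_replicate_one hD, hθ.apply_one, ψ.isCharacter.apply_one]
      simp
    rw [h4, add_eq_zero_iff_neg_eq] at h2
    rw [← h2, Valuation.map_neg, hM.vM_natCast_lt_one_iff, hp.out.dvd_mul] at h3
    exact h3.elim h1 fun h => hH (h.trans ψ.charDegree_dvd_card)
  have hcoef : ∀ ψ : IrrCharacter H,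
      (Fintype.card (ZMod p)ˣ : ℝ) ≤ ∑ c, ‖ip (f c) ψ.1‖ ^ 2 := fun ψ => by
    obtain ⟨a, ha⟩ := Fam.exists_coeff hfam ψ.isCharacter.isGen
    exact card_le_sum_norm_sq a ha (hne ψ)
  have hpar : ∀ c, ∑ ψ : IrrCharacter H, ‖ip (f c) ψ.1‖ ^ 2 = (Nat.card H : ℝ)⁻¹ *
      ∑ h, (p : ℝ) ^ (charDegree χ - Agent.FT.fxDim χ (Subgroup.zpowers h)) * ‖θ h‖ ^ 2 := by
    intro c
    have e1 := (Fam.isClassFunction hfam c).ip_eq_sum (Fam.isClassFunction hfam c)
    rw [ip_self_eq] at e1
    simp only [Complex.mul_conj'] at e1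
    have e2 : (Nat.card H : ℝ)⁻¹ * ∑ g, ‖f c g‖ ^ 2 = ∑ ψ : IrrCharacter H, ‖ip (f c) ψ.1‖ ^ 2 := by
      exact_mod_cast e1
    rw [← e2]
    congr 1
    refine sum_congr rfl fun h _ => ?_
    have e3 := gam_mul_conj hD (hgood h) c
    rw [Complex.mul_conj', card_eig hχ] at e3
    have e4 : ‖gam p D (eig χ h) c‖ ^ 2 =
        (p : ℝ) ^ (charDegree χ - Agent.FT.fxDim χ (Subgroup.zpowers h)) := by
      rw [← count_one_eig hχ]
      exact_mod_cast e3
    rw [hfd]
    dsimp only [Gam]
    rw [norm_mul, mul_pow, e4]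
  have h5 := sum_le_sum fun ψ (_ : ψ ∈ univ) => hcoef ψ
  rw [sum_comm, sum_congr rfl fun c _ => hpar c, sum_const, sum_const, card_univ, card_univ,
    nsmul_eq_mul, nsmul_eq_mul, ← Nat.card_eq_fintype_card, card_irr_eq_card_conjClasses,
    mul_comm] at h5
  have h6 := le_of_mul_le_mul_left h5 (by exact_mod_cast Fintype.card_pos)
  have h7 : (0 : ℝ) < Nat.card H := by exact_mod_cast Nat.card_pos
  rwa [le_inv_mul_iff₀ h7, mul_comm] at h6

/-- Brauer lift of a coprime action on an elementary abelian group. -/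
theorem exists_lift {G : Type u} [Group G] [Finite G] {V A : Subgroup G}
    (hV : IsElementaryAbelian p V) (hn : A ≤ Subgroup.normalizer (V : Set G))
    (hA : ¬ p ∣ Nat.card A) : ∃ χ : A → ℂ, IsCharacter A χ ∧ (∀ h, χ (h ^ p) = χ h) ∧
      ∀ L : Subgroup A, Nat.card (V ⊓ Subgroup.centralizer (L.map A.subtype : Set G) :
        Subgroup G) = p ^ Agent.FT.fxDim χ L :=
  exists_lift_abelem hV hn hA

/-- Knörr's inequality for a coprime action. -/
theorem knorr_action {G : Type u} [Group G] [Finite G] {V A : Subgroup G} [Fintype A]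
    (hV : IsElementaryAbelian p V) (hn : A ≤ Subgroup.normalizer (V : Set G))
    (hA : ¬ p ∣ Nat.card A) (hf : A ⊓ Subgroup.centralizer (V : Set G) = ⊥)
    {θ : A → ℂ} (hθ : IsCharacter A θ) (h1 : ¬ p ∣ charDegree θ) :
    (Nat.card (ConjClasses A) : ℝ) * Nat.card A ≤ ∑ h : A, (Nat.card V : ℝ) /
      Nat.card (V ⊓ Subgroup.centralizer ({(h : G)} : Set G) : Subgroup G) * ‖θ h‖ ^ 2 := by
  obtain ⟨χ, hχ, hF, hL⟩ := exists_lift hV hn hA
  have h2 : Nat.card V = p ^ charDegree χ := by
    have := hL ⊥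
    rwa [Subgroup.map_bot, Agent.FT.fxDim_bot hχ, Subgroup.coe_bot,
      Subgroup.centralizer_eq_top_iff_subset.2 (by simp), inf_top_eq] at this
  have h3 : ∀ h : A, Nat.card (V ⊓ Subgroup.centralizer ({(h : G)} : Set G) : Subgroup G) =
      p ^ Agent.FT.fxDim χ (Subgroup.zpowers h) := fun h => by
    rw [← hL, MonoidHom.map_zpowers, Subgroup.zpowers_eq_closure, Subgroup.centralizer_closure]
    rfl
  have h4 : ∀ h, χ h = χ 1 → h = 1 := fun h e => by
    have h5 := h3 h
    rw [Agent.FT.fxDim_of_le_ker hχ (Subgroup.zpowers_le.2 (hχ.mem_charKer.2 e)), ← h2] at h5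
    have h6 := Subgroup.eq_of_le_of_card_ge inf_le_left h5.ge
    have h7 : (h : G) ∈ A ⊓ Subgroup.centralizer (V : Set G) :=
      ⟨h.2, fun v hv => Subgroup.mem_centralizer_singleton_iff.1 (inf_eq_left.1 h6 hv)⟩
    rw [hf] at h7
    exact Subtype.ext h7
  refine (knorr hA hχ hF h4 hθ h1).trans (le_of_eq (sum_congr rfl fun h _ => ?_))
  rw [h2, h3, Nat.cast_pow, Nat.cast_pow, pow_sub₀ _ (Nat.cast_ne_zero.2 hp.out.ne_zero)
    (Agent.FT.fxDim_bot hχ ▸ Agent.FT.fxDim_anti hχ bot_le), div_eq_mul_inv]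

theorem card_conjClasses_lt {G : Type u} [Group G] [Finite G] {V A : Subgroup G}
    (hV : IsElementaryAbelian p V) (hV1 : V ≠ ⊥) (hn : A ≤ Subgroup.normalizer (V : Set G))
    (hA : ¬ p ∣ Nat.card A) (hf : A ⊓ Subgroup.centralizer (V : Set G) = ⊥) :
    Nat.card (ConjClasses A) < Nat.card V := by
  cases nonempty_fintype A
  have h1 := knorr_action hV hn hA hf IsCharacter.one (by
    rw [show charDegree (fun _ : A => (1 : ℂ)) = 1 from IrrCharacter.charDegree_one]
    exact hp.out.one_lt.ne' ∘ Nat.dvd_one.1)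
  have hV0 : (1 : ℝ) < Nat.card V := by exact_mod_cast (Subgroup.one_lt_card_iff_ne_bot V).2 hV1
  have h2 : ∑ h : A, (Nat.card V : ℝ) /
      Nat.card (V ⊓ Subgroup.centralizer ({(h : G)} : Set G) : Subgroup G) * ‖(1 : ℂ)‖ ^ 2 <
      ∑ h : A, (Nat.card V : ℝ) := by
    refine sum_lt_sum (fun h _ => ?_) ⟨1, mem_univ _, ?_⟩
    · rw [norm_one, one_pow, mul_one]
      exact div_le_self (by linarith) (by exact_mod_cast Nat.card_pos)
    · rw [norm_one, one_pow, mul_one, OneMemClass.coe_one,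
        Subgroup.centralizer_eq_top_iff_subset.2 (by simp), inf_top_eq, div_self (by linarith)]
      exact hV0
  have h3 := h1.trans_lt h2
  rw [sum_const, card_univ, nsmul_eq_mul, ← Nat.card_eq_fintype_card, mul_comm] at h3
  exact_mod_cast lt_of_mul_lt_mul_left h3 (Nat.cast_nonneg _)

/-- The `k(GV)` theorem. -/
theorem kGV {G : Type u} [Group G] [Finite G] {V : Subgroup G} [V.Normal]
    (hV : IsElementaryAbelian p V) (hi : ¬ p ∣ V.index)
    (hf : Subgroup.centralizer (V : Set G) ≤ V) : Nat.card (ConjClasses G) ≤ Nat.card V := by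
  have hVp : IsPGroup p V := fun v => ⟨1, Subtype.ext (by simpa using hV.2 v v.2)⟩
  obtain ⟨A, hA⟩ := Subgroup.exists_right_complement'_of_coprime
    (IsPGroup.coprime_card_of_not_dvd hVp hi)
  cases nonempty_fintype A
  haveI := hV.1
  have hA' : ¬ p ∣ Nat.card A := by rwa [← hA.symm.index_eq_card]
  have h1 : A ⊓ Subgroup.centralizer (V : Set G) = ⊥ :=
    le_bot_iff.1 ((inf_le_inf_left A hf).trans hA.symm.disjoint.le_bot)
  have h2 := sum_le_sum fun (χ : IrrCharacter G) (_ : χ ∈ univ) =>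
    knorr_action hV Subgroup.le_normalizer_of_normal hA' h1 (χ.isCharacter.comp A.subtype)
      (by rw [charDegree_comp]; exact fun h => hi (h.trans (χ.charDegree_dvd_index_of_normal_comm V)))
  let π : G →* A := hA.symm.QuotientMulEquiv.toMonoidHom.comp (QuotientGroup.mk' V)
  have hπ : ∀ a : A, π a = a := fun a => hA.symm.QuotientMulEquiv.apply_symm_apply a
  have hk : π.ker = V := by
    rw [MonoidHom.ker_comp_of_injective _ _ hA.symm.QuotientMulEquiv.injective,
      QuotientGroup.ker_mk']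
  have h3 : ∀ h : A, ∑ χ : IrrCharacter G, (Nat.card V : ℝ) /
      Nat.card (V ⊓ Subgroup.centralizer ({(h : G)} : Set G) : Subgroup G) *
        ‖(χ.1 ∘ A.subtype) h‖ ^ 2 ≤
      Nat.card V * Nat.card (Subgroup.centralizer ({h} : Set A)) := fun h => by
    have e1 := sum_irr_mul_conj_of_isConj (IsConj.refl (h : G))
    simp only [Complex.mul_conj'] at e1
    have e2 : ∑ χ : IrrCharacter G, ‖(χ.1 ∘ A.subtype) h‖ ^ 2 =
        Nat.card (Subgroup.centralizer ({(h : G)} : Set G)) := by exact_mod_cast e1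
    have e3 := card_centralizer_le π h
    rw [hk, hπ] at e3
    rw [← mul_sum, e2, div_mul_eq_mul_div, div_le_iff₀ (by exact_mod_cast Nat.card_pos), mul_assoc]
    refine mul_le_mul_of_nonneg_left ?_ (Nat.cast_nonneg _)
    rw [mul_comm]
    exact_mod_cast e3
  rw [sum_comm] at h2
  have h4 := h2.trans (sum_le_sum fun h _ => h3 h)
  rw [sum_const, ← mul_sum, ← Nat.cast_sum, sum_card_centralizer, card_univ, nsmul_eq_mul,
    ← Nat.card_eq_fintype_card, card_irr_eq_card_conjClasses, Nat.cast_mul] at h4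
  haveI : Nonempty (ConjClasses A) := ⟨1⟩
  exact_mod_cast le_of_mul_le_mul_right h4
    (by exact_mod_cast Nat.mul_pos Nat.card_pos Nat.card_pos)

/-- Nagao's reduction. -/
theorem card_conjClasses_le_of_pSolvable (G : Type u) [Group G] [Finite G]
    (hG : IsPSolvable p G) (h0 : pPrimeCore p G = ⊥) :
    Nat.card (ConjClasses G) ≤ p ^ (Nat.card G).factorization p := by
  induction hn : Nat.card G using Nat.strong_induction_on generalizing G with
  | _ n ih =>
  subst hn
  have key : ∀ (Q : Type u) [Group Q] [Finite Q] (π : G →* Q), Function.Surjective π →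
      π.ker ≠ ⊥ → pPrimeCore p Q = ⊥ →
      Nat.card (ConjClasses π.ker) ≤ p ^ (Nat.card π.ker).factorization p →
      Nat.card (ConjClasses G) ≤ p ^ (Nat.card G).factorization p := by
    intro Q _ _ π hπ hk hQ h
    have e : Nat.card π.ker * Nat.card Q = Nat.card G := by
      rw [← π.ker.card_mul_index, Subgroup.index_ker, MonoidHom.range_eq_top.2 hπ,
        Subgroup.card_top]
    have h1 := ih (Nat.card Q) (by
      rw [← e]
      exact lt_mul_of_one_lt_left Nat.card_pos ((Subgroup.one_lt_card_iff_ne_bot _).2 hk)) Q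
      (hG.of_surjective π hπ) hQ rfl
    rw [← e, Nat.factorization_mul Nat.card_pos.ne' Nat.card_pos.ne', Finsupp.add_apply, pow_add]
    exact (card_conjClasses_le_mul_ker π hπ).trans (Nat.mul_le_mul h h1)
  have hP := isPGroup_pCore p G
  rcases subsingleton_or_nontrivial G with hG1 | hG1
  · exact card_conjClasses_le_card.trans (Nat.card_of_subsingleton (1 : G) ▸
      Nat.one_le_pow _ _ hp.out.pos)
  by_cases hΦ : frattiniOf (pCore p G) = ⊥
  · let π : G →* (G ⧸ pCore p G) ⧸ pPrimeCore p (G ⧸ pCore p G) :=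
      (QuotientGroup.mk' _).comp (QuotientGroup.mk' _)
    have hk : π.ker = (pPrimeCore p (G ⧸ pCore p G)).comap (QuotientGroup.mk' (pCore p G)) := by
      rw [← MonoidHom.comap_ker, QuotientGroup.ker_mk']
    have hle : pCore p G ≤ π.ker := hk ▸ QuotientGroup.le_comap_mk' _ _
    refine key _ π ((QuotientGroup.mk'_surjective _).comp (QuotientGroup.mk'_surjective _))
      (fun h => hG.pCore_ne_bot_or.elim (fun h' => h' (le_bot_iff.1 (h ▸ hle))) fun h' => h' h0)
      (pPrimeCore_quotient_pPrimeCore p _) ?_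
    have hV := (frattiniOf_eq_bot_iff hP).1 hΦ
    haveI := hV.1
    have h1 := kGV (p := p) (V := (pCore p G).subgroupOf π.ker)
      ⟨inferInstance, fun a ha => Subtype.ext (hV.2 _ ha)⟩ (by
        rw [← Subgroup.relIndex, hk, relIndex_comap_mk']
        exact not_dvd_card_pPrimeCore p _) (fun x hx => hG.centralizer_pCore_le h0 fun v hv =>
          congrArg Subtype.val (hx ⟨v, hle hv⟩ hv))
    rw [Nat.card_congr (Subgroup.subgroupOfEquivOfLe hle).toEquiv] at h1
    exact h1.trans (card_le_pow_factorization hP hle)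
  · refine key _ (QuotientGroup.mk' (frattiniOf (pCore p G))) (QuotientGroup.mk'_surjective _)
      (by rwa [QuotientGroup.ker_mk']) (pPrimeCore_quotient_frattiniOf hG h0)
      (card_conjClasses_le_card.trans (card_le_pow_factorization ?_ le_rfl))
    rw [QuotientGroup.ker_mk']
    exact hP.to_le (frattiniOf_le _)

end Cfsg.Kgv
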