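import Cfsg.Agent.Grp.Frattini
import Mathlib.NumberTheory.Multiplicity

/-!
# Nilpotent groups whose abelian normal subgroups are cyclic
-/

set_option autoImplicit false
set_option linter.unusedSectionVars false
set_option linter.unusedVariables false
set_option linter.style.haveILetI false

namespace Cfsg.Kgv

open Finset Subgroup
open scoped commutatorElement

universe u

theorem geom_sum_eq_mul_unit {n l : ℕ} (hl : l.Prime) {k : ℤ}
    (h1 : ∀ q : ℕ, q.Prime → q ∣ n → (q : ℤ) ∣ k - 1) (hlk : (l : ℤ) ∣ k - 1)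
    (h2 : l ≠ 2 ∨ (4 : ℤ) ∣ k - 1) (hn : n ≠ 0) :
    ∃ u : ℤ, ∑ i ∈ range l, k ^ i = l * u ∧ IsCoprime u n := by
  have hsq : ((l : ℤ)) ^ 2 ∣ (∑ i ∈ range l, k ^ i) - l := by
    by_cases h : l = 2
    · subst h
      obtain ⟨c, hc⟩ := h2.resolve_left (by simp)
      refine ⟨c, ?_⟩
      simp [sum_range_succ]
      linarith
    · obtain ⟨c, hc⟩ := hlk
      have := odd_sq_dvd_geom_sum₂_sub (1 : ℤ) c (hl.odd_of_ne_two h)
      have hk : k = 1 + l * c := by linarith
      simpa [← hk] using this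
  obtain ⟨c, hc⟩ := hsq
  refine ⟨1 + l * c, by linear_combination hc, ?_⟩
  rw [Int.isCoprime_iff_gcd_eq_one]
  by_contra hne
  obtain ⟨q, hq, hqd⟩ := Nat.exists_prime_and_dvd hne
  have hqn : q ∣ n := by
    have := hqd.trans (Nat.gcd_dvd_right _ _)
    simpa using this
  have hqu : (q : ℤ) ∣ 1 + l * c := Int.natCast_dvd.mpr (hqd.trans (Nat.gcd_dvd_left _ _))
  have hqk := h1 q hq hqn
  have hN : (q : ℤ) ∣ (∑ i ∈ range l, k ^ i) - l := by
    have : (∑ i ∈ range l, k ^ i) - l = ∑ i ∈ range l, (k ^ i - 1 ^ i) := by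
      simp [sum_sub_distrib]
    rw [this]
    exact dvd_sum fun i _ => hqk.trans (sub_dvd_pow_sub_pow _ _ _)
  have hNl : (q : ℤ) ∣ ∑ i ∈ range l, k ^ i := by
    have : ∑ i ∈ range l, k ^ i = l * (1 + l * c) := by linear_combination hc
    rw [this]; exact hqu.mul_left _
  have hql : (q : ℤ) ∣ l := by simpa using dvd_sub hNl hN
  have h1' : (q : ℤ) ∣ 1 := by simpa using dvd_sub hqu (hql.mul_right c)
  exact hq.one_lt.ne' (by exact_mod_cast Int.eq_one_of_dvd_one (by positivity) h1')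

theorem geom_sum_coprime {n l : ℕ} (hl : l.Prime) {k : ℤ}
    (h1 : ∀ q : ℕ, q.Prime → q ∣ n → (q : ℤ) ∣ k - 1) (hln : ¬ l ∣ n) :
    IsCoprime (∑ i ∈ range l, k ^ i) n := by
  rw [Int.isCoprime_iff_gcd_eq_one]
  by_contra hne
  obtain ⟨q, hq, hqd⟩ := Nat.exists_prime_and_dvd hne
  have hqn : q ∣ n := by
    have := hqd.trans (Nat.gcd_dvd_right _ _)
    simpa using this
  have hNl : (q : ℤ) ∣ ∑ i ∈ range l, k ^ i :=
    Int.natCast_dvd.mpr (hqd.trans (Nat.gcd_dvd_left _ _))
  have hqk := h1 q hq hqn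
  have hN : (q : ℤ) ∣ (∑ i ∈ range l, k ^ i) - l := by
    have : (∑ i ∈ range l, k ^ i) - l = ∑ i ∈ range l, (k ^ i - 1 ^ i) := by
      simp [sum_sub_distrib]
    rw [this]
    exact dvd_sum fun i _ => hqk.trans (sub_dvd_pow_sub_pow _ _ _)
  have hql : (q : ℤ) ∣ l := by simpa using dvd_sub hNl hN
  have : q = l := (Nat.prime_dvd_prime_iff_eq hq hl).mp (by exact_mod_cast hql)
  exact hln (this ▸ hqn)

variable {E : Type u} [Group E]

theorem conj_zpow_of_conj {a y : E} {k : ℤ} (h : y * a * y⁻¹ = a ^ k) (t : ℤ) :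
    y * a ^ t * y⁻¹ = a ^ (k * t) := by
  rw [← conj_zpow, h, ← zpow_mul]

theorem pow_conj_zpow_of_conj {a y : E} {k : ℤ} (h : y * a * y⁻¹ = a ^ k) (i : ℕ) (t : ℤ) :
    y ^ i * a ^ t * (y ^ i)⁻¹ = a ^ (k ^ i * t) := by
  induction i generalizing t with
  | zero => simp
  | succ i ih =>
    have : y ^ (i + 1) * a ^ t * (y ^ (i + 1))⁻¹ = y ^ i * (y * a ^ t * y⁻¹) * (y ^ i)⁻¹ := by
      rw [pow_succ]; group
    rw [this, conj_zpow_of_conj h, ih, pow_succ, mul_assoc]

theorem zpow_mul_pow_of_conj {a y : E} {k : ℤ} (h : y * a * y⁻¹ = a ^ k) (t : ℤ) (i : ℕ) :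
    (a ^ t * y) ^ i = a ^ ((∑ j ∈ range i, k ^ j) * t) * y ^ i := by
  induction i with
  | zero => simp
  | succ i ih =>
    rw [pow_succ, ih, sum_range_succ, add_mul, zpow_add, ← pow_conj_zpow_of_conj h i t, pow_succ]
    group

theorem prime_dvd_sub_one_of_conj [Group.IsNilpotent E] {a y : E} {k : ℤ}
    (h : y * a * y⁻¹ = a ^ k) {q : ℕ} (hq : q.Prime) (hd : q ∣ orderOf a) : (q : ℤ) ∣ k - 1 := by
  have H : ∀ i : ℕ, a ^ ((k - 1) ^ i) ∈ (⊤ : Subgroup E).lowerCentralSeries i := by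
    intro i
    induction i with
    | zero => simp
    | succ i ih =>
      have : a ^ ((k - 1) ^ (i + 1)) = ⁅a ^ (-(k - 1) ^ i), y⁆ := by
        rw [commutatorElement_def, mul_assoc, mul_assoc, ← mul_assoc y, ← zpow_neg,
          conj_zpow_of_conj h, ← zpow_add]
        congr 1; ring
      rw [this, Subgroup.lowerCentralSeries_succ]
      exact commutator_mem_commutator (by rw [zpow_neg]; exact inv_mem ih) (mem_top _)
  obtain ⟨c, hc⟩ := Subgroup.nilpotent_iff_lowerCentralSeries.mp ‹Group.IsNilpotent E›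
  have h1 := H c
  rw [hc, mem_bot, ← orderOf_dvd_iff_zpow_eq_one] at h1
  exact (Int.prime_iff_natAbs_prime.mpr (by simpa using hq)).dvd_of_dvd_pow
    ((Int.natCast_dvd_natCast.mpr hd).trans h1)

/-- A noncyclic abelian normal subgroup in a nilpotent extension of a cyclic group. -/
theorem exists_noncyclic_normal [Finite E] [Group.IsNilpotent E] {a : E} [hA : (zpowers a).Normal]
    (hC : ∀ x : E, x * a = a * x → x ∈ zpowers a) (hE : ∀ x y : E, ⁅x, y⁆ ∈ zpowers a)
    {l : ℕ} (hl : l.Prime) {y : E} (hy : y ∉ zpowers a) (hyl : y ^ l ∈ zpowers a)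
    (h2 : l ≠ 2 ∨ ∃ w, y = w ^ 2) :
    ∃ B : Subgroup E, B.Normal ∧ IsMulCommutative B ∧ ¬ IsCyclic B := by
  classical
  set n := orderOf a with hn
  have hn0 : n ≠ 0 := (orderOf_pos a).ne'
  obtain ⟨k, hk, hk2⟩ : ∃ k : ℤ, y * a * y⁻¹ = a ^ k ∧ (l ∣ n → l ≠ 2 ∨ (4 : ℤ) ∣ k - 1) := by
    rcases h2 with h2 | ⟨w, rfl⟩
    · obtain ⟨k, hk⟩ := mem_zpowers_iff.mp (hA.conj_mem a (mem_zpowers a) y)
      exact ⟨k, hk.symm, fun _ => Or.inl h2⟩
    · obtain ⟨k, hk⟩ := mem_zpowers_iff.mp (hA.conj_mem a (mem_zpowers a) w)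
      refine ⟨k ^ 2, by simpa using pow_conj_zpow_of_conj hk.symm 2 1, fun hln => ?_⟩
      by_cases h : l = 2
      · subst h
        obtain ⟨c, hc⟩ := prime_dvd_sub_one_of_conj hk.symm hl hln
        refine Or.inr ⟨c * (c + 1), ?_⟩
        have : k = 1 + 2 * c := by push_cast at hc; linarith
        rw [this]; ring
      · exact Or.inl h
  have h1 : ∀ q : ℕ, q.Prime → q ∣ n → (q : ℤ) ∣ k - 1 := fun q hq hd =>
    prime_dvd_sub_one_of_conj hk hq hd
  have hnk : ¬ (n : ℤ) ∣ k - 1 := by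
    intro h
    apply hy (hC y _)
    have : a ^ k = a := by
      have := orderOf_dvd_iff_zpow_eq_one.mp h
      rwa [zpow_sub, zpow_one, mul_inv_eq_one] at this
    rw [this] at hk
    exact mul_inv_eq_iff_eq_mul.mp hk
  obtain ⟨j, hj⟩ := mem_zpowers_iff.mp hyl
  have hkl : (n : ℤ) ∣ (k - 1) * ∑ i ∈ range l, k ^ i := by
    rw [mul_geom_sum, orderOf_dvd_iff_zpow_eq_one, zpow_sub, zpow_one, mul_inv_eq_one]
    have := pow_conj_zpow_of_conj hk l 1
    rw [mul_one, ← hj] at this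
    rw [← this]; group
  have hln : l ∣ n := by
    by_contra h
    exact hnk ((geom_sum_coprime hl h1 h).symm.dvd_of_dvd_mul_right hkl)
  have hlk := h1 l hl hln
  obtain ⟨u, hu, huc⟩ := geom_sum_eq_mul_unit hl h1 hlk (hk2 hln) hn0
  have hlk' : (n : ℤ) ∣ (k - 1) * l := by
    rw [hu, ← mul_assoc] at hkl
    exact huc.symm.dvd_of_dvd_mul_right hkl
  have hjk : (n : ℤ) ∣ (k - 1) * j := by
    rw [orderOf_dvd_iff_zpow_eq_one, sub_mul, one_mul, zpow_sub, mul_inv_eq_one,
      ← conj_zpow_of_conj hk, hj]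
    group
  obtain ⟨j', hj'⟩ : (l : ℤ) ∣ j := by
    by_contra h
    have hc : IsCoprime (l : ℤ) j :=
      (Int.prime_iff_natAbs_prime.mpr (by simpa using hl)).irreducible.coprime_iff_not_dvd.mpr h
    obtain ⟨s, t, hst⟩ := hc
    apply hnk
    have : k - 1 = s * ((k - 1) * l) + t * ((k - 1) * j) := by linear_combination (1 - k) * hst
    rw [this]
    exact dvd_add (hlk'.mul_left _) (hjk.mul_left _)
  obtain ⟨s, t, hst⟩ := huc
  set y' := a ^ (-(s * j')) * y with hy'
  have hk' : y' * a * y'⁻¹ = a ^ k := by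
    have : y' * a * y'⁻¹ = a ^ (-(s * j')) * (y * a * y⁻¹) * (a ^ (-(s * j')))⁻¹ := by
      rw [hy']; group
    rw [this, hk]; group
  have hy'l : y' ^ l = 1 := by
    rw [hy', zpow_mul_pow_of_conj hk, ← hj, ← zpow_add, ← orderOf_dvd_iff_zpow_eq_one, hu, hj']
    exact ⟨t * l * j', by linear_combination (-(l : ℤ) * j') * hst⟩
  have hy'A : y' ∉ zpowers a := fun h =>
    hy (by simpa [hy'] using mul_mem (inv_mem (zpow_mem_zpowers a (-(s * j')))) h)
  obtain ⟨m, hm⟩ := hln
  have hm0 : m ≠ 0 := by rintro rfl; exact hn0 (by simpa using hm)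
  set z := a ^ (m : ℤ) with hz
  have hzo : orderOf z = l := by
    rw [hz, zpow_natCast, orderOf_pow' a hm0, ← hn, hm, Nat.gcd_mul_left_left,
      Nat.mul_div_cancel _ (Nat.pos_of_ne_zero hm0)]
  have hzy : Commute y' z := by
    have := conj_zpow_of_conj hk' m
    have h' : a ^ (k * m) = a ^ (m : ℤ) := by
      rw [← mul_inv_eq_one, ← zpow_sub, ← orderOf_dvd_iff_zpow_eq_one, ← hn, hm]
      obtain ⟨c, hc⟩ := hlk
      exact ⟨c, by push_cast; linear_combination (m : ℤ) * hc⟩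
    rw [h'] at this
    exact mul_inv_eq_iff_eq_mul.mp this
  have hmem : ∀ i : ℤ, (n : ℤ) ∣ l * i → a ^ i ∈ zpowers z := by
    intro i hi
    rw [hm] at hi
    push_cast at hi
    obtain ⟨c, rfl⟩ := (mul_dvd_mul_iff_left (by exact_mod_cast hl.ne_zero)).mp hi
    rw [zpow_mul]
    exact zpow_mem_zpowers _ _
  have hcomm : ∀ x ∈ ({z, y'} : Set E), ∀ w ∈ ({z, y'} : Set E), x * w = w * x := by
    rintro x (rfl | rfl) w (rfl | rfl)
    · rfl
    · exact hzy.symm.eq
    · exact hzy.eq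
    · rfl
  have hzB : zpowers z ≤ closure ({z, y'} : Set E) :=
    zpowers_le_of_mem (subset_closure (by simp))
  have hyB : y' ∈ closure ({z, y'} : Set E) := subset_closure (by simp)
  refine ⟨closure {z, y'}, ?_, isMulCommutative_closure hcomm, fun hcyc => ?_⟩
  · refine ⟨fun x hx g => ?_⟩
    induction hx using closure_induction with
    | mem x hx =>
      rcases hx with rfl | rfl
      · obtain ⟨i, hi⟩ := mem_zpowers_iff.mp (hA.conj_mem a (mem_zpowers a) g)
        rw [hz, conj_zpow_of_conj hi.symm, mul_comm, zpow_mul]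
        exact hzB (zpow_mem_zpowers _ _)
      · obtain ⟨i, hi⟩ := mem_zpowers_iff.mp (hE g y')
        have h3 : g * y' * g⁻¹ = a ^ i * y' := by rw [hi, commutatorElement_def]; group
        have h4 : (a ^ i * y') ^ l = 1 := by rw [← h3, conj_pow, hy'l]; group
        rw [zpow_mul_pow_of_conj hk', hy'l, mul_one, ← orderOf_dvd_iff_zpow_eq_one, hu, ← hn]
          at h4
        rw [h3]
        refine mul_mem (hzB (hmem i ?_)) hyB
        have hc : IsCoprime (n : ℤ) u := ⟨t, s, by linear_combination hst⟩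
        exact hc.dvd_of_dvd_mul_left (by rwa [show u * (l * i) = l * u * i by ring])
    | one => simp
    | mul x w _ _ hx hw =>
      have : g * (x * w) * g⁻¹ = g * x * g⁻¹ * (g * w * g⁻¹) := by group
      rw [this]; exact mul_mem hx hw
    | inv x _ hx =>
      have : g * x⁻¹ * g⁻¹ = (g * x * g⁻¹)⁻¹ := by group
      rw [this]; exact inv_mem hx
  · set B := closure ({z, y'} : Set E) with hB
    have := Fintype.ofFinite B
    have h5 := IsCyclic.card_pow_eq_one_le (α := B) hl.pos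
    let z' : B := ⟨z, hzB (mem_zpowers z)⟩
    have hz'o : orderOf z' = l := by rw [← hzo]; exact (Subgroup.orderOf_mk _ _)
    have h6 : insert (⟨y', hyB⟩ : B) (univ.filter (· ∈ zpowers z')) ⊆
        univ.filter (fun b : B => b ^ l = 1) := by
      intro b hb
      rcases mem_insert.mp hb with rfl | hb
      · simpa [Subtype.ext_iff] using hy'l
      · obtain ⟨i, rfl⟩ := mem_zpowers_iff.mp (mem_filter.mp hb).2
        simp only [mem_filter, mem_univ, true_and]
        rw [← zpow_natCast, ← zpow_mul, mul_comm, zpow_mul, zpow_natCast, ← hz'o,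
          pow_orderOf_eq_one, one_zpow]
    have h7 := card_le_card h6
    rw [card_insert_of_notMem] at h7
    · have h8 : (univ.filter (· ∈ zpowers z')).card = l := by
        rw [← hz'o, ← Nat.card_zpowers, Nat.card_eq_fintype_card, Fintype.card_subtype]
      omega
    · intro h
      obtain ⟨i, hi⟩ := mem_zpowers_iff.mp (mem_filter.mp h).2
      apply hy'A
      have : y' = z ^ i := by simpa [z'] using congr(($hi).1).symm
      rw [this, hz, ← zpow_mul]
      exact zpow_mem_zpowers _ _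

/-- If all abelian normal subgroups of a nilpotent group are cyclic, a self-centralizing one with
cyclic quotient has index `1` or prime. -/
theorem index_prime_of_forall_cyclic [Finite E] [Group.IsNilpotent E]
    (H : ∀ B : Subgroup E, B.Normal → IsMulCommutative B → IsCyclic B) (A : Subgroup E)
    [hA : A.Normal] [IsMulCommutative A] (hC : centralizer (A : Set E) ≤ A) {g : E}
    (hg : A ⊔ zpowers g = ⊤) (hne : A ≠ ⊤) : A.index.Prime := by
  obtain ⟨a, rfl⟩ := (Subgroup.isCyclic_iff_exists_zpowers_eq_top A).mp (H A hA inferInstance)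
  set A := zpowers a with hAa
  have hgen : ∀ x : E ⧸ A, x ∈ zpowers (g : E ⧸ A) := by
    intro x
    obtain ⟨x, rfl⟩ := QuotientGroup.mk_surjective x
    have hx : x ∈ A ⊔ zpowers g := hg ▸ mem_top x
    obtain ⟨b, hb, c, hc, rfl⟩ := mem_sup_of_normal_left.mp hx
    obtain ⟨i, rfl⟩ := mem_zpowers_iff.mp hc
    rw [QuotientGroup.mk_mul, (QuotientGroup.eq_one_iff b).mpr hb, one_mul,
      QuotientGroup.mk_zpow]
    exact zpow_mem_zpowers _ _
  have ho : orderOf (g : E ⧸ A) = A.index := orderOf_eq_card_of_forall_mem_zpowers hgen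
  have hE : ∀ x y : E, ⁅x, y⁆ ∈ A := by
    intro x y
    rw [← QuotientGroup.eq_one_iff]
    obtain ⟨i, hi⟩ := mem_zpowers_iff.mp (hgen x)
    obtain ⟨j, hj⟩ := mem_zpowers_iff.mp (hgen y)
    simp only [commutatorElement_def, QuotientGroup.mk_mul, QuotientGroup.mk_inv, ← hi, ← hj]
    group
  have hC' : ∀ x : E, x * a = a * x → x ∈ A := by
    intro x hx
    refine hC (mem_centralizer_iff.mpr fun b hb => ?_)
    obtain ⟨i, rfl⟩ := mem_zpowers_iff.mp hb
    exact ((show Commute x a from hx).zpow_right i).symm.eq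
  have hm0 : A.index ≠ 0 := index_ne_zero_of_finite
  have key : ∀ l m : ℕ, l.Prime → A.index = l * m → (l ≠ 2 ∨ 2 ∣ m) → False := by
    intro l m hl hm h2
    have hm' : m ≠ 0 := by rintro rfl; exact hm0 (by simpa using hm)
    have hy : g ^ m ∉ A := by
      rw [← QuotientGroup.eq_one_iff, QuotientGroup.mk_pow, ← orderOf_dvd_iff_pow_eq_one, ho, hm]
      intro h
      have := Nat.le_of_dvd (Nat.pos_of_ne_zero hm') h
      have := hl.two_le
      have := Nat.pos_of_ne_zero hm'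
      nlinarith
    have hyl : (g ^ m) ^ l ∈ A := by
      rw [← pow_mul, mul_comm, ← hm]; exact A.pow_index_mem g
    obtain ⟨B, h1, h3, h4⟩ := exists_noncyclic_normal hC' hE hl hy hyl
      (h2.imp id fun ⟨c, hc⟩ => ⟨g ^ c, by rw [← pow_mul, hc, mul_comm]⟩)
    exact h4 (H B h1 h3)
  obtain ⟨l, hl, m, hm⟩ := Nat.exists_prime_and_dvd (mt index_eq_one.mp hne)
  have hl2 : l = 2 := by by_contra h; exact key l m hl hm (Or.inl h)
  subst hl2
  by_cases hm1 : m = 1
  · rw [hm, hm1]; exact hl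
  · obtain ⟨q, hq, c, hc⟩ := Nat.exists_prime_and_dvd hm1
    exact (key q (2 * c) hq (by rw [hm, hc]; ring) (Or.inr (dvd_mul_right _ _))).elim

end Cfsg.Kgv
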