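import Cfsg.Agent.Kgv.Step
import Cfsg.Agent.Char.Clifford
import Cfsg.Agent.Kgv.NilpA

/-!
# The integrality theorem
-/

set_option autoImplicit false
set_option linter.unusedSectionVars false
set_option linter.unusedVariables false
set_option linter.style.haveILetI false

namespace Cfsg.Kgv

open Finset
open scoped ComplexConjugate

universe u v

variable {p : ℕ} [hp : Fact p.Prime] {D : ℕ}

theorem exists_gal_stable_ind {E : Type u} [Group E] [Finite E] {A L : Subgroup E} [A.Normal]
    (σ : ℂ ≃+* ℂ) {θ : IrrCharacter E} (hθ : σ • θ = θ) {lam : IrrCharacter A}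
    (hl : LiesOver A.subtype θ.1 lam.1) {g : E} (hg : conjAut A.subtype g • lam = σ • lam)
    (hT : inertia A.subtype lam ≤ L) (hgL : g ∈ L) :
    ∃ ϑ : IrrCharacter L, ind L.subtype ϑ.1 = θ.1 ∧ σ • ϑ = ϑ := by
  have hAL : A ≤ L := (le_inertia_subtype A lam).trans hT
  obtain ⟨ϑ, h1, h2⟩ := hl.exists_subgroup_ind_eq hAL hT
  refine ⟨ϑ, h2, ?_⟩
  have hfac : ∀ n, L.subtype (Subgroup.inclusion hAL n) = A.subtype n := fun n => rfl
  have h3 : LiesOver (Subgroup.inclusion hAL) (σ • ϑ).1 (σ • lam).1 :=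
    (IrrCharacter.liesOver_gal_smul _ σ ϑ lam).mpr h1
  have h4 : conjAut (Subgroup.inclusion hAL) ⟨g, hgL⟩ = conjAut A.subtype g :=
    conjAut_of_factor hfac _
  rw [← hg, ← h4, liesOver_conjAut_smul_iff (σ • ϑ).2.isCharacter.isClassFunction] at h3
  refine clifford_injective (f := A.subtype) L.subtype_injective hfac
    (by rwa [Subgroup.range_subtype]) h3 h1 ?_
  rw [IrrCharacter.gal_smul_coe', ind_map_ringHom, h2, ← IrrCharacter.gal_smul_coe', hθ]

theorem faithful_of_inertia_sup {E : Type u} [Group E] [Finite E] {A : Subgroup E} [A.Normal]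
    (σ : ℂ ≃+* ℂ) {θ : IrrCharacter E} (hf : ∀ h, θ h = θ 1 → h = 1) {lam : IrrCharacter A}
    (hl : LiesOver A.subtype θ.1 lam.1) {g : E} (hg : conjAut A.subtype g • lam = σ • lam)
    (hT : inertia A.subtype lam ⊔ Subgroup.zpowers g = ⊤) (n : A) (hn : lam n = lam 1) :
    n = 1 := by
  let S : Subgroup E :=
    { carrier := {x | ∀ n : A, lam ((conjAut A.subtype x)⁻¹ n) = lam 1 ↔ lam n = lam 1}
      one_mem' := by intro n; simp
      mul_mem' := by
        intro x y hx hy n
        rw [map_mul, mul_inv_rev, MulAut.mul_apply, hy, hx]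
      inv_mem' := by
        intro x hx n
        rw [← hx, map_inv, inv_inv]
        simp }
  have hS : S = ⊤ := by
    rw [eq_top_iff, ← hT]
    refine sup_le (fun x hx n => ?_) (Subgroup.zpowers_le_of_mem fun n => ?_)
    · have := congrArg (fun χ : IrrCharacter A => χ n) (mem_inertia.mp hx)
      simp only [IrrCharacter.mulAut_smul_apply] at this
      rw [this]
    · have := congrArg (fun χ : IrrCharacter A => χ n) hg
      simp only [IrrCharacter.mulAut_smul_apply, IrrCharacter.gal_smul_apply] at this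
      rw [this]
      conv_lhs => rw [← IrrCharacter.gal_smul_apply_one σ lam]
      exact σ.injective.eq_iff
  have h1 := hl.comp_eq_smul_sum_conjOrbit
  have h2 : θ (n : E) = θ 1 := by
    have a1 := congrFun h1 n
    have a2 := congrFun h1 1
    simp only [Function.comp_apply, Subgroup.subtype_apply, Pi.smul_apply, Finset.sum_apply,
      OneMemClass.coe_one] at a1 a2
    refine a1.trans (Eq.trans ?_ a2.symm)
    congr 1
    refine Finset.sum_congr rfl fun χ hχ => ?_
    obtain ⟨x, rfl⟩ := mem_conjOrbit.mp hχ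
    have hx : x ∈ S := hS ▸ Subgroup.mem_top x
    exact ((hx n).mpr hn).trans (IrrCharacter.smul_apply_one _ lam).symm
  exact Subtype.ext (hf _ h2)

/-- A faithful nonlinear irreducible character of a nilpotent group that is stable under the
power map `h ↦ h ^ r` is induced from a normal subgroup of prime index, from a character that is
stable or linear. -/
theorem dichotomy {E : Type u} [Group E] [Finite E] [Group.IsNilpotent E]
    (hna : ¬ IsMulCommutative E) (θ : IrrCharacter E) (hf : ∀ h, θ h = θ 1 → h = 1) {r : ℕ}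
    (hr : r.Coprime (Nat.card E)) (hF : ∀ h, θ (h ^ r) = θ h) :
    ∃ (L : Subgroup E) (_ : L.Normal) (ϑ : IrrCharacter L), L.index.Prime ∧ ind L.subtype ϑ.1 = θ.1 ∧
      ((∀ h, ϑ (h ^ r) = ϑ h) ∨ ϑ 1 = 1) := by
  obtain ⟨σ, hσ1, hσ2⟩ := exists_ringEquiv_apply_pow hr
  have hθ : σ • θ = θ := Subtype.ext (funext fun h =>
    (hσ2 θ.1 θ.2.isCharacter.isGen h).symm.trans (hF h))
  have hex : ∀ (A : Subgroup E) [A.Normal], ∃ (lam : IrrCharacter A) (g : E),
      LiesOver A.subtype θ.1 lam.1 ∧ conjAut A.subtype g • lam = σ • lam := by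
    intro A _
    obtain ⟨lam, hl⟩ := IrrCharacter.exists_liesOver_below A.subtype θ
    have h1 := (IrrCharacter.liesOver_gal_smul A.subtype σ θ lam).mpr hl
    rw [hθ] at h1
    obtain ⟨g, hg⟩ := hl.exists_conjAut_smul_eq h1
    exact ⟨lam, g, hl, hg⟩
  by_cases hc : ∃ (A : Subgroup E) (_ : A.Normal) (lam : IrrCharacter A) (g : E),
      LiesOver A.subtype θ.1 lam.1 ∧ conjAut A.subtype g • lam = σ • lam ∧
        inertia A.subtype lam ⊔ Subgroup.zpowers g ≠ ⊤
  · obtain ⟨A, _, lam, g, hl, hg, hne⟩ := hc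
    obtain ⟨L, hL, hle⟩ := exists_isCoatom_ge hne
    have : L.Normal := isNilpotent_iff_forall_coatom_normal.mp inferInstance L hL
    obtain ⟨ϑ, h1, h2⟩ := exists_gal_stable_ind σ hθ hl hg (le_sup_left.trans hle)
      (hle (Subgroup.mem_sup_right (Subgroup.mem_zpowers g)))
    refine ⟨L, this, ϑ, prime_index_of_isCoatom_of_normal hL, h1, Or.inl fun h => ?_⟩
    have h3 := ϑ.2.isCharacter.apply_pow_eq σ.toRingHom (g := h) (n := Nat.card E) (k := r)
      (Subtype.ext (by simp)) hσ1
    exact h3.trans (congrArg (fun χ : IrrCharacter L => χ h) h2)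
  · push Not at hc
    have hinj : ∀ (A : Subgroup E) [A.Normal] [IsMulCommutative A], ∃ (lam : A →* ℂˣ) (g : E),
        LiesOver A.subtype θ.1 (IrrCharacter.ofLinear lam).1 ∧ Function.Injective lam ∧
          inertia A.subtype (IrrCharacter.ofLinear lam) ⊔ Subgroup.zpowers g = ⊤ := by
      intro A hA _
      obtain ⟨lam, g, hl, hg⟩ := hex A
      have hT := hc A hA lam g hl hg
      obtain ⟨mu, rfl⟩ := IrrCharacter.exists_ofLinear_eq_of_charDegree
        lam.charDegree_eq_one_of_isMulCommutative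
      refine ⟨mu, g, hl, (injective_iff_map_eq_one mu).mpr fun n hn => ?_, hT⟩
      exact faithful_of_inertia_sup σ hf hl hg hT n (by simp [hn])
    obtain ⟨A, hA, hA', hC⟩ := exists_abelian_normal_centralizer_eq E
    obtain ⟨lam, g, hl, hi, hT⟩ := hinj A
    have hI : inertia A.subtype (IrrCharacter.ofLinear lam) = A := by
      refine le_antisymm (fun x hx => ?_) (le_inertia_subtype A _)
      rw [← hC, Subgroup.mem_centralizer_iff]
      intro n hn
      have h1 := mem_inertia_iff_forall_conjAut.mp hx ⟨n, hn⟩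
      simp only [IrrCharacter.ofLinear_apply, Units.val_inj] at h1
      have h2 := congrArg A.subtype (hi h1)
      rw [map_conjAut] at h2
      exact (mul_inv_eq_iff_eq_mul.mp h2).symm
    have hne : A ≠ ⊤ := by
      rintro rfl
      exact hna ⟨⟨fun x y => congrArg Subtype.val
        (mul_comm' (⟨x, Subgroup.mem_top x⟩ : (⊤ : Subgroup E)) ⟨y, Subgroup.mem_top y⟩)⟩⟩
    refine ⟨A, hA, IrrCharacter.ofLinear lam, ?_, ?_, Or.inr (by simp)⟩
    · refine index_prime_of_forall_cyclic (fun B hB hB' => ?_) A hC.le (g := g) (by rwa [hI] at hT)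
        hne
      obtain ⟨mu, -, -, h, -⟩ := hinj B
      exact isCyclic_of_linear_injective h
    · exact LiesOver.ind_eq_of_inertia_eq_range (by rw [hI, Subgroup.range_subtype]) hl

theorem frobSum_ind {E : Type u} [Group E] [Finite E] (L : Subgroup E) (hpE : p.Coprime (Nat.card E))
    {ϑ : L → ℂ} (hϑ : IsCharacter L ϑ) (e : ℕ) :
    frobSum p e (ind L.subtype ϑ) = ind L.subtype (frobSum p e ϑ) := by
  have h1 : frobSum p e ϑ = ∑ i ∈ range e, fun h => ϑ (h ^ p ^ i) := by
    funext h; simp [frobSum, Finset.sum_apply]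
  rw [h1, ind_sum]
  funext h
  simp only [frobSum, Finset.sum_apply]
  refine Finset.sum_congr rfl fun i _ => ?_
  obtain ⟨σ, hσ1, hσ2⟩ := exists_ringEquiv_apply_pow (G := E) (k := p ^ i) (hpE.pow_left i)
  have h2 : (fun h => ϑ (h ^ p ^ i)) = σ.toRingHom ∘ ϑ := funext fun h =>
    hϑ.apply_pow_eq σ.toRingHom (n := Nat.card E) (Subtype.ext (by simp)) hσ1
  rw [h2, ind_map_ringHom]
  exact hσ2 _ (hϑ.ind _).isGen h

theorem coprime_card_of_pow (hD : D ≠ 0) {E : Type u} [Group E] [Finite E]
    (hE : ∀ h : E, h ^ (p ^ D - 1) = 1) : p.Coprime (Nat.card E) := by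
  rw [Nat.Prime.coprime_iff_not_dvd hp.out]
  intro hd
  obtain ⟨x, hx⟩ := exists_prime_orderOf_dvd_card' p hd
  have h1 : p ∣ p ^ D - 1 := by
    have := orderOf_dvd_of_pow_eq_one (hE x)
    rwa [hx] at this
  have h2 : p ∣ p ^ D := dvd_pow_self p hD
  have h3 : p ∣ p ^ D - (p ^ D - 1) := Nat.dvd_sub h2 h1
  have h4 : 1 ≤ p ^ D := Nat.one_le_pow _ _ hp.out.pos
  rw [show p ^ D - (p ^ D - 1) = 1 by omega] at h3
  exact hp.out.one_lt.ne' (Nat.dvd_one.mp h3)

theorem Gam_mem_of_nilpotent (hD : D ≠ 0) (E : Type u) [Group E] [Finite E]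
    [Group.IsNilpotent E] (hE : ∀ h : E, h ^ (p ^ D - 1) = 1) {χ : E → ℂ}
    (hχ : IsCharacter E χ) (hF : ∀ h, χ (h ^ p) = χ h) : Gam p D χ ∈ Fam p E := by
  induction hn : Nat.card E using Nat.strong_induction_on generalizing E with
  | _ n ih =>
  subst hn
  by_cases hcomm : IsMulCommutative E
  · exact Gam_mem_of_comm hD hE hχ hF
  refine Gam_mem_of_irr hD hE (fun θ e he hθ => ?_) hχ hF
  have hpE := coprime_card_of_pow hD hE
  by_cases hker : charKer θ.1 = ⊥
  · obtain ⟨L, _, ϑ, hl, hind, hst⟩ := dichotomy hcomm θ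
      (θ.2.isCharacter.charKer_eq_bot_iff.mp hker) (hpE.pow_left e) hθ
    have hL : ∀ h : L, h ^ (p ^ D - 1) = 1 := fun h => Subtype.ext (by simpa using hE h)
    by_cases hs : ∀ h, ϑ (h ^ p ^ e) = ϑ h
    · rw [← hind, frobSum_ind L hpE ϑ.2.isCharacter]
      have h1 := frobSum_isCharacter hD hL ϑ.2.isCharacter e
      have h2 := frobSum_pow (θ := ϑ.1) hs
      refine Gam_ind hD hE L hl h1 h2 (ih _ ?_ L hL h1 h2 rfl)
      have h3 := L.card_mul_index
      have h4 := hl.two_le
      have h5 : 0 < Nat.card L := Nat.card_pos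
      nlinarith
    · obtain ⟨lam, rfl⟩ := IrrCharacter.exists_ofLinear_eq (hst.resolve_left hs)
      obtain ⟨σ, hσ1, hσ2⟩ := exists_ringEquiv_apply_pow (G := E) (hpE.pow_left e)
      have hθσ : σ • θ = θ := Subtype.ext (funext fun h =>
        (hσ2 θ.1 θ.2.isCharacter.isGen h).symm.trans (hθ h))
      have h1 := liesOver_of_ind_eq hind
      have h2 := (IrrCharacter.liesOver_gal_smul L.subtype σ θ _).mpr h1
      rw [hθσ] at h2
      obtain ⟨x, hx⟩ := h1.exists_conjAut_smul_eq h2
      have h3 : ∀ u : L, (σ • IrrCharacter.ofLinear lam) u = lam (u ^ p ^ e) := fun u =>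
        ((isCharacter_linear lam).apply_pow_eq σ.toRingHom (n := Nat.card E)
          (Subtype.ext (by simp)) hσ1).symm
      have hxL : x ∉ L := by
        intro h
        apply hs
        intro u
        have h4 := conjAut_map_smul L.subtype ⟨x, h⟩ (IrrCharacter.ofLinear lam)
        rw [Subgroup.subtype_apply, hx] at h4
        exact (h3 u).symm.trans (congrArg (fun χ : IrrCharacter L => χ u) h4)
      rw [← hind]
      refine Gam_semi hD hE L hl lam he hxL (fun u => ?_) ?_
      · rw [← h3, ← hx, IrrCharacter.mulAut_smul_apply, ← Subgroup.subtype_apply u,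
          ← map_conjAut_inv, Subgroup.subtype_apply, extendByZero_coe]
        rfl
      · push Not at hs
        obtain ⟨u, hu⟩ := hs
        exact ⟨u, fun h => hu (by simp only [IrrCharacter.ofLinear_apply, h])⟩
  · obtain ⟨θ', h1⟩ := θ.exists_quotient_of_le_charKer _ le_rfl
    have hQ : ∀ h : E ⧸ charKer θ.1, h ^ (p ^ D - 1) = 1 := fun h => by
      obtain ⟨x, rfl⟩ := QuotientGroup.mk_surjective h
      rw [← QuotientGroup.mk_pow, hE, QuotientGroup.mk_one]
    have h2 : ∀ h, θ' (h ^ p ^ e) = θ' h := fun h => by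
      obtain ⟨x, rfl⟩ := QuotientGroup.mk_surjective h
      rw [← QuotientGroup.mk_pow]
      exact (congrFun h1 _).trans ((hθ x).trans (congrFun h1 x).symm)
    have h3 : frobSum p e θ.1 = frobSum p e θ'.1 ∘ QuotientGroup.mk' (charKer θ.1) := by
      funext h
      simp only [frobSum, Function.comp_apply, ← h1, map_pow]
    rw [h3, Gam_comp]
    refine Fam.comp (ih _ ?_ _ hQ (frobSum_isCharacter hD hQ θ'.2.isCharacter e)
      (frobSum_pow (θ := θ'.1) h2) rfl) _
    have h4 := (charKer θ.1).card_mul_index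
    have h5 : 1 < Nat.card (charKer θ.1) := (Subgroup.one_lt_card_iff_ne_bot _).mpr hker
    have h6 : 0 < (charKer θ.1).index := Nat.pos_of_ne_zero Subgroup.index_ne_zero_of_finite
    change (charKer θ.1).index < _
    nlinarith

theorem Gam_mem (hD : D ≠ 0) {E : Type u} [Group E] [Finite E]
    (hE : ∀ h : E, h ^ (p ^ D - 1) = 1) {χ : E → ℂ}
    (hχ : IsCharacter E χ) (hF : ∀ h, χ (h ^ p) = χ h) : Gam p D χ ∈ Fam p E :=
  Fam.of_nilpotent (Gam_isClassFunction hχ) fun L hL => by
    have := Gam_mem_of_nilpotent (p := p) hD L (fun h => Subtype.ext (by simpa using hE h))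
      (hχ.comp L.subtype) (fun h => by simpa using hF h)
    rwa [Gam_comp] at this

end Cfsg.Kgv
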