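import Cfsg.Agent.Kgv.Uniq
import Cfsg.Agent.Kgv.Fam
import Cfsg.Agent.Char.Abelian
import Cfsg.Agent.Char.Prod

/-!
# Induction steps
-/

set_option autoImplicit false
set_option linter.unusedSectionVars false
set_option linter.unusedVariables false
set_option linter.style.haveILetI false

namespace Cfsg.Kgv

open Finset
open scoped ComplexConjugate

universe u v

variable {p : ℕ} [hp : Fact p.Prime] {D : ℕ} {E : Type u} [Group E] [Finite E]

theorem IsEig.unique {χ : E → ℂ} {h : E} {S T : Multiset ℂ} (hS : IsEig χ h S)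
    (hT : IsEig χ h T) : S = T := by
  classical
  have hli : LinearIndependent ℂ fun a : ℂ => (powersHom ℂ a : Multiplicative ℕ → ℂ) :=
    (linearIndependent_monoidHom (Multiplicative ℕ) ℂ).comp (powersHom ℂ) (powersHom ℂ).injective
  have key : ∀ (U : Multiset ℂ) (k : ℕ), U.toFinset ⊆ (S + T).toFinset →
      (U.map (· ^ k)).sum = ∑ a ∈ (S + T).toFinset, (U.count a : ℂ) * a ^ k := by
    intro U k hU
    rw [Finset.sum_multiset_map_count, ← Finset.sum_subset hU]
    · simp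
    · intro a _ ha
      simp [Multiset.count_eq_zero.2 (by simpa using ha)]
  have h0 := linearIndependent_iff'.1 hli (S + T).toFinset
    (fun a => (S.count a : ℂ) - T.count a) (by
      funext k
      have h1 := key S k.toAdd (by intro a; simp +contextual)
      have h2 := key T k.toAdd (by intro a; simp +contextual)
      rw [← hS, hT, h2] at h1
      simp only [Finset.sum_apply, Pi.smul_apply, powersHom_apply, smul_eq_mul, sub_mul,
        Finset.sum_sub_distrib, Pi.zero_apply]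
      rw [h1, sub_self])
  ext a
  by_cases ha : a ∈ (S + T).toFinset
  · exact_mod_cast sub_eq_zero.1 (h0 a ha)
  · simp only [Multiset.mem_toFinset, Multiset.mem_add, not_or] at ha
    rw [Multiset.count_eq_zero.2 ha.1, Multiset.count_eq_zero.2 ha.2]

theorem IsEig.eig_eq {χ : E → ℂ} {h : E} {S : Multiset ℂ} (hS : IsEig χ h S) : eig χ h = S :=
  IsEig.unique (Classical.epsilon_spec ⟨S, hS⟩) hS

theorem exists_eig_eq {χ : E → ℂ} (hχ : IsCharacter E χ) (h : E) :
    ∃ ε : Fin (charDegree χ) → ℂ, (∀ i, ε i ^ orderOf h = 1) ∧ IsEig χ h (univ.val.map ε) := by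
  obtain ⟨ε, h1, h2, -⟩ := hχ.exists_roots h
  exact ⟨ε, h1, fun k => by rw [h2, Multiset.map_map]; rfl⟩

theorem isEig_eig {χ : E → ℂ} (hχ : IsCharacter E χ) (h : E) : IsEig χ h (eig χ h) := by
  obtain ⟨ε, -, h2⟩ := exists_eig_eq hχ h
  rwa [h2.eig_eq]

theorem eig_pow_orderOf {χ : E → ℂ} (hχ : IsCharacter E χ) (h : E) :
    ∀ α ∈ eig χ h, α ^ orderOf h = 1 := by
  obtain ⟨ε, h1, h2⟩ := exists_eig_eq hχ h
  rw [h2.eig_eq]
  intro α hα
  obtain ⟨i, -, rfl⟩ := Multiset.mem_map.1 hα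
  exact h1 i

theorem card_eig {χ : E → ℂ} (hχ : IsCharacter E χ) (h : E) :
    Multiset.card (eig χ h) = charDegree χ := by
  obtain ⟨ε, h1, h2⟩ := exists_eig_eq hχ h
  simp [h2.eig_eq]

theorem good_eig (hE : ∀ h : E, h ^ (p ^ D - 1) = 1) {χ : E → ℂ} (hχ : IsCharacter E χ)
    (hF : ∀ h, χ (h ^ p) = χ h) (h : E) : Good p D (eig χ h) := by
  refine ⟨fun α hα => ?_, IsEig.unique (χ := χ) (h := h) (fun k => ?_) (isEig_eig hχ h)⟩
  · obtain ⟨m, hm⟩ := orderOf_dvd_of_pow_eq_one (hE h)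
    rw [hm, pow_mul, eig_pow_orderOf hχ h α hα, one_pow]
  · rw [← hF, ← pow_mul, isEig_eig hχ h, Multiset.map_map]
    simp only [Function.comp_def, ← pow_mul, mul_comm]

theorem Gam_isClassFunction {χ : E → ℂ} (hχ : IsCharacter E χ) (c : (ZMod p)ˣ) :
    IsClassFunction E (Gam p D χ c) := by
  intro g h
  have : IsEig χ (h * g * h⁻¹) (eig χ g) := fun k => by
    rw [conj_pow, hχ.isClassFunction, isEig_eig hχ g]
  simp only [Gam, this.eig_eq]

theorem Gam_comp {E' : Type v} [Group E'] (χ : E → ℂ) (φ : E' →* E) :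
    Gam p D (χ ∘ φ) = fun c => Gam p D χ c ∘ φ := by
  funext c h
  have : IsEig (χ ∘ φ) h = IsEig χ (φ h) := by
    funext S
    simp only [IsEig, Function.comp_apply, map_pow]
  simp only [Gam, eig, this, Function.comp_apply]

theorem one_lt_pow_D (hD : D ≠ 0) : 1 < p ^ D := Nat.one_lt_pow hD hp.out.one_lt

theorem coprime_pow_sub_one (hD : D ≠ 0) : p.Coprime (p ^ D - 1) := by
  have h := Nat.coprime_self_sub_right (one_lt_pow_D (p := p) hD).le
  exact Nat.Coprime.coprime_dvd_left (dvd_pow_self p hD) (h.2 (Nat.coprime_one_right _))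

theorem coprime_card_of_exp (hD : D ≠ 0) (hE : ∀ h : E, h ^ (p ^ D - 1) = 1) :
    p.Coprime (Nat.card E) := by
  rw [hp.out.coprime_iff_not_dvd]
  intro h
  obtain ⟨x, hx⟩ := exists_prime_orderOf_dvd_card' p h
  have h1 := orderOf_dvd_of_pow_eq_one (hE x)
  rw [hx] at h1
  exact hp.out.coprime_iff_not_dvd.1 (coprime_pow_sub_one hD) h1

theorem pow_pow_D (hD : D ≠ 0) (hE : ∀ h : E, h ^ (p ^ D - 1) = 1) (h : E) : h ^ p ^ D = h := by
  rw [← Nat.sub_add_cancel (one_lt_pow_D (p := p) hD).le, pow_succ, hE, one_mul]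

theorem frobSum_eq_sum (e : ℕ) (θ : E → ℂ) :
    frobSum p e θ = ∑ i ∈ range e, fun h => θ (h ^ p ^ i) := by
  funext h
  simp [frobSum]

theorem frobSum_isCharacter (hD : D ≠ 0) (hE : ∀ h : E, h ^ (p ^ D - 1) = 1) {θ : E → ℂ}
    (hθ : IsCharacter E θ) (e : ℕ) : IsCharacter E (frobSum p e θ) := by
  rw [frobSum_eq_sum]
  exact IsCharacter.sum fun i _ => hθ.pow_coprime ((coprime_card_of_exp hD hE).pow_left i)

theorem frobSum_pow {θ : E → ℂ} {e : ℕ} (hF : ∀ h, θ (h ^ p ^ e) = θ h) (h : E) :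
    frobSum p e θ (h ^ p) = frobSum p e θ h := by
  have h1 := Finset.sum_range_succ (fun i => θ (h ^ p ^ i)) e
  rw [Finset.sum_range_succ', hF, pow_zero, pow_one, add_left_inj] at h1
  simp only [frobSum, ← h1, ← pow_mul, pow_succ']

theorem IsEig.add {χ ψ : E → ℂ} {h : E} {S T : Multiset ℂ} (hS : IsEig χ h S) (hT : IsEig ψ h T) :
    IsEig (χ + ψ) h (S + T) := fun k => by
  rw [Pi.add_apply, hS, hT, Multiset.map_add, Multiset.sum_add]

theorem Gam_add (hD : D ≠ 0) (hE : ∀ h : E, h ^ (p ^ D - 1) = 1) {χ ψ : E → ℂ}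
    (hχ : IsCharacter E χ) (hψ : IsCharacter E ψ) (hF : ∀ h, χ (h ^ p) = χ h)
    (hF' : ∀ h, ψ (h ^ p) = ψ h) : Gam p D (χ + ψ) = Gam p D χ * Gam p D ψ := by
  funext c h
  simp only [Gam, ((isEig_eig hχ h).add (isEig_eig hψ h)).eig_eq,
    gam_add hD (good_eig hE hχ hF h) (good_eig hE hψ hF' h), Pi.mul_apply]

theorem isCharacter_sub_sum_irr {χ : E → ℂ} (hχ : IsCharacter E χ) (s : Finset (IrrCharacter E))
    (hs : ∀ ψ ∈ s, ip χ ψ.1 ≠ 0) : IsCharacter E (χ - ∑ ψ ∈ s, ψ.1) := by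
  classical
  induction s using Finset.induction_on with
  | empty => simpa using hχ
  | insert a s ha ih =>
    rw [Finset.sum_insert ha, add_comm, ← sub_sub]
    refine (ih fun ψ h => hs ψ (mem_insert_of_mem h)).sub_irr a ?_
    rw [ip_sub_left, ip_sum_left, Finset.sum_eq_zero fun ψ h =>
      IrrCharacter.ip_of_ne (ne_of_mem_of_not_mem h ha), sub_zero]
    exact hs a (mem_insert_self _ _)

/-- Reduction to Frobenius orbits of irreducible characters. -/
theorem Gam_mem_of_irr (hD : D ≠ 0) (hE : ∀ h : E, h ^ (p ^ D - 1) = 1)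
    (H : ∀ (θ : IrrCharacter E) (e : ℕ), e ∣ D → (∀ h, θ (h ^ p ^ e) = θ h) →
      Gam p D (frobSum p e θ.1) ∈ Fam p E)
    {χ : E → ℂ} (hχ : IsCharacter E χ) (hF : ∀ h, χ (h ^ p) = χ h) : Gam p D χ ∈ Fam p E := by
  classical
  have hc := coprime_card_of_exp hD hE
  induction hn : charDegree χ using Nat.strong_induction_on generalizing χ with
  | _ n ih =>
  by_cases h0 : χ = 0
  · have : Gam p D χ = 1 := by
      funext c h
      have : IsEig χ h 0 := fun k => by simp [h0]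
      simp only [Gam, this.eig_eq, gam_zero hD, Pi.one_apply]
    rw [this]
    exact Fam.one
  obtain ⟨θ, hθ⟩ := hχ.exists_constituent h0
  let F : IrrCharacter E → IrrCharacter E := fun θ => θ.galPow p hc
  have hFi : ∀ (i : ℕ) (θ : IrrCharacter E) (h : E), F^[i] θ h = θ (h ^ p ^ i) := by
    intro i
    induction i with
    | zero => simp
    | succ i ih =>
      intro θ h
      rw [Function.iterate_succ_apply', IrrCharacter.galPow_apply, ih, ← pow_mul, pow_succ']
  have hD' : Function.IsPeriodicPt F D θ := Subtype.ext <| funext fun h => by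
    rw [show (F^[D] θ).1 h = _ from hFi D θ h, pow_pow_D hD hE]
  set e := Function.minimalPeriod F θ with he
  have he0 : 0 < e := hD'.minimalPeriod_pos (Nat.pos_of_ne_zero hD)
  have hper : ∀ h, θ (h ^ p ^ e) = θ h := fun h => by
    rw [← hFi, (Function.isPeriodicPt_minimalPeriod F θ).eq]
  have hip : ∀ i, ip χ (F^[i] θ).1 ≠ 0 := by
    intro i
    induction i with
    | zero => exact hθ
    | succ i ih =>
      haveI := Fintype.ofFinite E
      rw [Function.iterate_succ_apply', ip_def]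
      rw [ip_def, ← Equiv.sum_comp (powCoprime hc.symm)] at ih
      simp only [powCoprime_apply, hF] at ih
      exact ih
  have hsum : frobSum p e θ.1 = ∑ ψ ∈ (range e).image fun i => F^[i] θ, ψ.1 := by
    rw [Finset.sum_image (by
      simpa using Function.iterate_injOn_Iio_minimalPeriod (f := F) (x := θ)), frobSum_eq_sum]
    exact Finset.sum_congr rfl fun i _ => funext fun h => (hFi i θ h).symm
  have h1 := frobSum_isCharacter hD hE θ.isCharacter e
  have h2 : IsCharacter E (χ - frobSum p e θ.1) := by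
    rw [hsum]
    refine isCharacter_sub_sum_irr hχ _ fun ψ hψ => ?_
    obtain ⟨i, -, rfl⟩ := Finset.mem_image.1 hψ
    exact hip i
  have h3 : ∀ h, (χ - frobSum p e θ.1) (h ^ p) = (χ - frobSum p e θ.1) h := fun h => by
    rw [Pi.sub_apply, Pi.sub_apply, hF, frobSum_pow hper]
  have h4 : χ = frobSum p e θ.1 + (χ - frobSum p e θ.1) := by abel
  have h5 : charDegree (χ - frobSum p e θ.1) < n := by
    have h6 := h1.charDegree_add_B h2
    rw [← h4, hn] at h6
    have h7 : charDegree (frobSum p e θ.1) ≠ 0 := fun h => by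
      have h8 := h1.apply_one
      simp only [h, frobSum, one_pow, Finset.sum_const, card_range, nsmul_eq_mul, Nat.cast_zero,
        mul_eq_zero, Nat.cast_eq_zero] at h8
      exact h8.elim he0.ne' θ.apply_one_ne_zero
    omega
  rw [h4, Gam_add hD hE h1 h2 (frobSum_pow hper) h3]
  exact Fam.mul (H θ e hD'.minimalPeriod_dvd hper) (ih _ h5 h2 h3 rfl)

theorem pow_sub_one_eq_one {α : ℂˣ} {n : ℕ} (hn : 0 < n) (h : α ^ n = α) :
    (α : ℂ) ^ (n - 1) = 1 := by
  rw [← Nat.sub_add_cancel hn, pow_succ, mul_eq_right] at h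
  rw [← Units.val_pow_eq_pow_val, show α ^ (n - 1) = 1 from h, Units.val_one]

theorem sum_orb_pow (e : ℕ) (α : ℂ) (k : ℕ) :
    ((orb p e α).map (· ^ k)).sum = ∑ i ∈ range e, α ^ (k * p ^ i) := by
  rw [orb, Multiset.map_map]
  simp only [Function.comp_def, ← pow_mul, mul_comm]
  rfl

theorem Fam.GS_mem (e : ℕ) (j : ZMod p) {T : E → ℂ} (hT : IsCharacter E T) :
    (fun (c : (ZMod p)ˣ) h => GS p D e (c * j) (T h)) ∈ Fam p E := by
  have : (fun (c : (ZMod p)ˣ) h => GS p D e (c * j) (T h)) = -∑ b ∈ range (p ^ e - 1),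
      fun (c : (ZMod p)ˣ) h => ZMod.stdAddChar ((c : ZMod p) * (j * TT p D e b)) * (T ^ b) h := by
    funext c h
    simp [GS, mul_assoc]
  rw [this]
  exact neg_mem (sum_mem fun b _ => Fam.of_gen (hT.pow b).isGen _)

theorem Gam_lin (hD : D ≠ 0) (hE : ∀ h : E, h ^ (p ^ D - 1) = 1) (lam : E →* ℂˣ) {e : ℕ}
    (he : e ∣ D) (hF : ∀ h, lam (h ^ p ^ e) = lam h) :
    Gam p D (frobSum p e fun h => (lam h : ℂ)) ∈ Fam p E := by
  have : Gam p D (frobSum p e fun h => (lam h : ℂ)) =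
      fun (c : (ZMod p)ˣ) h => GS p D e (c * 1) (lam h) := by
    funext c h
    have h1 : IsEig (frobSum p e fun h => (lam h : ℂ)) h (orb p e (lam h)) := fun k => by
      simp only [sum_orb_pow, frobSum, ← pow_mul, map_pow, Units.val_pow_eq_pow_val]
    rw [Gam, h1.eig_eq, gam_orb hD he (pow_sub_one_eq_one (pow_pos hp.out.pos _)
      (by rw [← map_pow, hF])), mul_one]
  rw [this]
  exact Fam.GS_mem e 1 (isIrrCharacter_of_monoidHom lam).isCharacter

theorem Gam_mem_of_comm [IsMulCommutative E] (hD : D ≠ 0) (hE : ∀ h : E, h ^ (p ^ D - 1) = 1)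
    {χ : E → ℂ} (hχ : IsCharacter E χ) (hF : ∀ h, χ (h ^ p) = χ h) : Gam p D χ ∈ Fam p E := by
  refine Gam_mem_of_irr hD hE (fun θ e he h => ?_) hχ hF
  obtain ⟨lam, rfl⟩ := IrrCharacter.exists_ofLinear_eq_of_charDegree
    θ.charDegree_eq_one_of_isMulCommutative
  exact Gam_lin hD hE lam he fun g => Units.ext (h g)

theorem sum_rts_pow {l : ℕ} (hl : l ≠ 0) (S : Multiset ℂ) (k : ℕ) :
    ((rts l S).map (· ^ k)).sum = if l ∣ k then l * (S.map (· ^ (k / l))).sum else 0 := by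
  have hζ := isPrimitiveRoot_exp_nat hl
  set ζ := Complex.exp (2 * Real.pi * Complex.I / (l : ℂ))
  induction S using Multiset.induction_on with
  | empty => simp [rts]
  | cons a S ih =>
    obtain ⟨α, rfl⟩ := IsAlgClosed.exists_pow_nat_eq a (Nat.pos_of_ne_zero hl)
    rw [rts, Multiset.cons_bind, Multiset.map_add, Multiset.sum_add, ← rts, ih,
      hζ.nthRoots_eq rfl, Multiset.map_map]
    have : ((Multiset.range l).map ((· ^ k) ∘ fun i => ζ ^ i * α)).sum =
        (∑ i ∈ range l, (ζ ^ k) ^ i) * α ^ k := by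
      rw [Finset.sum_mul]
      simp only [Function.comp_def, mul_pow, ← pow_mul, mul_comm k]
      rfl
    rw [this]
    split_ifs with h
    · obtain ⟨m, rfl⟩ := h
      simp only [pow_mul, hζ.pow_eq_one, one_pow, Finset.sum_const, card_range, nsmul_eq_mul,
        mul_one, Multiset.map_cons, Multiset.sum_cons, Nat.mul_div_cancel_left m
        (Nat.pos_of_ne_zero hl), mul_add]
    · have h1 : ζ ^ k ≠ 1 := fun e => h ((hζ.pow_eq_one_iff_dvd k).1 e)
      rw [geom_sum_eq h1, ← pow_mul, mul_comm k, pow_mul, hζ.pow_eq_one]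
      simp

section Index

variable {L : Subgroup E} [L.Normal] {x : E}

theorem orderOf_mk_eq (hl : L.index.Prime) (hx : x ∉ L) : orderOf (x : E ⧸ L) = L.index :=
  (hl.eq_one_or_self_of_dvd _ (orderOf_dvd_natCard _)).resolve_left fun h =>
    hx ((QuotientGroup.eq_one_iff x).1 (orderOf_eq_one_iff.1 h))

theorem pow_mem_iff (hl : L.index.Prime) (hx : x ∉ L) (k : ℕ) : x ^ k ∈ L ↔ L.index ∣ k := by
  rw [← QuotientGroup.eq_one_iff, QuotientGroup.mk_pow, ← orderOf_dvd_iff_pow_eq_one,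
    orderOf_mk_eq hl hx]

theorem ind_eq_sum_range (hl : L.index.Prime) (hx : x ∉ L) {θ : L → ℂ}
    (hθ : IsClassFunction L θ) (g : E) :
    ind L.subtype θ g = ∑ k ∈ range L.index, extendByZero L θ ((x ^ k)⁻¹ * g * x ^ k) := by
  haveI := Fintype.ofFinite (E ⧸ L)
  have hb : Function.Bijective fun k : Fin L.index => ((x ^ (k : ℕ) : E) : E ⧸ L) := by
    rw [Fintype.bijective_iff_injective_and_card]
    refine ⟨fun a b h => Fin.ext (pow_injOn_Iio_orderOf (x := (x : E ⧸ L)) ?_ ?_ h), ?_⟩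
    · simp [orderOf_mk_eq hl hx]
    · simp [orderOf_mk_eq hl hx]
    · rw [Fintype.card_fin, ← Nat.card_eq_fintype_card, Subgroup.index]
  let ε := Equiv.ofBijective _ hb
  rw [ind_subtype_apply_eq_sum_section L hθ (fun q => x ^ (ε.symm q : ℕ))
    (fun q => ε.apply_symm_apply q), Finset.sum_range,
    ← Equiv.sum_comp ε.symm fun k => extendByZero L θ ((x ^ (k : ℕ))⁻¹ * g * x ^ (k : ℕ))]

theorem conj_mem_of_mem {u : E} (hu : u ∈ L) (y : E) : y⁻¹ * u * y ∈ L :=
  ‹L.Normal›.conj_mem' u hu y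

theorem ind_pow_of_notMem (hl : L.index.Prime) (hx : x ∉ L) {θ : L → ℂ}
    (hθ : IsClassFunction L θ) (k : ℕ) : ind L.subtype θ (x ^ k) =
      if L.index ∣ k then L.index * θ (⟨x ^ L.index, L.pow_index_mem x⟩ ^ (k / L.index))
      else 0 := by
  split_ifs with h
  · obtain ⟨m, rfl⟩ := h
    rw [ind_eq_sum_range hl hx hθ, Nat.mul_div_cancel_left m hl.pos, Finset.sum_congr rfl
      (g := fun _ => θ (⟨x ^ L.index, L.pow_index_mem x⟩ ^ m)) fun j _ => ?_]
    · simp
    · rw [← extendByZero_coe L θ]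
      congr 1
      simp only [SubmonoidClass.mk_pow, ← pow_mul]
      group
  · exact ind_apply_eq_zero_of_normal _ _ (N := L) (by simp) (by rwa [pow_mem_iff hl hx])

theorem ind_pow_eq (hD : D ≠ 0) (hE : ∀ h : E, h ^ (p ^ D - 1) = 1) {χ : L → ℂ} {n : ℕ} {y : E}
    (hF : ∀ u : L, χ (u ^ p ^ n) = extendByZero L χ (y⁻¹ * u * y)) (g : E) :
    ind L.subtype χ (g ^ p ^ n) = ind L.subtype χ g := by
  haveI := Fintype.ofFinite E
  have key : ∀ g : E, extendByZero L χ (g ^ p ^ n) = extendByZero L χ (y⁻¹ * g * y) := by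
    intro g
    by_cases hg : g ∈ L
    · exact (extendByZero_of_mem _ _ (pow_mem hg _)).trans (hF ⟨g, hg⟩)
    · rw [extendByZero_of_notMem _ _ fun h => hg ?_, extendByZero_of_notMem _ _ fun h => hg ?_]
      · simpa [mul_assoc] using ‹L.Normal›.conj_mem _ h y
      · obtain ⟨m, hm⟩ := exists_pow_eq_self_of_coprime (x := g)
          (((coprime_card_of_exp hD hE).pow_left n).coprime_dvd_right (orderOf_dvd_natCard g))
        exact hm ▸ pow_mem h m
  rw [ind_subtype_apply, ind_subtype_apply, ← Equiv.sum_comp (Equiv.mulRight y)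
    fun x => extendByZero L χ (x⁻¹ * g * x)]
  refine congrArg _ (Finset.sum_congr rfl fun w _ => ?_)
  have : w⁻¹ * g ^ p ^ n * w = (w⁻¹ * g * w) ^ p ^ n := by
    simpa using (conj_pow (a := w⁻¹) (b := g) (i := p ^ n)).symm
  rw [this, key]
  simp [mul_assoc]

theorem index_dvd_exp (hE : ∀ h : E, h ^ (p ^ D - 1) = 1) (hl : L.index.Prime) (hx : x ∉ L) :
    L.index ∣ p ^ D - 1 := (pow_mem_iff hl hx _).1 (by rw [hE]; exact one_mem L)

theorem exists_lu (hD : D ≠ 0) {l : ℕ} (h : l ∣ p ^ D - 1) :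
    ∃ lu : (ZMod p)ˣ, (lu : ZMod p) = l :=
  ⟨ZMod.unitOfCoprime l ((coprime_pow_sub_one hD).coprime_dvd_right h).symm, rfl⟩

theorem exists_notMem_of_prime (hl : L.index.Prime) : ∃ x, x ∉ L := by
  by_contra! h
  exact hl.one_lt.ne' (Subgroup.index_eq_one.2 ((Subgroup.eq_top_iff' L).2 h))

theorem exists_kappa (hD : D ≠ 0) (hE : ∀ h : E, h ^ (p ^ D - 1) = 1) (hl : L.index.Prime) :
    ∃ κ ∈ Fam p E, (∀ c, ∀ u ∈ L, κ c u = 1) ∧
      ∀ c u, u ∉ L → κ c u = gam p D (rts L.index {1}) c := by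
  classical
  haveI : Fact (Nat.card (E ⧸ L)).Prime := ⟨hl⟩
  haveI : IsCyclic (E ⧸ L) := isCyclic_of_prime_card rfl
  have hE' : ∀ h : E ⧸ L, h ^ (p ^ D - 1) = 1 := fun h => by
    obtain ⟨g, rfl⟩ := QuotientGroup.mk_surjective h
    rw [← QuotientGroup.mk_pow, hE, QuotientGroup.mk_one]
  have hr : ∀ q : E ⧸ L, regCharB (E ⧸ L) q = if q = 1 then (L.index : ℂ) else 0 := fun q => by
    split_ifs with h
    · rw [h, regCharB_one]; rfl
    · exact regCharB_of_ne_one h
  have h1 : Gam p D (regCharB (E ⧸ L)) ∈ Fam p (E ⧸ L) :=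
    Gam_mem_of_comm hD hE' isCharacter_regCharB fun q => by
      rw [hr, hr, if_congr ⟨fun h => (pow_eq_one_iff_of_coprime (coprime_pow_sub_one hD)).1
        ⟨h, hE' q⟩, fun h => by rw [h, one_pow]⟩ rfl rfl]
  refine ⟨_, Fam.comp h1 (QuotientGroup.mk' L), fun c u hu => ?_, fun c u hu => ?_⟩
  · have : IsEig (regCharB (E ⧸ L)) (QuotientGroup.mk' L u) (Multiset.replicate L.index 1) :=
      fun k => by simp [(QuotientGroup.eq_one_iff u).2 hu, Subgroup.index]
    simp only [Function.comp_apply, Gam, this.eig_eq, gam_replicate_one hD, Pi.one_apply]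
  · have : IsEig (regCharB (E ⧸ L)) (QuotientGroup.mk' L u) (rts L.index {1}) := fun k => by
      rw [hr, sum_rts_pow hl.ne_zero, QuotientGroup.mk'_apply, ← QuotientGroup.mk_pow]
      simp [QuotientGroup.eq_one_iff, pow_mem_iff hl hu, -QuotientGroup.mk_pow]
    simp only [Function.comp_apply, Gam, this.eig_eq]

end Index

theorem msum_map_sum {ι : Type*} (s : Finset ι) (S : ι → Multiset ℂ) (f : ℂ → ℂ) :
    ((∑ i ∈ s, S i).map f).sum = ∑ i ∈ s, ((S i).map f).sum :=
  map_sum ((Multiset.sumAddMonoidHom).comp (Multiset.mapAddMonoidHom f)) S s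

theorem gam_sum (hD : D ≠ 0) {ι : Type*} (s : Finset ι) {S : ι → Multiset ℂ}
    (h : ∀ i, Good p D (S i)) :
    Good p D (∑ i ∈ s, S i) ∧ gam p D (∑ i ∈ s, S i) = ∏ i ∈ s, gam p D (S i) := by
  classical
  induction s using Finset.induction_on with
  | empty => exact ⟨⟨by simp, by simp⟩, by simpa using gam_zero hD⟩
  | insert a s ha ih =>
    rw [Finset.sum_insert ha, Finset.prod_insert ha, gam_add hD (h a) ih.1, ih.2]
    exact ⟨(h a).add ih.1, rfl⟩

/-- Step A: induction of a Frobenius-stable character. -/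
theorem Gam_ind (hD : D ≠ 0) (hE : ∀ h : E, h ^ (p ^ D - 1) = 1) (L : Subgroup E) [L.Normal]
    (hl : L.index.Prime) {χ : L → ℂ} (hχ : IsCharacter L χ) (hF : ∀ h, χ (h ^ p) = χ h)
    (h : Gam p D χ ∈ Fam p L) : Gam p D (ind L.subtype χ) ∈ Fam p E := by
  classical
  obtain ⟨x, hx⟩ := exists_notMem_of_prime hl
  have hμ := index_dvd_exp hE hl hx
  obtain ⟨lu, hlu⟩ := exists_lu hD hμ
  obtain ⟨κ, hκ, k1, k2⟩ := exists_kappa hD hE hl
  have hEL : ∀ h : L, h ^ (p ^ D - 1) = 1 := fun h => Subtype.ext (hE h)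
  have hF' : ∀ g, ind L.subtype χ (g ^ p) = ind L.subtype χ g := fun g => by
    simpa using ind_pow_eq hD hE (n := 1) (y := 1) (χ := χ) (by simpa using hF) g
  let F : (ZMod p)ˣ → E → ℂ := fun c u => if u ∈ L then
    ∏ k ∈ range L.index, extendByZero L (Gam p D χ c) ((x ^ k)⁻¹ * u * x ^ k)
    else extendByZero L (Gam p D χ (c * lu)) (u ^ L.index)
  have hFm : F ∈ Fam p E := Fam.norm L hl rfl hx lu hlu h (fun c u hu => if_pos hu)
    fun c u hu => if_neg hu
  suffices Gam p D (ind L.subtype χ) = F * κ ^ charDegree χ from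
    this ▸ Fam.mul hFm (Fam.pow hκ _)
  funext c u
  by_cases hu : u ∈ L
  · have : IsEig (ind L.subtype χ) u
        (∑ k ∈ range L.index, eig χ ⟨_, conj_mem_of_mem hu (x ^ k)⟩) := fun m => by
      rw [ind_eq_sum_range hl hx hχ.isClassFunction, msum_map_sum]
      refine Finset.sum_congr rfl fun k _ => ?_
      rw [← isEig_eig hχ _ m, ← extendByZero_coe L χ]
      congr 1
      simpa using (conj_pow (a := (x ^ k)⁻¹) (b := u) (i := m)).symm
    simp only [Gam, this.eig_eq, (gam_sum hD _ fun k => good_eig hEL hχ hF _).2, Pi.mul_apply,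
      Pi.pow_apply, k1 c u hu, one_pow, mul_one, F, if_pos hu, Finset.prod_apply]
    exact Finset.prod_congr rfl fun k _ => by
      rw [extendByZero_of_mem _ _ (conj_mem_of_mem hu (x ^ k))]; rfl
  · have : IsEig (ind L.subtype χ) u (rts L.index (eig χ ⟨_, L.pow_index_mem u⟩)) := fun m => by
      rw [ind_pow_of_notMem hl hu hχ.isClassFunction, sum_rts_pow hl.ne_zero, isEig_eig hχ]
    have hg := good_eig hE (hχ.ind L.subtype) hF' u
    rw [this.eig_eq] at hg
    simp only [Gam, this.eig_eq, gam_rts hD hl lu hlu (good_eig hEL hχ hF _) hg hμ, card_eig hχ,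
      Pi.mul_apply, Pi.pow_apply, k2 c u hu, F, if_neg hu,
      extendByZero_of_mem _ _ (L.pow_index_mem u)]

theorem TT_mul_pow (hD : D ≠ 0) {e : ℕ} (he : e ∣ D) (b i : ℕ) :
    TT p D e (p ^ i * b) = TT p D e b := by
  induction i with
  | zero => simp
  | succ i ih => rw [pow_succ', mul_assoc, TT_mul_p hD he, ih]

theorem sum_range_eq_add {M N : ℕ} (hN : 0 < N) [NeZero (M * N)] (g : ℕ → ℂ) :
    ∑ b ∈ range (M * N), g b = ∑ b ∈ range M, g (b * N) +
      ∑ b : {b : ZMod (M * N) // ¬ N ∣ b.val}, g b.1.val := by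
  rw [← Finset.sum_filter_add_sum_filter_not _ (N ∣ ·)]
  congr 1
  · symm
    refine Finset.sum_nbij' (· * N) (· / N) ?_ ?_ ?_ ?_ fun _ _ => rfl
    · intro a ha
      simpa [hN] using ha
    · intro a ha
      simp only [mem_filter, mem_range] at ha ⊢
      exact Nat.div_lt_of_lt_mul (by rw [mul_comm]; exact ha.1)
    · intro a _
      exact Nat.mul_div_cancel a hN
    · intro a ha
      exact Nat.div_mul_cancel (mem_filter.1 ha).2
  · rw [← Finset.sum_subtype (univ.filter fun b : ZMod (M * N) => ¬ N ∣ b.val) (by simp)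
      fun b => g b.val]
    refine Finset.sum_nbij' (fun a => (a : ZMod (M * N))) ZMod.val ?_ ?_ ?_ ?_ ?_
    · intro a ha
      simp only [mem_filter, mem_range] at ha
      simpa [ZMod.val_cast_of_lt ha.1] using ha.2
    · intro a ha
      simpa [ZMod.val_lt] using ha
    · intro a ha
      exact ZMod.val_cast_of_lt (mem_range.1 (mem_filter.1 ha).1)
    · intro a _
      exact ZMod.natCast_zmod_val a
    · intro a ha
      rw [ZMod.val_cast_of_lt (mem_range.1 (mem_filter.1 ha).1)]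

theorem sum_range_mul_eq (e l : ℕ) (f : ℕ → ℂ) :
    ∑ j ∈ range (e * l), f j = ∑ i ∈ range e, ∑ k ∈ range l, f (i + e * k) := by
  induction l with
  | zero => simp
  | succ l ih =>
    rw [Nat.mul_succ, Finset.sum_range_add, ih]
    simp only [Finset.sum_range_succ, Finset.sum_add_distrib, add_comm (e * l)]

theorem GS_semi_mem (hD : D ≠ 0) (L : Subgroup E) [L.Normal] (hl : L.index.Prime)
    (lam : L →* ℂˣ) {e : ℕ} (he : e * L.index ∣ D) {x : E} (hx : x ∉ L)
    (h1 : ∀ (k : ℕ) (u : L), extendByZero L (fun v => (lam v : ℂ)) ((x ^ k)⁻¹ * u * x ^ k) =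
      (lam u : ℂ) ^ (p ^ e) ^ k) (h2 : ∀ u, (lam u : ℂ) ^ (p ^ (e * L.index) - 1) = 1) :
    ∃ F ∈ Fam p E, (∀ c (u : L), F c u = GS p D (e * L.index) c (lam u)) ∧
      ∀ c u, u ∉ L → F c u = GS p D e (c * L.index) (lam ⟨_, L.pow_index_mem u⟩) := by
  classical
  have hel : e * L.index ≠ 0 := ne_zero_of_dvd_ne_zero hD he
  have hR : 1 < p ^ e := one_lt_pow_D (left_ne_zero_of_mul hel)
  obtain ⟨N, hN⟩ : ∃ N, N = ∑ k ∈ range L.index, (p ^ e) ^ k := ⟨_, rfl⟩
  have hN' : N = (p ^ (e * L.index) - 1) / (p ^ e - 1) := by rw [hN, Nat.geomSum_eq hR, pow_mul]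
  have hn : p ^ (e * L.index) - 1 = (p ^ e - 1) * N := by
    rw [hN', Nat.mul_div_cancel']
    simpa [pow_mul] using Nat.sub_dvd_pow_sub_pow (p ^ e) 1 L.index
  have hn0 : (p ^ e - 1) * N ≠ 0 := hn ▸ Nat.sub_ne_zero_of_lt (one_lt_pow_D hel)
  haveI : NeZero ((p ^ e - 1) * N) := ⟨hn0⟩
  have hΛ : IsCharacter L fun v => (lam v : ℂ) := (isIrrCharacter_of_monoidHom lam).isCharacter
  obtain ⟨T, hT, t1, t2⟩ := exists_tens L hl rfl hx hΛ
  let R : (ZMod ((p ^ e - 1) * N))ˣ :=
    ZMod.unitOfCoprime (p ^ e) (hn ▸ (coprime_pow_sub_one hel).pow_left e)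
  have hRv : (R : ZMod ((p ^ e - 1) * N)) = (p ^ e : ℕ) := rfl
  have hfix : ∀ b : ZMod ((p ^ e - 1) * N), N ∣ b.val ↔ R • b = b := fun b => by
    rw [← Nat.mul_dvd_mul_iff_left (Nat.sub_pos_of_lt hR), ← ZMod.natCast_eq_zero_iff,
      Nat.cast_mul, Nat.cast_sub hR.le, ZMod.natCast_zmod_val, Units.smul_def, hRv, smul_eq_mul,
      sub_mul, Nat.cast_one, one_mul, sub_eq_zero]
  have hRl : R ^ L.index = 1 := Units.ext (by
    rw [Units.val_pow_eq_pow_val, hRv, ← Nat.cast_pow, ← pow_mul,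
      ← Nat.sub_add_cancel (one_lt_pow_D (p := p) hel).le, hn]
    simp)
  let τ : Equiv.Perm {b : ZMod ((p ^ e - 1) * N) // ¬ N ∣ b.val} :=
    (MulAction.toPerm R).subtypePerm fun b => by
      simp only [hfix, MulAction.toPerm_apply, smul_left_cancel_iff]
  have hτ : τ ^ L.index = 1 := by
    ext b
    rw [Equiv.Perm.subtypePerm_pow, Equiv.Perm.subtypePerm_apply]
    simp only [← MulAction.toPermHom_apply, ← map_pow, hRl, map_one, Equiv.Perm.one_apply]
  let g : (ZMod p)ˣ → L → ℕ → ℂ := fun c u b =>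
    ZMod.stdAddChar ((c : ZMod p) * TT p D (e * L.index) b) * (lam u : ℂ) ^ b
  have hF2 := Fam.orbit (p := p) L hl rfl hx τ hτ
    (fun b h => b.2 ((hfix _).2 (congrArg Subtype.val h))) (fun b c u => g c u b.1.val)
    (fun b => Fam.of_gen (hΛ.pow b.1.val).isGen _) (fun b c u hu => by
      have hv : (τ b).1.val = (p ^ e * b.1.val) % (p ^ (e * L.index) - 1) := by
        rw [hn, ← ZMod.val_natCast, Nat.cast_mul, ZMod.natCast_zmod_val]; rfl
      have h3 := h1 1 ⟨u, hu⟩
      rw [pow_one, pow_one, extendByZero_of_mem _ _ (conj_mem_of_mem hu x)] at h3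
      rw [extendByZero_of_mem _ _ hu, extendByZero_of_mem _ _ (conj_mem_of_mem hu x)]
      simp only [g, hv, TT_mod hD he, TT_mul_pow hD he, h3, ← pow_mul,
        ← pow_eq_pow_mod _ (h2 _)])
  refine ⟨_, sub_mem (Fam.GS_mem (D := D) e L.index hT) hF2, fun c u => ?_, fun c u hu => ?_⟩
  · have h3 : T u = (lam u : ℂ) ^ N := by
      rw [t1 u u.2, hN, ← Finset.prod_pow_eq_pow_sum]
      exact Finset.prod_congr rfl fun k _ => h1 k u
    have h4 := sum_range_eq_add (M := p ^ e - 1) (Nat.pos_of_ne_zero (right_ne_zero_of_mul hn0)) (g c u)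
    simp only [Pi.sub_apply, extendByZero_coe, Finset.sum_apply, GS, h3, hn]
    rw [h4, neg_add', sub_left_inj, neg_inj]
    refine Finset.sum_congr rfl fun b _ => ?_
    simp only [g]
    rw [← pow_mul, mul_comm N, mul_assoc, ← TT_lift hD he, ← hN']
  · simp only [Pi.sub_apply, extendByZero_of_notMem _ _ hu, sub_zero, t2 u hu,
      extendByZero_of_mem _ _ (L.pow_index_mem u)]

/-- Step B: the semilinear case. -/
theorem Gam_semi (hD : D ≠ 0) (hE : ∀ h : E, h ^ (p ^ D - 1) = 1) (L : Subgroup E) [L.Normal]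
    (hl : L.index.Prime) (lam : L →* ℂˣ) {e : ℕ} (he : e ∣ D) {x : E} (hx : x ∉ L)
    (hlam : ∀ u : L, (lam (u ^ p ^ e) : ℂ) = extendByZero L (fun v => (lam v : ℂ)) (x⁻¹ * u * x))
    (hne : ∃ u : L, lam (u ^ p ^ e) ≠ lam u) :
    Gam p D (frobSum p e (ind L.subtype fun v => (lam v : ℂ))) ∈ Fam p E := by
  classical
  have hΛ : IsCharacter L fun v => (lam v : ℂ) := (isIrrCharacter_of_monoidHom lam).isCharacter
  have he0 : e ≠ 0 := ne_zero_of_dvd_ne_zero hD he
  have h1 : ∀ (k : ℕ) (u : L), extendByZero L (fun v => (lam v : ℂ)) ((x ^ k)⁻¹ * u * x ^ k) =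
      (lam u : ℂ) ^ (p ^ e) ^ k := by
    intro k u
    induction k with
    | zero => simp
    | succ k ih =>
      rw [extendByZero_of_mem _ _ (conj_mem_of_mem u.2 _)] at ih
      rw [pow_succ (p ^ e), pow_mul, ← ih, ← Units.val_pow_eq_pow_val, ← map_pow, hlam]
      congr 1
      simp only [pow_succ]
      group
  have h2 : ∀ u, (lam u : ℂ) ^ (p ^ (e * L.index) - 1) = 1 := fun u => by
    refine pow_sub_one_eq_one (pow_pos hp.out.pos _) (Units.ext ?_)
    rw [Units.val_pow_eq_pow_val, pow_mul, ← h1,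
      extendByZero_conj hΛ.isClassFunction _ (L.pow_index_mem x), extendByZero_coe]
  have hel : e * L.index ∣ D := by
    obtain ⟨m, hm⟩ : e ∣ Nat.gcd (e * L.index) D := Nat.dvd_gcd (dvd_mul_right _ _) he
    have h3 : m ∣ L.index :=
      Nat.dvd_of_mul_dvd_mul_left (Nat.pos_of_ne_zero he0) (hm ▸ Nat.gcd_dvd_left _ _)
    rcases hl.eq_one_or_self_of_dvd m h3 with rfl | rfl
    · obtain ⟨u, hu⟩ := hne
      have h4 : (lam u : ℂ) ^ (p ^ D - 1) = 1 := by
        rw [← Units.val_pow_eq_pow_val, ← map_pow, show u ^ (p ^ D - 1) = 1 from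
          Subtype.ext (hE u), map_one, Units.val_one]
      have h5 := pow_gcd_eq_one.2 ⟨h2 u, h4⟩
      rw [Nat.pow_sub_one_gcd_pow_sub_one, hm, mul_one] at h5
      refine (hu (Units.ext ?_)).elim
      rw [map_pow, Units.val_pow_eq_pow_val,
        ← Nat.sub_add_cancel (one_lt_pow_D (p := p) he0).le, pow_succ, h5, one_mul]
    · exact hm ▸ Nat.gcd_dvd_right _ _
  obtain ⟨F, hF, f1, f2⟩ := GS_semi_mem hD L hl lam hel hx h1 h2
  have hμ := index_dvd_exp hE hl hx
  obtain ⟨lu, hlu⟩ := exists_lu hD hμ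
  obtain ⟨κ, hκ, k1, k2⟩ := exists_kappa hD hE hl
  suffices Gam p D (frobSum p e (ind L.subtype fun v => (lam v : ℂ))) = F * κ ^ e from
    this ▸ Fam.mul hF (Fam.pow hκ _)
  funext c u
  by_cases hu : u ∈ L
  · have : IsEig (frobSum p e (ind L.subtype fun v => (lam v : ℂ))) u
        (orb p (e * L.index) (lam ⟨u, hu⟩)) := fun m => by
      rw [sum_orb_pow, frobSum, sum_range_mul_eq]
      refine Finset.sum_congr rfl fun i _ => ?_
      rw [ind_eq_sum_range hl hx hΛ.isClassFunction]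
      refine Finset.sum_congr rfl fun k _ => ?_
      rw [← pow_mul u]
      refine (h1 k (⟨u, hu⟩ ^ (m * p ^ i))).trans ?_
      rw [map_pow, Units.val_pow_eq_pow_val, ← pow_mul, ← pow_mul, mul_assoc, ← pow_add]
    simp only [Gam, this.eig_eq, gam_orb hD hel (h2 _), Pi.mul_apply, Pi.pow_apply, k1 c u hu,
      one_pow, mul_one, ← f1]
  · have : IsEig (frobSum p e (ind L.subtype fun v => (lam v : ℂ))) u
        (rts L.index (orb p e (lam ⟨_, L.pow_index_mem u⟩))) := fun m => by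
      rw [sum_rts_pow hl.ne_zero, sum_orb_pow, frobSum]
      have hc : L.index.Coprime p := ((coprime_pow_sub_one hD).coprime_dvd_right hμ).symm
      simp only [← pow_mul, ind_pow_of_notMem hl hu hΛ.isClassFunction,
        fun i => (hc.pow_right i).dvd_mul_right (m := m)]
      split_ifs with h
      · obtain ⟨m, rfl⟩ := h
        simp only [Finset.mul_sum, mul_assoc, Nat.mul_div_cancel_left _ hl.pos, map_pow,
          Units.val_pow_eq_pow_val]
      · simp
    have hg := good_eig hE (frobSum_isCharacter hD hE (hΛ.ind L.subtype) e)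
      (frobSum_pow (ind_pow_eq hD hE hlam)) u
    rw [this.eig_eq] at hg
    have h3 : (lam ⟨_, L.pow_index_mem u⟩ : ℂ) ^ (p ^ e - 1) = 1 := by
      refine pow_sub_one_eq_one (pow_pos hp.out.pos _) (Units.ext ?_)
      obtain ⟨j, hj⟩ : ∃ j : ℕ, (u ^ j)⁻¹ * x ∈ L := by
        haveI : Fact L.index.Prime := ⟨hl⟩
        obtain ⟨j, hj⟩ := (mem_powers_iff_mem_zpowers.2 (mem_zpowers_of_prime_card (G := E ⧸ L)
          (p := L.index) rfl (fun h => hu ((QuotientGroup.eq_one_iff u).1 h)) (g' := (x : E ⧸ L))))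
        exact ⟨j, QuotientGroup.eq.1 hj⟩
      rw [← map_pow, hlam, ← extendByZero_coe L fun v => (lam v : ℂ),
        ← extendByZero_conj hΛ.isClassFunction (u ^ L.index) hj]
      congr 1
      simp only
      group
    simp only [Gam, this.eig_eq, gam_rts hD hl lu hlu (good_orb hD he h3) hg hμ, gam_orb hD he h3,
      Pi.mul_apply, Pi.pow_apply, k2 c u hu, f2 c u hu, Units.val_mul, hlu]
    simp [orb]

end Cfsg.Kgv
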