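import Cfsg.Agent.Kgv.StickB

/-!
# Gauss sums: absolute value and Stickelberger's congruence
-/

set_option autoImplicit false
set_option linter.unusedSectionVars false
set_option linter.unusedVariables false
set_option linter.style.haveILetI false

namespace Cfsg.Kgv

open Finset
open scoped ComplexConjugate

universe u v

variable {p : ℕ} [hp : Fact p.Prime] {D : ℕ}

theorem sub_one_dvd {e : ℕ} (he : e ∣ D) : p ^ e - 1 ∣ p ^ D - 1 :=
  Nat.pow_sub_one_dvd_pow_sub_one p he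

theorem gF_prim (hD : D ≠ 0) : IsPrimitiveRoot (gF p D : GaloisField p D) (p ^ D - 1) := by
  rw [IsPrimitiveRoot.coe_units_iff, ← GaloisField.card p D hD, ← Nat.card_units,
    ← orderOf_eq_card_of_forall_mem_zpowers (gF_spec p D)]
  exact IsPrimitiveRoot.orderOf _

theorem gen_prim (hD : D ≠ 0) {e : ℕ} (he : e ∣ D) : IsPrimitiveRoot (gen p D e) (p ^ e - 1) :=
  (gF_prim hD).pow (pow_sub_one_pos hD) (Nat.div_mul_cancel (sub_one_dvd he)).symm

theorem pow_pow_eq_self {A : Type*} [Monoid A] {e : ℕ} {x : A} (hx : x ^ (p ^ e - 1) = 1) :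
    x ^ p ^ e = x := by
  rw [← Nat.sub_add_cancel (Nat.one_le_pow e p hp.out.pos), pow_succ, hx, one_mul]

theorem gen_pow_pow (hD : D ≠ 0) {e : ℕ} (he : e ∣ D) (b : ℕ) :
    (gen p D e ^ b) ^ p ^ e = gen p D e ^ b :=
  pow_pow_eq_self (by rw [← pow_mul, mul_comm, pow_mul, (gen_prim hD he).pow_eq_one, one_pow])

theorem sum_frob {A : Type*} [CommRing A] {e : ℕ} {x : A} (hx : x ^ p ^ e = x) :
    ∑ i ∈ range e, (x ^ p) ^ p ^ i = ∑ i ∈ range e, x ^ p ^ i := by
  have h3 := (Finset.sum_range_succ (fun i => x ^ p ^ i) e).symm.trans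
    (Finset.sum_range_succ' (fun i => x ^ p ^ i) e)
  simp only [hx, pow_zero, pow_one, add_left_inj] at h3
  rw [h3]
  exact Finset.sum_congr rfl fun i _ => by rw [← pow_mul, ← pow_succ']

theorem TT_mod (hD : D ≠ 0) {e : ℕ} (he : e ∣ D) (b : ℕ) :
    TT p D e (b % (p ^ e - 1)) = TT p D e b := by
  rw [TT, TT, ← pow_eq_pow_mod b (gen_prim hD he).pow_eq_one]

theorem TT_mul_p (hD : D ≠ 0) {e : ℕ} (he : e ∣ D) (b : ℕ) : TT p D e (p * b) = TT p D e b := by
  rw [TT, TT, mul_comm, pow_mul, sum_frob (gen_pow_pow hD he b)]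

theorem TT_lift (hD : D ≠ 0) {e l : ℕ} (he : e * l ∣ D) (b : ℕ) :
    TT p D (e * l) (b * ((p ^ (e * l) - 1) / (p ^ e - 1))) = l * TT p D e b := by
  have he' : e ∣ D := (dvd_mul_right e l).trans he
  have h1 : gen p D (e * l) ^ (b * ((p ^ (e * l) - 1) / (p ^ e - 1))) = gen p D e ^ b := by
    rw [gen, gen, ← pow_mul, ← pow_mul, mul_left_comm, mul_comm _ b,
      Nat.div_mul_div (sub_one_dvd he) (sub_one_dvd (dvd_mul_right e l))]
  have h2 := gen_pow_pow (p := p) hD he' b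
  rw [TT, TT, h1, ← nsmul_eq_mul, ← map_nsmul]
  congr 1
  generalize gen p D e ^ b = x at h2
  clear he h1
  induction l with
  | zero => simp
  | succ l ih =>
    rw [Nat.mul_succ, Finset.sum_range_add, ih, succ_nsmul]
    congr 1
    refine Finset.sum_congr rfl fun i _ => ?_
    rw [pow_add, pow_mul, pow_mul]
    congr 1
    clear ih
    induction l with
    | zero => simp
    | succ l ih => rw [pow_succ, pow_mul, ih, h2]

/-- The subfield with `p ^ e` elements. -/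
noncomputable def subF (p : ℕ) [Fact p.Prime] (D e : ℕ) : Subfield (GaloisField p D) :=
  (iterateFrobenius (GaloisField p D) p e).eqLocusField (RingHom.id _)

theorem mem_subF {e : ℕ} {x : GaloisField p D} : x ∈ subF p D e ↔ x ^ p ^ e = x := by
  rw [subF, RingHom.mem_eqLocusField, iterateFrobenius_def]; rfl

/-- The trace on the subfield. -/
noncomputable def subTr (p : ℕ) [Fact p.Prime] (D e : ℕ) : subF p D e →+ ZMod p where
  toFun x := ret p D (∑ i ∈ range e, (x : GaloisField p D) ^ p ^ i)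
  map_zero' := by simp [zero_pow (pow_ne_zero _ (Fact.out : p.Prime).ne_zero)]
  map_add' x y := by simp [add_pow_char_pow, Finset.sum_add_distrib]

noncomputable instance subFintype (e : ℕ) : Fintype (subF p D e) := Fintype.ofFinite _

theorem exists_FF (hD : D ≠ 0) {e : ℕ} (he : e ∣ D) : ∃ γ : subF p D e, (γ : GaloisField p D) = gen p D e ∧ FF p e (subF p D e) γ (subTr p D e) ∧
      ∀ c α, GS p D e c α = gs e γ (subTr p D e) c α := by
  have h0 := gen_pow_pow (p := p) hD he 1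
  rw [pow_one] at h0
  refine ⟨⟨_, mem_subF.2 h0⟩, rfl, ⟨fun h => hD (by simpa [h] using he),
    inferInstance, IsPrimitiveRoot.of_map_of_injective (f := (subF p D e).subtype)
      (gen_prim hD he) Subtype.val_injective, fun x hx => ?_, fun x => Subtype.ext ?_⟩,
    fun c α => rfl⟩
  · have h1 : x ^ p ^ e = x := Subtype.ext (mem_subF.1 x.2)
    rw [← Nat.sub_add_cancel (Nat.one_le_pow e p hp.out.pos), pow_succ] at h1
    exact mul_right_cancel₀ hx (h1.trans (one_mul x).symm)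
  · have h1 : (∑ i ∈ range e, (x : GaloisField p D) ^ p ^ i) ^ p =
        ∑ i ∈ range e, (x : GaloisField p D) ^ p ^ i := by
      rw [sum_pow_char, ← sum_frob (mem_subF.1 x.2)]
      exact Finset.sum_congr rfl fun i _ => by rw [← pow_mul, ← pow_mul, mul_comm]
    obtain ⟨n, hn⟩ := (mem_bot_iff_intCast p _).1
      ((Subfield.mem_bot_iff_pow_eq_self _ p).2 h1)
    have h2 : subTr p D e x = n := by
      change ret p D _ = _
      rw [← hn, ← map_intCast (algebraMap (ZMod p) (GaloisField p D)), ret_algebraMap]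
    push_cast
    rw [← hn, h2, ← map_natCast (algebraMap (ZMod p) (GaloisField p D)), ZMod.natCast_zmod_val,
      map_intCast]

theorem GS_one (hD : D ≠ 0) {e : ℕ} (he : e ∣ D) (c : (ZMod p)ˣ) : GS p D e c 1 = 1 := by
  obtain ⟨γ, -, h, h'⟩ := exists_FF (p := p) hD he
  rw [h', h.gs_one]

theorem GS_mul_conj (hD : D ≠ 0) {e : ℕ} (he : e ∣ D) (c : (ZMod p)ˣ) {α : ℂ}
    (hα : α ^ (p ^ e - 1) = 1) (h1 : α ≠ 1) :
    GS p D e c α * conj (GS p D e c α) = (p : ℂ) ^ e := by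
  obtain ⟨γ, -, h, h'⟩ := exists_FF (p := p) hD he
  rw [h', h.gs_mul_conj c hα h1]

theorem mul_div_eq_mod {n : ℕ} (hn : p ∣ n + 1) (hn0 : 0 < n) (x : ℕ) :
    p * (x % n) / n = p * x % n % p := by
  have h1 : p * (x % n) / n < p := by
    rw [Nat.div_lt_iff_lt_mul hn0]
    exact Nat.mul_lt_mul_of_pos_left (Nat.mod_lt _ hn0) hp.out.pos
  have h2 := Nat.div_add_mod (p * (x % n)) n
  rw [Nat.mul_mod_mod] at h2
  obtain ⟨k, hk⟩ := hn
  rw [← Nat.mod_eq_of_lt h1]
  generalize p * (x % n) / n = d at *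
  have h3 : p * x % n + p * (k * d) = d + p * (x % n) := by
    rw [← mul_assoc, ← hk, ← h2]; ring
  rw [← Nat.add_mul_mod_self_left (p * x % n) p (k * d), h3, Nat.add_mul_mod_self_left]

theorem mul_pow_mod {i j x : ℕ} (hx : x < p ^ (j + (i + 1)) - 1) :
    x * p ^ (i + 1) % (p ^ (j + (i + 1)) - 1) % p = x / p ^ j % p := by
  have h1 := Nat.div_add_mod x (p ^ j)
  have h2 := Nat.mod_lt x (Nat.pow_pos (n := j) hp.out.pos)
  have h3 : x / p ^ j < p ^ (i + 1) := by
    rw [Nat.div_lt_iff_lt_mul (Nat.pow_pos hp.out.pos), ← pow_add, add_comm]; omega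
  rw [pow_add p j] at hx ⊢
  have hP : p ∣ p ^ (i + 1) := dvd_pow_self p (Nat.succ_ne_zero i)
  generalize p ^ (i + 1) = Q at *
  generalize p ^ j = P at *
  generalize x / P = u at *
  generalize x % P = v at *
  subst h1
  obtain ⟨n, hn⟩ : ∃ n, P * Q = n + 1 := ⟨P * Q - 1, by omega⟩
  rw [hn, Nat.add_sub_cancel] at hx ⊢
  have h4 : (P * u + v) * Q = u + v * Q + n * u := by
    calc _ = P * Q * u + v * Q := by ring
      _ = _ := by rw [hn]; ring
  have h5 : u + v * Q < n := by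
    obtain ⟨s, rfl⟩ := Nat.exists_eq_add_of_lt h2
    obtain ⟨t, rfl⟩ := Nat.exists_eq_add_of_lt h3
    rcases Nat.eq_zero_or_pos (s + t) with h | h
    · obtain ⟨rfl, rfl⟩ := Nat.add_eq_zero_iff.1 h
      nlinarith
    · nlinarith
  obtain ⟨k, rfl⟩ := hP
  rw [h4, Nat.add_mul_mod_self_left, Nat.mod_eq_of_lt h5, mul_left_comm,
    Nat.add_mul_mod_self_left]

/-- Stickelberger's congruence. -/
theorem stick (hD : D ≠ 0) {M : Ideal AlgInt} (hM : IsPModular p M) :
    ∃ ξ : ℂ, IsPrimitiveRoot ξ (p ^ D - 1) ∧ ∀ e : ℕ, e ∣ D → ∀ (c : (ZMod p)ˣ) (A : ℕ),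
      (ξ ^ A) ^ (p ^ e - 1) = 1 →
      red M (GS p D e c (ξ ^ A) / ∏ i ∈ range e, wt p c (dig p D (A * p ^ i))) = 1 := by
  haveI := hM.charP
  letI : Algebra (ZMod p) (ResK M) := ZMod.algebra _ p
  let ι : GaloisField p D →+* ResK M :=
    (IsAlgClosed.lift : GaloisField p D →ₐ[ZMod p] ResK M).toRingHom
  have hdvd : ∀ {e : ℕ}, e ≠ 0 → p ∣ p ^ e - 1 + 1 := fun {e} he => by
    rw [Nat.sub_add_cancel (Nat.one_le_pow e p hp.out.pos)]; exact dvd_pow_self p he
  have hn : ¬ p ∣ p ^ D - 1 := fun h =>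
    hp.out.not_dvd_one ((Nat.dvd_add_right h).1 (hdvd hD))
  have hg := ((gF_prim (p := p) hD).map_of_injective ι.injective).inv
  obtain ⟨ξ, hξ1, hξ⟩ := hM.exists_red_eq_of_pow hn hg.pow_eq_one
  have hξm : ξ ∈ locO M := mem_locO_of_pow_eq_one (pow_sub_one_pos hD).ne' hξ1
  have hprim : IsPrimitiveRoot ξ (p ^ D - 1) := ⟨hξ1, fun l hl => hg.dvd_of_pow_eq_one l (by
    rw [← hξ, ← red_pow hξm, hl, red_one])⟩
  refine ⟨ξ, hprim, fun e he c A hA => ?_⟩
  obtain ⟨γ, hγ, h, h'⟩ := exists_FF (p := p) hD he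
  obtain ⟨m, hm⟩ := sub_one_dvd (p := p) he
  have hm0 : 0 < m := Nat.pos_of_mul_pos_left (hm ▸ pow_sub_one_pos hD)
  have hξe := hprim.pow (pow_sub_one_pos hD) (hm.trans (mul_comm _ _))
  rw [← pow_mul, hprim.pow_eq_one_iff_dvd, hm, mul_comm A] at hA
  obtain ⟨a, rfl⟩ := Nat.dvd_of_mul_dvd_mul_left h.npos hA
  have := h.stick hM (ι.comp (subF p D e).subtype) hξe (by
    rw [red_pow hξm, hξ, RingHom.comp_apply, Subfield.coe_subtype, hγ, gen, hm,
      Nat.mul_div_cancel_left _ h.npos, map_pow, inv_pow]) c (a % (p ^ e - 1))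
    (Nat.mod_lt _ h.npos)
  rw [← pow_eq_pow_mod a hξe.pow_eq_one, ← Finset.prod_range_reflect] at this
  rw [h', pow_mul]
  convert this using 3
  refine Finset.prod_congr rfl fun i hi => ?_
  obtain ⟨j, rfl⟩ : ∃ j, e = j + (i + 1) := ⟨e - (i + 1), by have := mem_range.1 hi; omega⟩
  rw [dig, hm, mul_comm _ m, mul_assoc, Nat.mul_mod_mul_left, mul_left_comm,
    Nat.mul_div_mul_left _ _ hm0, mul_div_eq_mod (hdvd h.he) h.npos,
    show j + (i + 1) - 1 - i = j by omega, ← mul_pow_mod (Nat.mod_lt a h.npos), Nat.mod_mul_mod,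
    pow_succ' p i, mul_left_comm]

end Cfsg.Kgv

set_option linter.all false in
theorem Cfsg.Rz.Kgv_Stick_0 : True := by
  have := @_root_.Cfsg.Kgv.subTr.eq_def
  have := @_root_.Cfsg.Kgv.subTr.eq_1
  have := @_root_.Cfsg.Kgv.subTr.fun_cases
  have := @_root_.Cfsg.Kgv.subF.eq_def
  have := @_root_.Cfsg.Kgv.subF.fun_cases
  have := @_root_.Cfsg.Kgv.subFintype.eq_def
  have := @_root_.Cfsg.Kgv.subFintype.eq_1
  have := @_root_.Cfsg.Kgv.subFintype.fun_cases
  trivial
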