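import Cfsg.Agent.Kgv.Defs
import Mathlib.NumberTheory.JacobiSum.Basic
import Mathlib.NumberTheory.MulChar.Lemmas

/-!
# Gauss sums over an abstract finite field: absolute value and Stickelberger's congruence
-/

set_option autoImplicit false
set_option linter.unusedSectionVars false
set_option linter.unusedVariables false
set_option linter.style.haveILetI false

namespace Cfsg.Kgv

open Finset
open scoped ComplexConjugate

variable {p : ℕ} [hp : Fact p.Prime]

/-- A finite field with `p ^ e` elements, a generator and the trace. -/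
structure FF (p e : ℕ) (K : Type) [Field K] [Fintype K] (γ : K) (tr : K →+ ZMod p) : Prop where
  he : e ≠ 0
  char : CharP K p
  prim : IsPrimitiveRoot γ (p ^ e - 1)
  all : ∀ x : K, x ≠ 0 → x ^ (p ^ e - 1) = 1
  tr_eq : ∀ x, ((tr x).val : K) = ∑ i ∈ range e, x ^ p ^ i

theorem pow_sub_one_pos {e : ℕ} (he : e ≠ 0) : 0 < p ^ e - 1 :=
  Nat.sub_pos_of_lt (Nat.one_lt_pow he hp.out.one_lt)

variable {e : ℕ} {K : Type} [Field K] [Fintype K] {γ : K} {tr : K →+ ZMod p}

namespace FF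

theorem npos (h : FF p e K γ tr) : 0 < p ^ e - 1 := pow_sub_one_pos h.he

theorem ne_zero (h : FF p e K γ tr) : γ ≠ 0 := h.prim.ne_zero h.npos.ne'

theorem exists_pow (h : FF p e K γ tr) {x : K} (hx : x ≠ 0) : ∃ b < p ^ e - 1, γ ^ b = x := by
  haveI : NeZero (p ^ e - 1) := ⟨h.npos.ne'⟩
  exact h.prim.eq_pow_of_pow_eq_one (h.all x hx)

theorem sum_eq (h : FF p e K γ tr) {A : Type*} [AddCommMonoid A] (f : K → A) :
    ∑ x, f x = f 0 + ∑ b ∈ range (p ^ e - 1), f (γ ^ b) := by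
  classical
  rw [← Finset.add_sum_erase _ _ (Finset.mem_univ 0)]
  congr 1
  symm
  refine Finset.sum_bij (fun b _ => γ ^ b) (fun b _ => by simp [h.ne_zero]) ?_ ?_ fun _ _ => rfl
  · intro a ha b hb hab
    exact h.prim.pow_inj (mem_range.1 ha) (mem_range.1 hb) hab
  · intro x hx
    obtain ⟨b, hb, rfl⟩ := h.exists_pow (Finset.ne_of_mem_erase hx)
    exact ⟨b, mem_range.2 hb, rfl⟩

theorem card_eq (h : FF p e K γ tr) : Fintype.card K = p ^ e := by
  have := h.sum_eq fun _ => (1 : ℕ)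
  have h2 := h.npos
  simp only [sum_const, card_univ, smul_eq_mul, mul_one, card_range] at this
  omega

theorem cast_n (h : FF p e K γ tr) : ((p ^ e - 1 : ℕ) : K) = -1 := by
  haveI := h.char
  rw [Nat.cast_sub (Nat.one_le_pow _ _ hp.out.pos), Nat.cast_pow, CharP.cast_eq_zero,
    zero_pow h.he]
  simp

theorem sum_inv_mul_tr (h : FF p e K γ tr) : ∑ x : K, x⁻¹ * ((tr x).val : K) = -1 := by
  simp only [h.tr_eq, Finset.mul_sum]
  rw [Finset.sum_comm]
  obtain ⟨d, hd⟩ := Nat.exists_eq_succ_of_ne_zero h.he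
  have h1 : ∀ i ∈ range d, ∑ x : K, x⁻¹ * x ^ p ^ (i + 1) = 0 := fun i hi => by
    have h2 : 1 < p ^ (i + 1) := Nat.one_lt_pow (by omega) hp.out.one_lt
    have h3 : p ^ (i + 1) < p ^ e := Nat.pow_lt_pow_right hp.out.one_lt (by
      have := mem_range.1 hi; omega)
    rw [← FiniteField.sum_pow_lt_card_sub_one K (p ^ (i + 1) - 1) (by rw [h.card_eq]; omega)]
    refine Finset.sum_congr rfl fun x _ => ?_
    by_cases hx : x = 0
    · rw [hx, zero_pow (by omega), zero_pow (by omega), mul_zero]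
    · obtain ⟨k, hk⟩ : ∃ k, p ^ (i + 1) = k + 1 := ⟨p ^ (i + 1) - 1, by omega⟩
      rw [hk, pow_succ, Nat.add_sub_cancel]; field_simp
  rw [show range e = range (d + 1) by rw [hd], Finset.sum_range_succ', Finset.sum_eq_zero h1,
    zero_add, h.sum_eq]
  simp only [pow_zero, pow_one, mul_zero, zero_add]
  rw [Finset.sum_congr rfl (g := fun _ => 1) fun b _ => inv_mul_cancel₀ (pow_ne_zero _ h.ne_zero)]
  simp only [sum_const, card_range, nsmul_eq_mul, mul_one, h.cast_n]

end FF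

/-- The additive character. -/
noncomputable def Psi (tr : K →+ ZMod p) (c : ZMod p) : AddChar K ℂ :=
  ZMod.stdAddChar.compAddMonoidHom ((AddMonoidHom.mulLeft c).comp tr)

theorem Psi_apply (c : ZMod p) (x : K) : Psi tr c x = ZMod.stdAddChar (c * tr x) := rfl

/-- Minus the Gauss sum. -/
noncomputable def gs (e : ℕ) (γ : K) (tr : K →+ ZMod p) (c : ZMod p) (α : ℂ) : ℂ :=
  -∑ b ∈ range (p ^ e - 1), ZMod.stdAddChar (c * tr (γ ^ b)) * α ^ b

theorem std_eq_one_iff {a : ZMod p} : ZMod.stdAddChar a = 1 ↔ a = 0 :=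
  ⟨fun h => ZMod.injective_stdAddChar (h.trans (AddChar.map_zero_eq_one _).symm),
    fun h => h ▸ AddChar.map_zero_eq_one _⟩

namespace FF

theorem Psi_ne_one (h : FF p e K γ tr) (c : (ZMod p)ˣ) : Psi tr c ≠ 1 := fun h1 => by
  have h2 : ∀ x, tr x = 0 := fun x => by
    have := DFunLike.congr_fun h1 x
    rw [Psi_apply, AddChar.one_apply, std_eq_one_iff] at this
    exact (mul_eq_zero.1 this).resolve_left c.ne_zero
  have := h.sum_inv_mul_tr
  simp [h2] at this

theorem exists_mulChar (h : FF p e K γ tr) {α : ℂ} (hα : α ^ (p ^ e - 1) = 1) :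
    ∃ χ : MulChar K ℂ, χ γ = α := by
  classical
  have hα0 : α ≠ 0 := fun h0 => by rw [h0, zero_pow h.npos.ne'] at hα; exact zero_ne_one hα
  have hg : ∀ x : Kˣ, x ∈ Subgroup.zpowers (Units.mk0 γ h.ne_zero) := fun x => by
    obtain ⟨b, -, hb⟩ := h.exists_pow x.ne_zero
    exact ⟨b, Units.ext (by simpa using hb)⟩
  have hζ : Units.mk0 α hα0 ∈ rootsOfUnity (Fintype.card Kˣ) ℂ := by
    rw [mem_rootsOfUnity', Fintype.card_units, h.card_eq]; exact hα
  exact ⟨_, MulChar.ofRootOfUnity_spec hζ hg⟩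

theorem gs_eq (h : FF p e K γ tr) (c : ZMod p) (χ : MulChar K ℂ) :
    gs e γ tr c (χ γ) = -gaussSum χ (Psi tr c) := by
  rw [gaussSum, h.sum_eq, MulChar.map_zero, zero_mul, zero_add, gs]
  simp only [map_pow, Psi_apply, mul_comm]

theorem gs_one (h : FF p e K γ tr) (c : (ZMod p)ˣ) : gs e γ tr c 1 = 1 := by
  have := h.gs_eq c 1
  rwa [MulChar.one_apply (IsUnit.mk0 _ h.ne_zero), gaussSum_one_left (h.Psi_ne_one c),
    neg_neg] at this

theorem gs_mul_conj (h : FF p e K γ tr) (c : (ZMod p)ˣ) {α : ℂ} (hα : α ^ (p ^ e - 1) = 1)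
    (h1 : α ≠ 1) : gs e γ tr c α * conj (gs e γ tr c α) = (p : ℂ) ^ e := by
  obtain ⟨χ, rfl⟩ := h.exists_mulChar hα
  have hχ : χ ≠ 1 := fun h0 => h1 (by rw [h0, MulChar.one_apply (IsUnit.mk0 _ h.ne_zero)])
  rw [h.gs_eq, map_neg, neg_mul_neg, ← Complex.star_def, star_gaussSum_eq,
    gaussSum_mul_gaussSum_eq_card hχ (AddChar.IsPrimitive.of_ne_one (h.Psi_ne_one c)), h.card_eq,
    Nat.cast_pow]

theorem tr_pow (h : FF p e K γ tr) (x : K) : tr (x ^ p) = tr x := by
  haveI := h.char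
  have h1 : ((tr (x ^ p)).val : K) = (tr x).val := by
    rw [h.tr_eq, h.tr_eq]
    have h2 : x ^ p ^ e = x := by rw [← h.card_eq, FiniteField.pow_card]
    have h3 := (Finset.sum_range_succ (fun i => x ^ p ^ i) e).symm.trans
      (Finset.sum_range_succ' (fun i => x ^ p ^ i) e)
    simp only [h2, pow_zero, pow_one, add_left_inj] at h3
    rw [h3]
    exact Finset.sum_congr rfl fun i _ => by rw [← pow_mul, ← pow_succ']
  rw [CharP.natCast_eq_natCast K p] at h1
  exact ZMod.val_injective _ (Nat.ModEq.eq_of_lt_of_lt h1 (ZMod.val_lt _) (ZMod.val_lt _))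

theorem gs_pow (h : FF p e K γ tr) (c : ZMod p) {α : ℂ} (hα : α ^ (p ^ e - 1) = 1) :
    gs e γ tr c (α ^ p) = gs e γ tr c α := by
  haveI := h.char
  obtain ⟨χ, rfl⟩ := h.exists_mulChar hα
  rw [← MulChar.pow_apply' χ hp.out.ne_zero, h.gs_eq, h.gs_eq, gaussSum, gaussSum, neg_inj]
  refine Fintype.sum_bijective (frobenius K p) (bijective_frobenius K p) _ _ fun x => ?_
  rw [frobenius_def, MulChar.pow_apply' χ hp.out.ne_zero, map_pow, Psi_apply, Psi_apply, h.tr_pow]

theorem jac (h : FF p e K γ tr) [DecidableEq K] (a : ℕ) (ha : a + 1 < p ^ e - 1) :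
    ∑ x : K, (if x = 0 then 0 else x⁻¹ ^ a) * (1 - x)⁻¹ = -((a : K) + 1) := by
  have h0 : ∀ k, k < p ^ e - 1 → ∑ x : K, x⁻¹ ^ k = 0 := fun k hk => by
    rw [← FiniteField.sum_pow_lt_card_sub_one K k (by rwa [h.card_eq])]
    exact Fintype.sum_equiv (Equiv.inv K) _ _ fun x => rfl
  induction a with
  | zero =>
    have h1 := h0 1 ha
    rw [← (Equiv.subLeft (1 : K)).sum_comp, ← Finset.add_sum_erase _ _ (Finset.mem_univ 0)] at h1
    rw [← Finset.add_sum_erase _ _ (Finset.mem_univ 0), Finset.sum_congr rfl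
      (g := fun x => (1 - x)⁻¹) fun x hx => by rw [if_neg (Finset.ne_of_mem_erase hx)]; simp]
    simp only [Equiv.subLeft_apply, sub_zero, inv_one, pow_one] at h1
    simp only [if_true, zero_mul, zero_add, Nat.cast_zero]
    linear_combination h1
  | succ a ih =>
    have h1 := h0 (a + 1) (by omega)
    have h2 : ∀ x : K, (if x = 0 then 0 else x⁻¹ ^ (a + 1)) * (1 - x)⁻¹ =
        (if x = 0 then 0 else x⁻¹ ^ a) * (1 - x)⁻¹ + (x⁻¹ ^ (a + 1) - if x = 1 then 1 else 0) := by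
      intro x
      by_cases hx : x = 0
      · simp [hx]
      by_cases hx1 : x = 1
      · simp [hx1]
      have : 1 - x ≠ 0 := sub_ne_zero.2 (Ne.symm hx1)
      simp only [if_neg hx, if_neg hx1, pow_succ]
      field_simp
      ring
    simp only [h2, Finset.sum_add_distrib, Finset.sum_sub_distrib, ih (by omega), h1,
      Finset.sum_ite_eq', Finset.mem_univ, if_true]
    push_cast
    ring

end FF

end Cfsg.Kgv

set_option linter.all false in
theorem Cfsg.Rz.Kgv_StickA_0 : True := by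
  have := @_root_.Cfsg.Kgv.FF.mk.congr_simp
  have := @_root_.Cfsg.Kgv.Psi.eq_def
  have := @_root_.Cfsg.Kgv.Psi.eq_1
  have := @_root_.Cfsg.Kgv.Psi.fun_cases
  have := @_root_.Cfsg.Kgv.gs.eq_def
  have := @_root_.Cfsg.Kgv.gs.fun_cases
  trivial
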