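import Cfsg.Agent.Kgv.StickA

/-!
# Stickelberger's congruence over an abstract finite field
-/

set_option autoImplicit false
set_option linter.unusedSectionVars false
set_option linter.unusedVariables false
set_option linter.style.haveILetI false

namespace Cfsg.Kgv

open Finset
open scoped ComplexConjugate

variable {p : ℕ} [hp : Fact p.Prime] {M : Ideal AlgInt}

theorem red_mul_eq_one {z w : ℂ} (hz : red M z = 1) (hw : red M w = 1) : red M (z * w) = 1 := by
  rw [red_mul (mem_locO_of_red_ne_zero (hz ▸ one_ne_zero))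
    (mem_locO_of_red_ne_zero (hw ▸ one_ne_zero)), hz, hw, one_mul]

theorem cast_ne_zero (hM : IsPModular p M) {n : ℕ} (hn : ¬ p ∣ n) : (n : ResK M) ≠ 0 := by
  haveI := hM.charP
  rwa [Ne, CharP.cast_eq_zero_iff (ResK M) p]

theorem std_pow_p (a : ZMod p) : ZMod.stdAddChar a ^ p = 1 := by
  rw [← AddChar.map_nsmul_eq_pow, nsmul_eq_mul, CharP.cast_eq_zero, zero_mul,
    AddChar.map_zero_eq_one]

theorem std_eq_pow (a : ZMod p) : ZMod.stdAddChar a = ZMod.stdAddChar (1 : ZMod p) ^ a.val := by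
  rw [← AddChar.map_nsmul_eq_pow, nsmul_eq_mul, mul_one, ZMod.natCast_zmod_val]

theorem pi_ne_zero : ZMod.stdAddChar (1 : ZMod p) - 1 ≠ 0 := by
  rw [sub_ne_zero, Ne, std_eq_one_iff]; exact one_ne_zero

theorem val_not_dvd (c : (ZMod p)ˣ) : ¬ p ∣ (c : ZMod p).val := by
  rw [← ZMod.natCast_eq_zero_iff, ZMod.natCast_zmod_val]; exact c.ne_zero

theorem val_ne_zero (c : (ZMod p)ˣ) : ((c : ZMod p).val : ℂ) ≠ 0 :=
  Nat.cast_ne_zero.2 fun h => val_not_dvd c (h ▸ dvd_zero p)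

theorem wt_ne_zero (c : (ZMod p)ˣ) (k : ℕ) : wt p c k ≠ 0 :=
  div_ne_zero (pow_ne_zero _ (mul_ne_zero (val_ne_zero c) pi_ne_zero))
    (by exact_mod_cast k.factorial_ne_zero)

theorem wt_zero (c : ZMod p) : wt p c 0 = 1 := by simp [wt]

theorem wt_succ (c : ZMod p) (k : ℕ) : wt p c (k + 1) =
    wt p c k * ((c.val : ℂ) * (ZMod.stdAddChar (1 : ZMod p) - 1)) / (k + 1) := by
  rw [wt, wt, Nat.factorial_succ, pow_succ]
  push_cast
  have : (k.factorial : ℂ) ≠ 0 := by exact_mod_cast k.factorial_ne_zero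
  have : ((k : ℂ) + 1) ≠ 0 := by exact_mod_cast k.succ_ne_zero
  field_simp

theorem red_std_sub_div (hM : IsPModular p M) (a : ZMod p) :
    (ZMod.stdAddChar a - 1) / (ZMod.stdAddChar (1 : ZMod p) - 1) ∈ locO M ∧
      red M ((ZMod.stdAddChar a - 1) / (ZMod.stdAddChar (1 : ZMod p) - 1)) = a.val := by
  have h1 : (ZMod.stdAddChar a - 1) / (ZMod.stdAddChar (1 : ZMod p) - 1) =
      ∑ k ∈ range a.val, ZMod.stdAddChar (1 : ZMod p) ^ k := by
    rw [std_eq_pow a, geom_sum_eq (sub_ne_zero.1 pi_ne_zero)]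
  have h2 := mem_locO_of_pow_eq_one (M := M) hp.out.ne_zero (std_pow_p (1 : ZMod p))
  have h3 : red M (ZMod.stdAddChar (1 : ZMod p)) = 1 :=
    hM.red_eq_one_of_pow (k := 1) (by rw [pow_one, std_pow_p])
  rw [h1]
  refine ⟨sum_mem fun k _ => pow_mem h2 k, ?_⟩
  rw [red_sum fun k _ => pow_mem h2 k]
  simp [red_pow h2, h3]

variable {e : ℕ} {K : Type} [Field K] [Fintype K] {γ : K} {tr : K →+ ZMod p}

namespace FF

theorem red_mulChar (h : FF p e K γ tr) [DecidableEq K] (ι : K →+* ResK M) {χ : MulChar K ℂ}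
    {a : ℕ} (hχ : red M (χ γ) = (ι γ)⁻¹ ^ a) (x : K) :
    χ x ∈ locO M ∧ red M (χ x) = ι (if x = 0 then 0 else x⁻¹ ^ a) := by
  by_cases hx : x = 0
  · simp [hx, MulChar.map_zero]
  obtain ⟨b, -, rfl⟩ := h.exists_pow hx
  have h1 : χ γ ∈ locO M := mem_locO_of_pow_eq_one h.npos.ne' (by
    rw [← map_pow, h.prim.pow_eq_one, map_one])
  rw [map_pow, red_pow h1, hχ, if_neg hx]
  refine ⟨pow_mem h1 b, ?_⟩
  simp only [map_pow, map_inv₀, ← inv_pow, ← pow_mul, mul_comm]

theorem red_gs_xi (h : FF p e K γ tr) (hM : IsPModular p M) (ι : K →+* ResK M) {ξ : ℂ}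
    (hξ : IsPrimitiveRoot ξ (p ^ e - 1)) (hr : red M ξ = (ι γ)⁻¹) (hn : 1 < p ^ e - 1)
    (c : (ZMod p)ˣ) : red M (gs e γ tr c ξ /
      (((c : ZMod p).val : ℂ) * (ZMod.stdAddChar (1 : ZMod p) - 1))) = 1 := by
  classical
  haveI := hM.charP
  haveI := h.char
  obtain ⟨χ, rfl⟩ := h.exists_mulChar hξ.pow_eq_one
  have hχ : χ ≠ 1 := fun h0 => hξ.ne_one hn (by
    rw [h0, MulChar.one_apply (IsUnit.mk0 _ h.ne_zero)])
  have h1 := h.red_mulChar ι (χ := χ) (a := 1) (by rw [hr, pow_one])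
  have h2 : gs e γ tr c (χ γ) / (ZMod.stdAddChar (1 : ZMod p) - 1) =
      -∑ x, χ x * ((ZMod.stdAddChar ((c : ZMod p) * tr x) - 1) / (ZMod.stdAddChar (1 : ZMod p) - 1)) := by
    simp only [← mul_div_assoc, ← Finset.sum_div, mul_sub, mul_one, Finset.sum_sub_distrib,
      MulChar.sum_eq_zero_of_ne_one hχ, sub_zero, h.gs_eq, gaussSum, Psi_apply, neg_div]
  have h3 : ∀ x, χ x * ((ZMod.stdAddChar ((c : ZMod p) * tr x) - 1) / (ZMod.stdAddChar (1 : ZMod p) - 1)) ∈
      locO M := fun x => mul_mem (h1 x).1 (red_std_sub_div hM _).1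
  have hc := cast_ne_zero hM (val_not_dvd c)
  rw [mul_comm, ← div_div, h2, red_div (neg_mem (sum_mem fun x _ => h3 x))
    (natCast_mem _ _) (by rwa [red_natCast]), red_natCast, div_eq_one_iff_eq hc, red_neg,
    red_sum fun x _ => h3 x]
  have h4 : ∀ x, red M (χ x * ((ZMod.stdAddChar ((c : ZMod p) * tr x) - 1) /
      (ZMod.stdAddChar (1 : ZMod p) - 1))) = (c : ZMod p).val * ι (x⁻¹ * (tr x).val) := by
    intro x
    rw [red_mul (h1 x).1 (red_std_sub_div hM _).1, (h1 x).2, (red_std_sub_div hM _).2,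
      ZMod.val_mul, (CharP.natCast_eq_natCast (ResK M) p).2 (Nat.mod_modEq _ p), map_mul,
      map_natCast, Nat.cast_mul]
    by_cases hx : x = 0
    · simp [hx]
    · rw [if_neg hx, pow_one]; ring
  simp only [h4, ← Finset.mul_sum, ← map_sum, h.sum_inv_mul_tr, map_neg, map_one]
  ring

theorem stick (h : FF p e K γ tr) (hM : IsPModular p M) (ι : K →+* ResK M) {ξ : ℂ}
    (hξ : IsPrimitiveRoot ξ (p ^ e - 1)) (hr : red M ξ = (ι γ)⁻¹) (c : (ZMod p)ˣ) (a : ℕ) :
    a < p ^ e - 1 →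
      red M (gs e γ tr c (ξ ^ a) / ∏ j ∈ range e, wt p c (a / p ^ j % p)) = 1 := by
  classical
  haveI := hM.charP
  haveI := h.char
  obtain ⟨d, hd⟩ := Nat.exists_eq_succ_of_ne_zero h.he
  have hp1 := hp.out.one_lt
  induction a using Nat.strong_induction_on with
  | _ a ih =>
  intro ha
  rcases Nat.eq_zero_or_pos a with rfl | ha0
  · simp [h.gs_one, wt_zero]
  by_cases hpa : p ∣ a
  · obtain ⟨a', rfl⟩ := hpa
    have h1 : a' < p * a' := by
      have : 0 < a' := Nat.pos_of_mul_pos_left ha0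
      nlinarith
    have h2 : a' / p ^ d = 0 := by
      refine Nat.div_eq_of_lt (Nat.lt_of_mul_lt_mul_left (a := p) ?_)
      rw [← pow_succ', show d + 1 = e from hd.symm]; omega
    have h3 := ih a' h1 (by omega)
    rw [show range e = range (d + 1) by rw [hd], Finset.prod_range_succ, h2, Nat.zero_mod,
      wt_zero, mul_one] at h3
    rw [mul_comm p a', pow_mul, h.gs_pow c (by rw [← pow_mul, mul_comm, pow_mul, hξ.pow_eq_one,
      one_pow]), show range e = range (d + 1) by rw [hd], Finset.prod_range_succ', pow_zero,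
      Nat.div_one, Nat.mul_mod_left, wt_zero, mul_one]
    simp only [pow_succ', ← Nat.div_div_eq_div_mul, Nat.mul_div_cancel _ hp.out.pos]
    exact h3
  obtain ⟨a, rfl⟩ := Nat.exists_eq_succ_of_ne_zero ha0.ne'
  rw [Nat.succ_eq_add_one] at *
  have h1 : (a + 1) / p = a / p := Nat.succ_div_of_not_dvd hpa
  have h2 : (a + 1) % p = a % p + 1 := by
    have := Nat.div_add_mod (a + 1) p
    have := Nat.div_add_mod a p
    rw [h1] at *
    omega
  have h3 := ih a (by omega) (by omega)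
  have h4 := h.red_gs_xi hM ι hξ hr (by omega) c
  obtain ⟨χ, rfl⟩ := h.exists_mulChar hξ.pow_eq_one
  have hγ := IsUnit.mk0 _ h.ne_zero
  have hpow : ∀ k : ℕ, (χ ^ k) γ = χ γ ^ k := fun k => MulChar.pow_apply_coe χ k hγ.unit
  have hχ : χ ^ a * χ ≠ 1 := fun h0 => by
    have := DFunLike.congr_fun h0 γ
    rw [← pow_succ, hpow, MulChar.one_apply hγ, hξ.pow_eq_one_iff_dvd] at this
    exact absurd (Nat.le_of_dvd (by omega) this) (by omega)
  have h5 := jacobiSum_mul_nontrivial hχ (Psi tr c)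
  have hξm : χ γ ∈ locO M := mem_locO_of_pow_eq_one h.npos.ne' hξ.pow_eq_one
  have r1 := h.red_mulChar ι (χ := χ ^ a) (a := a) (by rw [hpow, red_pow hξm, hr])
  have r2 := h.red_mulChar ι (χ := χ) (a := 1) (by rw [hr, pow_one])
  have hJm : jacobiSum (χ ^ a) χ ∈ locO M := sum_mem fun x _ => mul_mem (r1 _).1 (r2 _).1
  have hJ : red M (-jacobiSum (χ ^ a) χ) = (a + 1 : ℕ) := by
    rw [red_neg, jacobiSum, red_sum fun x _ => mul_mem (r1 _).1 (r2 _).1,
      Finset.sum_congr rfl (g := fun x => ι ((if x = 0 then 0 else x⁻¹ ^ a) * (1 - x)⁻¹))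
        fun x _ => by
          rw [red_mul (r1 _).1 (r2 _).1, (r1 _).2, (r2 _).2, map_mul]
          by_cases hx : 1 - x = 0
          · simp [hx]
          · rw [if_neg hx, pow_one], ← map_sum, h.jac a ha]
    simp
  have ha1 := cast_ne_zero hM hpa
  have hJ0 : jacobiSum (χ ^ a) χ ≠ 0 := fun h0 => ha1 (by rw [← hJ, h0, neg_zero, red_zero])
  have h6 : red M (((a % p + 1 : ℕ) : ℂ) / -jacobiSum (χ ^ a) χ) = 1 := by
    rw [red_div (natCast_mem _ _) (neg_mem hJm) (hJ ▸ ha1), hJ, red_natCast, ← h2,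
      (CharP.natCast_eq_natCast (ResK M) p).2 (Nat.mod_modEq _ p), div_self ha1]
  convert red_mul_eq_one (red_mul_eq_one h3 h4) h6 using 2
  rw [← hpow a, ← hpow (a + 1), pow_succ, h.gs_eq, h.gs_eq, h.gs_eq,
    show range e = range (d + 1) by rw [hd], Finset.prod_range_succ', Finset.prod_range_succ']
  simp only [pow_succ', ← Nat.div_div_eq_div_mul, h1, pow_zero, Nat.div_one, h2, wt_succ]
  have w1 : ∏ j ∈ range d, wt p c (a / p / p ^ j % p) ≠ 0 :=
    Finset.prod_ne_zero_iff.2 fun j _ => wt_ne_zero c _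
  have w2 := wt_ne_zero c (a % p)
  have w3 := val_ne_zero c
  have w4 := pi_ne_zero (p := p)
  have w5 : ((a % p : ℕ) : ℂ) + 1 ≠ 0 := by exact Nat.cast_add_one_ne_zero _
  push_cast
  field_simp
  linear_combination (-1 : ℂ) * h5

end FF

end Cfsg.Kgv
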