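import Cfsg.Agent.Kgv.Defs
import Cfsg.Agent.Char.MatRep

/-!
# Tensor induction from a normal subgroup of prime index
-/

set_option autoImplicit false
set_option linter.unusedSectionVars false
set_option linter.unusedVariables false
set_option linter.style.haveILetI false

namespace Cfsg.Kgv

open Finset
open scoped ComplexConjugate

universe u v

section W

variable {Ω : Type u} [Fintype Ω] [DecidableEq Ω] {ι : Type v} [Fintype ι] [DecidableEq ι]

/-- A permuted tensor product of matrices. -/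
def tensW (σ : Equiv.Perm Ω) (M : Ω → Matrix ι ι ℂ) : Matrix (Ω → ι) (Ω → ι) ℂ :=
  Matrix.of fun a b => ∏ t, M t (a (σ t)) (b t)

theorem tensW_mul (σ τ : Equiv.Perm Ω) (M N : Ω → Matrix ι ι ℂ) :
    tensW σ M * tensW τ N = tensW (σ * τ) fun t => M (τ t) * N t := by
  ext a b
  simp only [tensW, Matrix.mul_apply, Matrix.of_apply, Equiv.Perm.mul_apply]
  rw [Finset.prod_univ_sum, Fintype.piFinset_univ]
  refine Fintype.sum_equiv (τ.symm.arrowCongr (Equiv.refl ι)) _ _ fun m => ?_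
  rw [← Equiv.prod_comp τ, ← Finset.prod_mul_distrib]
  simp

theorem tensW_one : tensW (1 : Equiv.Perm Ω) (fun _ => (1 : Matrix ι ι ℂ)) = 1 := by
  ext a b
  change ∏ t, (1 : Matrix ι ι ℂ) (a t) (b t) = _
  by_cases e : a = b
  · rw [e, Matrix.one_apply_eq]
    exact Finset.prod_eq_one fun t _ => Matrix.one_apply_eq _
  · obtain ⟨t, ht⟩ := Function.ne_iff.1 e
    rw [Matrix.one_apply_ne e]
    exact Finset.prod_eq_zero (Finset.mem_univ t) (Matrix.one_apply_ne ht)

theorem trace_tensW_gauge (σ : Equiv.Perm Ω) (M D D' : Ω → Matrix ι ι ℂ)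
    (h : ∀ t, D' t * D t = 1) :
    (tensW σ fun t => D (σ t) * M t * D' t).trace = (tensW σ M).trace := by
  have : tensW σ (fun t => D (σ t) * M t * D' t) = tensW 1 D * tensW σ M * tensW 1 D' := by
    simp [tensW_mul]
  rw [this, Matrix.trace_mul_cycle, tensW_mul]
  simp [h, tensW_one]

theorem trace_tensW_one (M : Ω → Matrix ι ι ℂ) : (tensW 1 M).trace = ∏ t, (M t).trace := by
  simp only [tensW, Matrix.trace, Matrix.diag_apply, Matrix.of_apply, Equiv.Perm.coe_one, id]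
  rw [Finset.prod_univ_sum, Fintype.piFinset_univ]

theorem trace_tensW_cycle (σ : Equiv.Perm Ω) (M : Ω → Matrix ι ι ℂ) (t₀ : Ω)
    (h1 : ∀ t, t ≠ t₀ → M t = 1)
    (h2 : ∀ a : Ω → ι, (∀ t, t ≠ t₀ → a (σ t) = a t) → ∀ t, a t = a t₀) :
    (tensW σ M).trace = (M t₀).trace := by
  simp only [tensW, Matrix.trace, Matrix.diag_apply, Matrix.of_apply]
  refine (Fintype.sum_of_injective (fun j (_ : Ω) => j) (fun i j e => congrFun e t₀) _ _
    (fun a ha => ?_) fun j => ?_).symm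
  · by_contra hne
    refine ha ⟨a t₀, funext fun t => (h2 a (fun t ht => ?_) t).symm⟩
    by_contra e
    exact hne (Finset.prod_eq_zero (Finset.mem_univ t) (by rw [h1 t ht, Matrix.one_apply_ne e]))
  · rw [Finset.prod_eq_single t₀ (fun t _ ht => by rw [h1 t ht, Matrix.one_apply_eq]) (by simp)]

end W

theorem exists_idx {E : Type u} [Group E] [Finite E] (L : Subgroup E) [L.Normal] {l : ℕ}
    (hl : l.Prime) (hi : L.index = l) {y : E} (hy : y ∉ L) : ((y ^ l : E) : E ⧸ L) = 1 ∧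
      ∃ idx : E ⧸ L → ℕ, (∀ t, idx t < l) ∧ (∀ t, ((y ^ idx t : E) : E ⧸ L) = t) ∧
      ∀ k < l, idx ((y ^ k : E) : E ⧸ L) = k := by
  haveI := Fact.mk hl
  have hc : Nat.card (E ⧸ L) = l := hi
  have h1 : (y : E ⧸ L) ≠ 1 := fun e => hy ((QuotientGroup.eq_one_iff y).1 e)
  have ho : orderOf (y : E ⧸ L) = l := orderOf_eq_prime (hc ▸ pow_card_eq_one') h1
  have hex : ∀ t : E ⧸ L, ∃ k < l, ((y ^ k : E) : E ⧸ L) = t := fun t => by
    obtain ⟨k, rfl⟩ := (Submonoid.mem_powers_iff _ _).1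
      (mem_powers_iff_mem_zpowers.2 (mem_zpowers_of_prime_card hc h1 (g' := t)))
    exact ⟨k % l, Nat.mod_lt _ hl.pos, by rw [QuotientGroup.mk_pow, ← ho, pow_mod_orderOf]⟩
  choose idx a b using hex
  refine ⟨by rw [QuotientGroup.mk_pow, ← ho, pow_orderOf_eq_one], idx, a, b, fun k hk => ?_⟩
  exact pow_injOn_Iio_orderOf (x := (y : E ⧸ L)) (ho ▸ a _) (ho ▸ hk) (b _)

theorem exists_tens {E : Type u} [Group E] [Finite E] (L : Subgroup E) [L.Normal] {l : ℕ}
    (hl : l.Prime) (hi : L.index = l) {x : E} (hx : x ∉ L) {χ : L → ℂ} (hχ : IsCharacter L χ) :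
    ∃ T : E → ℂ, IsCharacter E T ∧
      (∀ u ∈ L, T u = ∏ k ∈ range l, extendByZero L χ ((x ^ k)⁻¹ * u * x ^ k)) ∧
      ∀ h, h ∉ L → T h = extendByZero L χ (h ^ l) := by
  classical
  haveI := Fintype.ofFinite (E ⧸ L)
  obtain ⟨R, hR⟩ := hχ.exists_matrix
  let R' : E → Matrix _ _ ℂ := fun g => if h : g ∈ L then R ⟨g, h⟩ else 0
  have R1 : R' 1 = 1 := (dif_pos L.one_mem).trans R.map_one
  have Rm : ∀ a ∈ L, ∀ b ∈ L, R' (a * b) = R' a * R' b := fun a ha b hb => by
    simp only [R', dif_pos ha, dif_pos hb, dif_pos (L.mul_mem ha hb), ← map_mul]; rfl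
  have Rt : ∀ a ∈ L, (R' a).trace = extendByZero L χ a := fun a ha => by
    simp only [R', dif_pos ha, hR, extendByZero_of_mem L χ ha]
  have hc : ∀ {s s' : E ⧸ L → E}, (∀ t, (s t : E ⧸ L) = t) → (∀ t, (s' t : E ⧸ L) = t) →
      ∀ (g : E) t, (s ((g : E ⧸ L) * t))⁻¹ * g * s' t ∈ L := fun hs hs' g t => by
    rw [← QuotientGroup.eq_one_iff]; simp [hs, hs', mul_assoc]
  have hc' : ∀ {s s' : E ⧸ L → E}, (∀ t, (s t : E ⧸ L) = t) → (∀ t, (s' t : E ⧸ L) = t) →
      ∀ t, (s t)⁻¹ * s' t ∈ L := fun hs hs' t => by simpa using hc hs hs' 1 t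
  let Y : (E ⧸ L → E) → E → Matrix _ _ ℂ := fun s g =>
    tensW (Equiv.mulLeft (g : E ⧸ L)) fun t => R' ((s ((g : E ⧸ L) * t))⁻¹ * g * s t)
  have ho : ∀ t : E ⧸ L, (t.out : E ⧸ L) = t := fun t => t.out_eq
  let X : E →* Matrix _ _ ℂ :=
    { toFun := Y Quotient.out
      map_one' := by simp [Y, R1, tensW_one]
      map_mul' := fun g h => by
        simp only [Y, tensW_mul, QuotientGroup.mk_mul, Equiv.mulLeft_mul, Equiv.coe_mulLeft]
        congr 1; funext t
        rw [← Rm _ (hc ho ho _ _) _ (hc ho ho _ _), mul_assoc (g : E ⧸ L)]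
        congr 1; group }
  have key : ∀ {s : E ⧸ L → E}, (∀ t, (s t : E ⧸ L) = t) → ∀ g, (X g).trace = (Y s g).trace :=
    fun {s} hs g => by
      rw [← trace_tensW_gauge _ _ (fun t => R' (t.out⁻¹ * s t)) (fun t => R' ((s t)⁻¹ * t.out))
        fun t => by rw [← Rm _ (hc' hs ho t) _ (hc' ho hs t), ← R1]; congr 1; group]
      refine congrArg (fun M => (tensW _ M).trace) (funext fun t => ?_)
      rw [Equiv.coe_mulLeft, ← Rm _ (hc' ho hs _) _ (hc hs hs _ _),
        ← Rm _ (L.mul_mem (hc' ho hs _) (hc hs hs _ _)) _ (hc' hs ho _)]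
      congr 1; group
  refine ⟨_, isCharacter_trace X, fun u hu => ?_, fun h hh => ?_⟩
  · obtain ⟨-, idx, i1, i2, i3⟩ := exists_idx L hl hi hx
    have h1 : (u : E ⧸ L) = 1 := (QuotientGroup.eq_one_iff u).2 hu
    rw [key i2]
    simp only [Y, h1, Equiv.mulLeft_one, trace_tensW_one, one_mul]
    refine Finset.prod_nbij' idx (fun k => ((x ^ k : E) : E ⧸ L)) (fun t _ => mem_range.2 (i1 t))
      (fun _ _ => mem_univ _) (fun t _ => i2 t) (fun k hk => i3 k (mem_range.1 hk)) fun t _ => ?_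
    exact Rt _ (by simpa using (inferInstance : L.Normal).conj_mem u hu (x ^ idx t)⁻¹)
  · obtain ⟨i0, idx, i1, i2, i3⟩ := exists_idx L hl hi hh
    have hl1 : l - 1 + 1 = l := Nat.sub_add_cancel hl.one_le
    have hs : ∀ k, (h : E ⧸ L) * ((h ^ k : E) : E ⧸ L) = ((h ^ (k + 1) : E) : E ⧸ L) :=
      fun k => by rw [pow_succ', QuotientGroup.mk_mul]
    have hne : ∀ k < l - 1, ((h ^ k : E) : E ⧸ L) ≠ ((h ^ (l - 1) : E) : E ⧸ L) := fun k hk e => by
      have := congrArg idx e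
      rw [i3 k (by omega), i3 _ (by omega)] at this
      omega
    rw [key i2, trace_tensW_cycle _ _ ((h ^ (l - 1) : E) : E ⧸ L) (fun t ht => ?_) fun a ha => ?_]
    · have := i3 0 hl.pos
      beta_reduce
      rw [hs, hl1, i0, i3 (l - 1) (by omega)]
      rw [pow_zero, QuotientGroup.mk_one] at this
      rw [this, pow_zero, inv_one, one_mul, ← pow_succ', hl1]
      exact Rt _ ((QuotientGroup.eq_one_iff _).1 i0)
    · have h1 : idx t + 1 < l := by
        have : idx t ≠ l - 1 := fun e => ht (by rw [← e, i2])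
        have := i1 t
        omega
      have h2 : idx ((h : E ⧸ L) * t) = idx t + 1 := by rw [← i3 _ h1, ← hs, i2]
      beta_reduce
      rw [h2, ← R1]; congr 1; group
    · have h1 : ∀ k < l, a ((h ^ k : E) : E ⧸ L) = a ((h ^ 0 : E) : E ⧸ L) := fun k hk => by
        induction k with
        | zero => rfl
        | succ k ih => rw [← hs, ← ih (by omega)]; exact ha _ (hne k (by omega))
      intro t
      rw [← i2 t, h1 _ (i1 t), h1 (l - 1) (by omega)]

end Cfsg.Kgv

set_option linter.all false in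
theorem Cfsg.Rz.Kgv_Tens_0 : True := by
  have := @_root_.Cfsg.Kgv.tensW.eq_def.{0, 0}
  have := @_root_.Cfsg.Kgv.tensW.fun_cases
  trivial
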