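import Cfsg.Agent.Kgv.UniqA

/-!
# The Hasse–Davenport relations in the form needed
-/

set_option autoImplicit false
set_option linter.unusedSectionVars false
set_option linter.unusedVariables false
set_option linter.style.haveILetI false

namespace Cfsg.Kgv

open Finset
open scoped ComplexConjugate

universe u v

variable {p : ℕ} [hp : Fact p.Prime] {D : ℕ}

theorem Rep.unique (hD : D ≠ 0) {S : Multiset ℂ} {z z' : (ZMod p)ˣ → ℂ} (h : Rep p D S z)
    (h' : Rep p D S z') : z = z' := by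
  suffices H : ∀ N : ℕ, N ∣ p ^ D - 1 → ∀ (S : Multiset ℂ) (z z' : (ZMod p)ˣ → ℂ), Rep p D S z →
      Rep p D S z' → (∀ a ∈ S, a ^ N = 1) → z = z' from H _ dvd_rfl S z z' h h' (h.good hD).1
  intro N
  induction N using Nat.strong_induction_on with
  | _ N ih =>
  intro hN S z z' h h' hS
  by_cases N1 : N = 1
  · rw [h.eq_one hD (by simpa [N1] using hS), h'.eq_one hD (by simpa [N1] using hS)]
  have N0 := ne_zero_of_dvd_ne_zero (sub_one_ne_zero' hD) hN
  obtain ⟨l, hl, hd⟩ := Nat.exists_prime_and_dvd N1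
  obtain ⟨j, N', hN', rfl⟩ := Nat.exists_eq_pow_mul_and_not_dvd N0 l hl.ne_one
  have j0 : j ≠ 0 := by rintro rfl; exact hN' (by simpa using hd)
  have N'0 : N' ≠ 0 := right_ne_zero_of_mul N0
  obtain ⟨k, k1, k0⟩ := Nat.chineseRemainder
    (Nat.Coprime.pow_right j ((hl.coprime_iff_not_dvd.2 hN').symm)) 1 0
  obtain ⟨M, hM⟩ := exists_isPModular hl
  have hk : ∀ a ∈ S, red M (a ^ k) = red M a := fun a ha => red_pow_eq hM N'0 (hS a ha) k1
  obtain ⟨y, hy, e⟩ := h.exists_map hD hk
  obtain ⟨y', hy', e'⟩ := h'.exists_map hD hk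
  have := ih N' (lt_mul_of_one_lt_left (Nat.pos_of_ne_zero N'0) (Nat.one_lt_pow j0 hl.one_lt))
    ((dvd_mul_left _ _).trans hN) _ y y' hy hy' fun b hb => by
      obtain ⟨a, ha, rfl⟩ := Multiset.mem_map.1 hb
      obtain ⟨t, rfl⟩ := (Nat.modEq_zero_iff_dvd.1 k0)
      rw [← pow_mul, mul_right_comm, pow_mul, hS a ha, one_pow]
  funext c
  refine eq_of_red (h.mem hD c) (h'.mem hD c) (h.mul_conj hD c) (h'.mul_conj hD c)
    (fun M hM => ?_) hM (fun e => not_dvd_sub_one hD (e ▸ hd.trans hN)) (by rw [← e, ← e', this])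
  obtain ⟨ξ, -, hξ⟩ := stick_rep hD hM
  have h1 := hξ S z h c
  have h2 := hξ S z' h' c
  have h0 : (S.map fun α => wt p c (dg p D ξ α)).prod ≠ 0 := fun e => by simp [e] at h1
  rw [← div_div_div_cancel_right₀ h0, div_eq_mul_inv]
  exact red_mul_eq_one h1 (red_inv_eq_one h2)

theorem Good.rep (hD : D ≠ 0) {S : Multiset ℂ} (h : Good p D S) : Rep p D S (gam p D S) := by
  refine Classical.epsilon_spec (p := Rep p D S) ?_
  induction hn : Multiset.card S using Nat.strong_induction_on generalizing S with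
  | _ n ih =>
  by_cases h0 : S = 0
  · exact ⟨1, h0 ▸ Rep.nil⟩
  obtain ⟨α, hα⟩ := Multiset.exists_mem_of_ne_zero h0
  have hit : ∀ i, (fun x : ℂ => x ^ p)^[i] α = α ^ p ^ i := fun i => by rw [pow_iterate]
  have hper : Function.IsPeriodicPt (fun x : ℂ => x ^ p) D α := (hit D).trans (pow_pow_eq (h.1 α hα))
  set e := Function.minimalPeriod (fun x : ℂ => x ^ p) α
  have he : e ∣ D := hper.minimalPeriod_dvd
  have α0 : α ≠ 0 := fun e => by simpa [e, sub_one_ne_zero' hD] using h.1 α hα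
  have h1 : α ^ (p ^ e - 1) = 1 := mul_right_cancel₀ α0 (by
    rw [← pow_succ, Nat.sub_add_cancel (Nat.one_le_pow e p hp.out.pos), one_mul, ← hit]
    exact Function.iterate_minimalPeriod)
  have hle : orb p e α ≤ S := (Multiset.le_iff_subset ((Multiset.nodup_range e).map_on
    fun i hi j hj e => Function.iterate_injOn_Iio_minimalPeriod (Multiset.mem_range.1 hi)
      (Multiset.mem_range.1 hj) ((hit i).trans (e.trans (hit j).symm)))).2 fun β hβ => by
    obtain ⟨i, -, rfl⟩ := mem_orb.1 hβ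
    clear hβ
    induction i with
    | zero => simpa using hα
    | succ i ih => rw [pow_succ, pow_mul, ← h.2]; exact Multiset.mem_map_of_mem _ ih
  obtain ⟨T, rfl⟩ := Multiset.le_iff_exists_add.1 hle
  obtain ⟨z, hz⟩ := ih _ (by
      have := Nat.pos_of_ne_zero (ne_zero_of_dvd_ne_zero hD he)
      simp only [← hn, orb, Multiset.card_add, Multiset.card_map, Multiset.card_range]
      omega) (S := T) ⟨fun β hβ => h.1 β (Multiset.mem_add.2 (Or.inr hβ)), by
    have := h.2
    rwa [Multiset.map_add, (good_orb' hD he h1).2, add_right_inj] at this⟩ rfl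
  exact ⟨_, Rep.cons e α T z he h1 hz⟩

theorem Rep.gam_eq (hD : D ≠ 0) {S : Multiset ℂ} {z : (ZMod p)ˣ → ℂ} (h : Rep p D S z) :
    gam p D S = z :=
  ((h.good hD).rep hD).unique hD h

theorem Good.add {S T : Multiset ℂ} (h : Good p D S) (h' : Good p D T) : Good p D (S + T) := by
  exact h.add' h'

theorem good_orb (hD : D ≠ 0) {e : ℕ} (he : e ∣ D) {α : ℂ} (hα : α ^ (p ^ e - 1) = 1) :
    Good p D (orb p e α) := by
  exact good_orb' hD he hα

theorem gam_zero (hD : D ≠ 0) : gam p D 0 = 1 := by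
  exact Rep.nil.gam_eq hD

theorem gam_add (hD : D ≠ 0) {S T : Multiset ℂ} (h : Good p D S) (h' : Good p D T) :
    gam p D (S + T) = gam p D S * gam p D T := by
  exact ((h.rep hD).add (h'.rep hD)).gam_eq hD

theorem gam_nsmul (hD : D ≠ 0) {S : Multiset ℂ} (h : Good p D S) (n : ℕ) :
    gam p D (n • S) = gam p D S ^ n := by
  refine Rep.gam_eq hD ?_
  induction n with
  | zero => simpa using Rep.nil
  | succ n ih => rw [succ_nsmul, pow_succ]; exact ih.add (h.rep hD)

theorem gam_orb (hD : D ≠ 0) {e : ℕ} (he : e ∣ D) {α : ℂ} (hα : α ^ (p ^ e - 1) = 1)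
    (c : (ZMod p)ˣ) : gam p D (orb p e α) c = GS p D e c α := by
  have := (Rep.cons e α 0 1 he hα Rep.nil).gam_eq hD
  rw [add_zero] at this
  simp [this]

theorem gam_replicate_one (hD : D ≠ 0) (n : ℕ) : gam p D (Multiset.replicate n 1) = 1 := by
  exact (Good.rep hD ⟨fun α hα => by simp [Multiset.eq_of_mem_replicate hα], by simp⟩).eq_one hD
    fun a ha => Multiset.eq_of_mem_replicate ha

open Classical in
theorem gam_mul_conj (hD : D ≠ 0) {S : Multiset ℂ} (h : Good p D S) (c : (ZMod p)ˣ) :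
    gam p D S c * conj (gam p D S c) = (p : ℂ) ^ (Multiset.card S - S.count 1) := by
  exact (h.rep hD).mul_conj hD c

theorem red_gam_eq_zero (hD : D ≠ 0) {M : Ideal AlgInt} (hM : IsPModular p M) {S : Multiset ℂ}
    (h : Good p D S) {α : ℂ} (hα : α ∈ S) (h1 : α ≠ 1) (c : (ZMod p)ˣ) :
    vM M (gam p D S c) < 1 := by
  exact (h.rep hD).vM_lt_one hD hM hα h1 c

theorem digit_sum {l : ℕ} (hl : l.Prime) (hlp : l ≠ p) (d : ℕ) :
    ∑ j ∈ range l, (d + p * j) / l = d + ∑ j ∈ range l, p * j / l ∧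
      (l : ZMod p) ^ d * ∏ j ∈ range l, (((d + p * j) / l).factorial : ZMod p) =
        d.factorial * ∏ j ∈ range l, ((p * j / l).factorial : ZMod p) := by
  induction d with
  | zero => simp
  | succ d ih =>
    haveI := Fact.mk hl
    have p0 : (p : ZMod l) ≠ 0 := fun e =>
      hlp ((Nat.prime_dvd_prime_iff_eq hl hp.out).1 ((ZMod.natCast_eq_zero_iff p l).1 e))
    have key : ∀ j < l, l ∣ d + p * j + 1 ↔ j = (-((d : ZMod l) + 1) / p).val := fun j hj => by
      rw [← ZMod.natCast_eq_zero_iff, ← ZMod.val_cast_of_lt hj, (ZMod.val_injective l).eq_iff,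
        eq_div_iff p0, ZMod.val_cast_of_lt hj]
      push_cast
      constructor <;> intro h <;> linear_combination h
    set j₀ := (-((d : ZMod l) + 1) / p).val
    have m0 : j₀ ∈ range l := mem_range.2 (ZMod.val_lt _)
    have e1 : ∀ j ∈ range l, (d + 1 + p * j) / l = (d + p * j) / l + if j = j₀ then 1 else 0 :=
      fun j hj => by
        rw [add_right_comm, Nat.succ_div]
        simp only [key j (mem_range.1 hj)]
    refine ⟨by rw [sum_congr rfl e1, sum_add_distrib, ih.1, sum_ite_eq', if_pos m0]; ring, ?_⟩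
    have e2 : (l : ZMod p) * (((d + p * j₀) / l + 1 : ℕ) : ZMod p) = (d + 1 : ℕ) := by
      have := e1 j₀ m0
      rw [if_pos rfl] at this
      rw [← this, ← Nat.cast_mul, Nat.mul_div_cancel' (by
        rw [add_right_comm]; exact (key j₀ (mem_range.1 m0)).2 rfl)]
      simp
    have e3 : ∀ j ∈ range l, (((d + 1 + p * j) / l).factorial : ZMod p) =
        (if j = j₀ then (((d + p * j₀) / l + 1 : ℕ) : ZMod p) else 1) *
          ((d + p * j) / l).factorial := fun j hj => by
      rw [e1 j hj]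
      split_ifs with h
      · rw [Nat.factorial_succ, h, Nat.cast_mul]
      · simp
    rw [prod_congr rfl e3, prod_mul_distrib, prod_ite_eq', if_pos m0, Nat.factorial_succ,
      Nat.cast_mul, mul_assoc, ← ih.2, ← e2]
    ring

theorem red_wt {M : Ideal AlgInt} (hM : IsPModular p M) {l : ℕ} (hl : l.Prime) (hlp : l ≠ p)
    (c lu : (ZMod p)ˣ) (hlu : (lu : ZMod p) = l) {d : ℕ} (hd : d < p) :
    red M ((∏ j ∈ range l, wt p c ((d + p * j) / l)) /
      (wt p (c * lu : (ZMod p)ˣ) d * ∏ j ∈ range l, wt p c (p * j / l))) = 1 := by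
  haveI := hM.charP
  obtain ⟨h1, h2⟩ := digit_sum hl hlp d
  have π0 : (ZMod.stdAddChar (1 : ZMod p) : ℂ) - 1 ≠ 0 := fun e => one_ne_zero
    (ZMod.injective_stdAddChar ((sub_eq_zero.1 e).trans (AddChar.map_zero_eq_one _).symm))
  have nd : ∀ u : (ZMod p)ˣ, ¬ p ∣ (u : ZMod p).val := fun u e => u.ne_zero (by
    rw [← ZMod.natCast_zmod_val (u : ZMod p), (ZMod.natCast_eq_zero_iff _ _).2 e])
  have v0 : ∀ u : (ZMod p)ˣ, ((u : ZMod p).val : ℂ) ≠ 0 := fun u e =>
    nd u (by rw [Nat.cast_eq_zero.1 e]; exact dvd_zero p)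
  have f0 : ∀ n : ℕ, (n.factorial : ℂ) ≠ 0 := fun n => by exact_mod_cast n.factorial_ne_zero
  have hb : ¬ p ∣ ((c * lu : (ZMod p)ˣ) : ZMod p).val ^ d *
      ∏ j ∈ range l, ((d + p * j) / l).factorial := fun e => by
    rcases (hp.out.dvd_mul).1 e with e | e
    · exact nd _ (hp.out.dvd_of_dvd_pow e)
    · obtain ⟨j, hj, e⟩ := (hp.out.prime.dvd_finsetProd_iff _).1 e
      refine absurd (hp.out.dvd_factorial.1 e) (not_le.2 ((Nat.div_lt_iff_lt_mul hl.pos).2 ?_))
      have := Nat.mul_le_mul_left p (Nat.succ_le_of_lt (mem_range.1 hj))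
      rw [Nat.mul_succ] at this
      omega
  have e : (∏ j ∈ range l, wt p c ((d + p * j) / l)) /
      (wt p (c * lu : (ZMod p)ˣ) d * ∏ j ∈ range l, wt p c (p * j / l)) =
      (((c : ZMod p).val ^ d * (d.factorial * ∏ j ∈ range l, (p * j / l).factorial) : ℕ) : ℂ) /
        ((((c * lu : (ZMod p)ˣ) : ZMod p).val ^ d *
          ∏ j ∈ range l, ((d + p * j) / l).factorial : ℕ) : ℂ) := by
    simp only [wt, prod_div_distrib, prod_pow_eq_pow_sum, h1]
    simp only [pow_add, mul_pow]
    push_cast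
    have := v0 c
    have := v0 (c * lu)
    rw [Units.val_mul] at this
    have := prod_ne_zero_iff.2 fun j (_ : j ∈ range l) => f0 ((d + p * j) / l)
    have := prod_ne_zero_iff.2 fun j (_ : j ∈ range l) => f0 (p * j / l)
    have := f0 d
    field_simp
  have hb' : red M ((((c * lu : (ZMod p)ˣ) : ZMod p).val ^ d *
      ∏ j ∈ range l, ((d + p * j) / l).factorial : ℕ) : ℂ) ≠ 0 := by
    rwa [red_natCast, Ne, CharP.cast_eq_zero_iff (ResK M) p]
  rw [e, red_div (natCast_mem _ _) (natCast_mem _ _) hb', div_eq_one_iff_eq hb', red_natCast,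
    red_natCast, CharP.natCast_eq_natCast (ResK M) p, ← ZMod.natCast_eq_natCast_iff]
  push_cast
  rw [ZMod.natCast_zmod_val, ZMod.natCast_zmod_val, ← h2, hlu, mul_pow, mul_assoc]

theorem prod_roots {ξ : ℂ} (hξ : IsPrimitiveRoot ξ (p ^ D - 1)) {l m : ℕ} (hl : 0 < l) (hm : 0 < m)
    (hn : p ^ D - 1 = m * l) {B : ℕ} (hB : B < m) (f : ℕ → ℂ) :
    ((Polynomial.nthRoots l (ξ ^ (B * l))).map fun β => f (dg p D ξ β)).prod =
      ∏ j ∈ range l, f ((p * B / m + p * j) / l) := by
  rw [(hξ.pow (by rw [hn]; exact Nat.mul_pos hm hl) hn).nthRoots_eq (pow_mul ξ B l).symm,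
    Multiset.map_map, prod_eq_multiset_prod, range_val]
  refine congrArg _ (Multiset.map_congr rfl fun j hj => ?_)
  have h1 : m * j + B < m * l :=
    lt_of_lt_of_le (by rw [Nat.mul_succ]; omega)
      (Nat.mul_le_mul_left m (Nat.succ_le_of_lt (Multiset.mem_range.1 hj)))
  rw [Function.comp_apply, ← pow_mul, ← pow_add, dg_pow hξ, dig, hn, Nat.mod_eq_of_lt h1,
    ← Nat.div_div_eq_div_mul, show p * (m * j + B) = p * B + m * (p * j) by ring,
    Nat.add_mul_div_left _ _ hm]

theorem card_roots {l : ℕ} (hl : l ≠ 0) (α : ℂ) : Multiset.card (Polynomial.nthRoots l α) = l := by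
  rw [(Complex.isPrimitiveRoot_exp l hl).card_nthRoots,
    if_pos (IsAlgClosed.exists_pow_nat_eq α (Nat.pos_of_ne_zero hl))]

open Classical in
theorem card_rts {l : ℕ} (hl : l ≠ 0) (S : Multiset ℂ) :
    Multiset.card (rts l S) = l * Multiset.card S ∧ (rts l S).count 1 = S.count 1 := by
  induction S using Multiset.induction_on with
  | empty => simp [rts]
  | cons α S ih =>
    rw [rts, Multiset.cons_bind, ← rts, Multiset.card_add, Multiset.count_add, ih.1, ih.2,
      card_roots hl, Multiset.card_cons, Multiset.count_cons]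
    refine ⟨by ring, ?_⟩
    rw [add_comm]
    congr 1
    split_ifs with h
    · exact Multiset.count_eq_one_of_mem (h ▸ (Complex.isPrimitiveRoot_exp l hl).nthRoots_one_nodup)
        ((Polynomial.mem_nthRoots (Nat.pos_of_ne_zero hl)).2 (by rw [one_pow, h]))
    · exact Multiset.count_eq_zero.2 fun e =>
        h (by simpa using (Polynomial.mem_nthRoots (Nat.pos_of_ne_zero hl)).1 e)

theorem map_rts {l : ℕ} (hl : l ≠ 0) (S : Multiset ℂ) {f g : ℂ → ℂ}
    (h : ∀ β ∈ rts l S, f β = g (β ^ l)) : (rts l S).map f = l • S.map g := by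
  induction S using Multiset.induction_on with
  | empty => simp [rts]
  | cons α S ih =>
    rw [rts, Multiset.cons_bind, ← rts] at h ⊢
    rw [Multiset.map_add, ih fun β hβ => h β (Multiset.mem_add.2 (Or.inr hβ)), Multiset.map_cons,
      Multiset.nsmul_cons, Multiset.nsmul_singleton,
      Multiset.map_congr rfl (g := fun _ => g α) fun β hβ => by
        rw [h β (Multiset.mem_add.2 (Or.inl hβ)),
          (Polynomial.mem_nthRoots (Nat.pos_of_ne_zero hl)).1 hβ],
      Multiset.map_const', card_roots hl]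

theorem good_rts_one (hD : D ≠ 0) {l : ℕ} (hl : l.Prime) (hμ : l ∣ p ^ D - 1) :
    Good p D (rts l {1}) := by
  have hm : ∀ β : ℂ, β ∈ rts l {1} ↔ β ^ l = 1 := fun β => by
    rw [rts, Multiset.singleton_bind, Polynomial.mem_nthRoots hl.pos]
  have h1 : ∀ β ∈ rts l {1}, β ^ (p ^ D - 1) = 1 := fun β hβ => by
    obtain ⟨t, ht⟩ := hμ
    rw [ht, pow_mul, (hm β).1 hβ, one_pow]
  refine ⟨h1, Multiset.eq_of_le_of_card_le ((Multiset.le_iff_subset (Multiset.Nodup.map_on
    (fun a ha b hb e => ?_) ?_)).2 fun β hβ => ?_) (by simp)⟩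
  · obtain ⟨t, rfl⟩ := Nat.exists_eq_succ_of_ne_zero hD
    rw [← pow_pow_eq (h1 a ha), ← pow_pow_eq (h1 b hb), pow_succ', pow_mul, pow_mul, e]
  · rw [rts, Multiset.singleton_bind]
    exact (Complex.isPrimitiveRoot_exp l hl.ne_zero).nthRoots_one_nodup
  · obtain ⟨a, ha, rfl⟩ := Multiset.mem_map.1 hβ
    rw [hm, ← pow_mul, mul_comm, pow_mul, (hm a).1 ha, one_pow]

/-- The product relation. -/
theorem gam_rts (hD : D ≠ 0) {l : ℕ} (hl : l.Prime) (lu : (ZMod p)ˣ) (hlu : (lu : ZMod p) = l)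
    {S : Multiset ℂ} (h : Good p D S) (h' : Good p D (rts l S)) (hμ : l ∣ p ^ D - 1)
    (c : (ZMod p)ˣ) :
    gam p D (rts l S) c = gam p D S (c * lu) * gam p D (rts l {1}) c ^ Multiset.card S := by
  classical
  have h1 := good_rts_one hD hl hμ
  have hlp : l ≠ p := fun e => not_dvd_sub_one hD (e ▸ hμ)
  have n0 := sub_one_ne_zero' (p := p) hD
  obtain ⟨M', hM'⟩ := exists_isPModular hl
  have mem : ∀ {S : Multiset ℂ}, Good p D S → ∀ c, gam p D S c ∈ cmInt := fun h c =>
    (h.rep hD).mem hD c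
  refine eq_of_red (mem h' c) (mul_mem (mem h _) (pow_mem (mem h1 c) _)) (gam_mul_conj hD h' c) ?_
    (fun M hM => ?_) hM' hlp ?_
  · have := Multiset.count_le_card 1 S
    obtain ⟨t, rfl⟩ := Nat.exists_eq_succ_of_ne_zero hl.ne_zero
    rw [map_mul, map_pow, mul_mul_mul_comm, ← mul_pow, gam_mul_conj hD h, gam_mul_conj hD h1,
      ← pow_mul, ← pow_add, (card_rts hl.ne_zero _).1, (card_rts hl.ne_zero _).2,
      (card_rts hl.ne_zero _).1, (card_rts hl.ne_zero _).2]
    congr 1
    simp only [Multiset.card_singleton, Multiset.count_singleton_self, mul_one, Nat.succ_mul,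
      Nat.succ_sub_one]
    omega
  · obtain ⟨ξ, hξ, hs⟩ := stick_rep hD hM
    haveI : NeZero (p ^ D - 1) := ⟨n0⟩
    obtain ⟨m, hm⟩ := exists_eq_mul_left_of_dvd hμ
    have m0 : 0 < m := Nat.pos_of_ne_zero (left_ne_zero_of_mul (hm ▸ n0))
    have e1 := hs _ _ (h'.rep hD) c
    have e2 := hs _ _ (h.rep hD) (c * lu)
    have e3 := hs _ _ (h1.rep hD) c
    set W := ((rts l {1}).map fun α => wt p c (dg p D ξ α)).prod with hW
    have e4 : ∀ S : Multiset ℂ, (∀ β ∈ rts l S, β ^ (p ^ D - 1) = 1) →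
        red M (((rts l S).map fun α => wt p c (dg p D ξ α)).prod /
          ((S.map fun α => wt p (c * lu : (ZMod p)ˣ) (dg p D ξ α)).prod *
            W ^ Multiset.card S)) = 1 := fun S hS => by
      induction S using Multiset.induction_on with
      | empty => simp [rts]
      | cons α S ih =>
        rw [rts, Multiset.cons_bind, ← rts] at hS ⊢
        rw [Multiset.map_add, Multiset.prod_add, Multiset.map_cons, Multiset.prod_cons,
          Multiset.card_cons, pow_succ', mul_mul_mul_comm, mul_div_mul_comm]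
        refine red_mul_eq_one ?_ (ih fun β hβ => hS β (Multiset.mem_add.2 (Or.inr hβ)))
        obtain ⟨β, rfl⟩ := IsAlgClosed.exists_pow_nat_eq α hl.pos
        obtain ⟨B, -, rfl⟩ := hξ.eq_pow_of_pow_eq_one
          (hS β (Multiset.mem_add.2 (Or.inl ((Polynomial.mem_nthRoots hl.pos).2 rfl))))
        have hB := Nat.mod_lt B m0
        have e5 : (ξ ^ B) ^ l = ξ ^ (B % m * l) := by
          rw [← pow_mul, ← Nat.mul_mod_mul_right, ← hm, ← pow_eq_pow_mod _ hξ.pow_eq_one]
        have e6 := prod_roots hξ hl.pos m0 hm m0 (wt p c)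
        rw [zero_mul, pow_zero, mul_zero, Nat.zero_div] at e6
        rw [e5, prod_roots hξ hl.pos m0 hm hB, hW, rts, Multiset.singleton_bind, e6, dg_pow hξ, dig,
          hm, Nat.mod_eq_of_lt (Nat.mul_lt_mul_of_pos_right hB hl.pos), ← mul_assoc,
          Nat.mul_div_mul_right _ _ hl.pos]
        simp only [zero_add]
        exact red_wt hM hl hlp c lu hlu
          ((Nat.div_lt_iff_lt_mul m0).2 (Nat.mul_lt_mul_of_pos_left hB hp.out.pos))
    have e5 : red M ((gam p D (rts l {1}) c / W) ^ Multiset.card S) = 1 := by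
      rw [red_pow (mem_locO_of_red_ne_zero (by simp [e3])), e3, one_pow]
    have := red_mul_eq_one (red_mul_eq_one e1 (e4 S h'.1)) (red_inv_eq_one (red_mul_eq_one e2 e5))
    have n1 : ((rts l S).map fun α => wt p c (dg p D ξ α)).prod ≠ 0 := fun e => by simp [e] at e1
    have n2 : (S.map fun α => wt p (c * lu : (ZMod p)ˣ) (dg p D ξ α)).prod ≠ 0 := fun e => by
      rw [e] at e2; simp at e2
    have n3 : W ≠ 0 := fun e => by simp [e] at e3
    convert this using 2
    rw [div_pow]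
    field_simp
  · obtain ⟨j, n', hn', hn⟩ := Nat.exists_eq_pow_mul_and_not_dvd n0 l hl.ne_one
    have j0 : j ≠ 0 := by rintro rfl; exact hn' (by simpa [hn] using hμ)
    have n'0 : n' ≠ 0 := right_ne_zero_of_mul (hn ▸ n0)
    have cop := (hl.coprime_iff_not_dvd.2 hn').symm
    obtain ⟨k, k1, k0⟩ := Nat.chineseRemainder (Nat.Coprime.pow_right j cop) 1 0
    obtain ⟨t, rfl⟩ := Nat.modEq_zero_iff_dvd.1 k0
    obtain ⟨k', -, hk'⟩ := Nat.exists_mul_mod_eq_of_coprime 1 cop.symm n'0
    have key : ∀ {S : Multiset ℂ}, Good p D S → ∀ c,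
        red M' (gam p D S c) = red M' (gam p D (S.map (· ^ (l ^ j * t))) c) := fun h c => by
      obtain ⟨y, hy, e⟩ := (h.rep hD).exists_map hD fun a ha =>
        red_pow_eq hM' n'0 (hn ▸ h.1 a ha) k1
      rw [hy.gam_eq hD, e]
    have pw : ∀ β : ℂ, β ^ (p ^ D - 1) = 1 → β ^ (l ^ j * t) = (β ^ l) ^ (l ^ j * t * k') :=
      fun β hβ => by
        rw [← pow_mul]
        refine pow_eq_pow_of_modEq ?_ hβ
        rw [hn, show l * (l ^ j * t * k') = l ^ j * (t * (l * k')) by ring]
        simpa using ((Nat.ModEq.mul_left t (show l * k' ≡ 1 [MOD n'] from hk')).mul_left' (l ^ j)).symm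
    have hT := h.map_pow (l ^ j * t * k')
    obtain ⟨y, hy, e⟩ := (hT.rep hD).exists_frob hD hM' lu hlu
    rw [Multiset.map_map, Multiset.map_congr rfl (g := (· ^ (l ^ j * t))) fun a ha => by
      rw [pw a (h.1 a ha), Function.comp_apply, ← pow_mul, ← pow_mul, mul_comm l]] at hy
    rw [red_mul (mem_locO_of_isIntegral (mem h _).1) (pow_mem (mem_locO_of_isIntegral (mem h1 c).1) _),
      red_pow (mem_locO_of_isIntegral (mem h1 c).1), key h', key h, key h1,
      map_rts hl.ne_zero S (g := (· ^ (l ^ j * t * k'))) fun β hβ => pw β (h'.1 β hβ),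
      map_rts hl.ne_zero {1} (g := fun _ => 1) fun β hβ => by
        rw [rts, Multiset.singleton_bind, Polynomial.mem_nthRoots hl.pos] at hβ
        rw [pw β (h1.1 β (by rwa [rts, Multiset.singleton_bind, Polynomial.mem_nthRoots hl.pos])), hβ,
          one_pow],
      gam_nsmul hD hT, Multiset.map_singleton, Multiset.nsmul_singleton, gam_replicate_one hD,
      hy.gam_eq hD, e, Pi.pow_apply, red_pow (mem_locO_of_isIntegral (mem hT c).1)]
    simp

end Cfsg.Kgv
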