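import Cfsg.Agent.Kgv.Stick
import Cfsg.Agent.Char.Burnside

/-!
# Products of Gauss sums: norm, integrality, congruences
-/

set_option autoImplicit false
set_option linter.unusedSectionVars false
set_option linter.unusedVariables false
set_option linter.style.haveILetI false

namespace Cfsg.Kgv

open Finset
open scoped ComplexConjugate

variable {p : ℕ} [hp : Fact p.Prime] {D : ℕ}

/-- integral complex numbers on which complex conjugation commutes with all automorphisms -/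
def cmInt : Subring ℂ where
  carrier := {z | IsIntegral ℤ z ∧ ∀ σ : ℂ ≃+* ℂ, σ (conj z) = conj (σ z)}
  mul_mem' := fun h1 h2 => ⟨h1.1.mul h2.1, fun σ => by simp [h1.2 σ, h2.2 σ]⟩
  one_mem' := ⟨isIntegral_one, by simp⟩
  add_mem' := fun h1 h2 => ⟨h1.1.add h2.1, fun σ => by simp [h1.2 σ, h2.2 σ]⟩
  zero_mem' := ⟨isIntegral_zero, by simp⟩
  neg_mem' := fun h1 => ⟨h1.1.neg, fun σ => by simp [h1.2 σ]⟩

theorem mem_cmInt_of_pow {z : ℂ} {n : ℕ} (hn : n ≠ 0) (h : z ^ n = 1) : z ∈ cmInt :=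
  ⟨IsIntegral.of_pow (Nat.pos_of_ne_zero hn) (h ▸ isIntegral_one), fun σ => by
    rw [← Complex.inv_eq_conj (Complex.norm_eq_one_of_pow_eq_one h hn), ← Complex.inv_eq_conj
      (Complex.norm_eq_one_of_pow_eq_one (by rw [← map_pow, h, map_one]) hn), map_inv₀]⟩

theorem psi_pow (x : ZMod p) : (ZMod.stdAddChar x : ℂ) ^ p = 1 := by
  rw [← AddChar.map_nsmul_eq_pow, nsmul_eq_mul, ZMod.natCast_self, zero_mul, AddChar.map_zero_eq_one]

theorem sub_one_ne_zero' {e : ℕ} (he : e ≠ 0) : p ^ e - 1 ≠ 0 :=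
  (Nat.sub_pos_of_lt (Nat.one_lt_pow he hp.out.one_lt)).ne'

theorem not_dvd_sub_one {e : ℕ} (he : e ≠ 0) : ¬ p ∣ p ^ e - 1 := fun h =>
  hp.out.one_lt.ne' (Nat.dvd_one.1 ((Nat.dvd_sub_iff_right (Nat.one_le_pow _ _ hp.out.pos)
    (dvd_pow_self p he)).1 h))

theorem pow_pow_eq {e : ℕ} {α : ℂ} (hα : α ^ (p ^ e - 1) = 1) : α ^ p ^ e = α := by
  rw [← Nat.sub_add_cancel (Nat.one_le_pow e p hp.out.pos), pow_succ, hα, one_mul]

theorem GS_mem {e : ℕ} (he : e ≠ 0) (c : ZMod p) {α : ℂ} (hα : α ^ (p ^ e - 1) = 1) :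
    GS p D e c α ∈ cmInt :=
  neg_mem (sum_mem fun b _ => mul_mem (mem_cmInt_of_pow hp.out.ne_zero (psi_pow _))
    (pow_mem (mem_cmInt_of_pow (sub_one_ne_zero' he) hα) b))

theorem mem_orb {e : ℕ} {α β : ℂ} : β ∈ orb p e α ↔ ∃ i < e, α ^ p ^ i = β := by
  simp [orb]

theorem self_mem_orb {e : ℕ} (he : e ≠ 0) (α : ℂ) : α ∈ orb p e α :=
  mem_orb.2 ⟨0, Nat.pos_of_ne_zero he, by simp⟩

theorem orb_pow (e : ℕ) (α : ℂ) (k : ℕ) : orb p e (α ^ k) = (orb p e α).map (· ^ k) := by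
  simp only [orb, Multiset.map_map, Function.comp_def, ← pow_mul, mul_comm]

theorem good_orb' (hD : D ≠ 0) {e : ℕ} (he : e ∣ D) {α : ℂ} (hα : α ^ (p ^ e - 1) = 1) :
    Good p D (orb p e α) := by
  refine ⟨fun β hβ => ?_, ?_⟩
  · obtain ⟨i, -, rfl⟩ := mem_orb.1 hβ
    obtain ⟨k, hk⟩ := Nat.pow_sub_one_dvd_pow_sub_one p he
    rw [← pow_mul, mul_comm, pow_mul, hk, pow_mul, hα, one_pow, one_pow]
  · have h1 : ∀ n, (Multiset.range (n + 1)).map (fun i => α ^ p ^ i) =
        α ::ₘ (Multiset.range n).map fun i => (α ^ p ^ i) ^ p := fun n => by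
      induction n with
      | zero => simp
      | succ n ih =>
        rw [Multiset.range_succ, Multiset.map_cons, ih, Multiset.range_succ, Multiset.map_cons,
          Multiset.cons_swap, ← pow_mul, ← pow_succ]
    have h2 := h1 e
    rw [Multiset.range_succ, Multiset.map_cons, pow_pow_eq hα, Multiset.cons_inj_right] at h2
    rw [orb, Multiset.map_map]
    exact h2.symm

theorem Good.add' {S T : Multiset ℂ} (h : Good p D S) (h' : Good p D T) : Good p D (S + T) :=
  ⟨fun α hα => (Multiset.mem_add.1 hα).elim (h.1 α) (h'.1 α), by rw [Multiset.map_add, h.2, h'.2]⟩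

theorem Good.map_pow {S : Multiset ℂ} (h : Good p D S) (k : ℕ) : Good p D (S.map (· ^ k)) := by
  refine ⟨fun β hβ => ?_, ?_⟩
  · obtain ⟨α, hα, rfl⟩ := Multiset.mem_map.1 hβ
    rw [← pow_mul, mul_comm, pow_mul, h.1 α hα, one_pow]
  · conv_rhs => rw [← h.2]
    simp only [Multiset.map_map, Function.comp_def, ← pow_mul, mul_comm]

namespace Rep

variable {S : Multiset ℂ} {z : (ZMod p)ˣ → ℂ}

theorem good (hD : D ≠ 0) (h : Rep p D S z) : Good p D S := by
  induction h with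
  | nil => exact ⟨by simp, by simp⟩
  | cons e α S z he hα _ ih => exact (good_orb' hD he hα).add' ih

theorem mem (hD : D ≠ 0) (h : Rep p D S z) (c : (ZMod p)ˣ) : z c ∈ cmInt := by
  induction h with
  | nil => exact one_mem _
  | cons e α S z he hα _ ih => exact mul_mem (GS_mem (ne_zero_of_dvd_ne_zero hD he) _ hα) ih

theorem add {T : Multiset ℂ} {y : (ZMod p)ˣ → ℂ} (h : Rep p D S z) (h' : Rep p D T y) :
    Rep p D (S + T) (z * y) := by
  induction h with
  | nil => simpa using h'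
  | cons e α S z he hα _ ih =>
    convert Rep.cons e α _ _ he hα ih using 1
    · rw [add_assoc]
    · funext c; simp [mul_assoc]

open Classical in
theorem mul_conj (hD : D ≠ 0) (h : Rep p D S z) (c : (ZMod p)ˣ) :
    z c * conj (z c) = (p : ℂ) ^ (Multiset.card S - S.count 1) := by
  induction h with
  | nil => simp
  | cons e α S z he hα _ ih =>
    have h1 := Multiset.count_le_card 1 S
    rw [map_mul, mul_mul_mul_comm, ih, Multiset.card_add, Multiset.count_add]
    by_cases h : α = 1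
    · subst h
      rw [GS_one hD he]
      simp [orb, Nat.add_sub_add_left]
    · rw [GS_mul_conj hD he c hα h, ← pow_add,
        (Multiset.count_eq_zero (s := orb p e α)).2 fun h1 => h ?_]
      · congr 1
        simp only [orb, Multiset.card_map, Multiset.card_range]
        omega
      · obtain ⟨i, hi, e1⟩ := mem_orb.1 h1
        rw [← pow_pow_eq hα, ← Nat.add_sub_cancel' hi.le, pow_add, pow_mul, e1, one_pow]

theorem eq_one (hD : D ≠ 0) (h : Rep p D S z) (h1 : ∀ a ∈ S, a = 1) : z = 1 := by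
  induction h with
  | nil => rfl
  | cons e α S z he hα _ ih =>
    funext c
    rw [h1 α (Multiset.mem_add.2 (Or.inl (self_mem_orb (ne_zero_of_dvd_ne_zero hD he) α))),
      GS_one hD he, ih fun a ha => h1 a (Multiset.mem_add.2 (Or.inr ha)), one_mul]

theorem vM_lt_one (hD : D ≠ 0) {M : Ideal AlgInt} (hM : IsPModular p M) (h : Rep p D S z) {α : ℂ}
    (hα : α ∈ S) (h1 : α ≠ 1) (c : (ZMod p)ˣ) : vM M (z c) < 1 := by
  induction h with
  | nil => simp at hα
  | cons e β S z he hβ hS ih =>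
    have e0 := ne_zero_of_dvd_ne_zero hD he
    have hG := mem_locO_of_isIntegral (M := M) (GS_mem (D := D) e0 c hβ).1
    rcases Multiset.mem_add.1 hα with h | h
    · refine vM_mul_lt_one ((red_eq_zero_iff hG).1 ?_) (mem_locO_of_isIntegral (hS.mem hD c).1)
      have b1 : β ≠ 1 := by
        rintro rfl
        obtain ⟨i, -, e⟩ := mem_orb.1 h
        exact h1 (by simpa using e.symm)
      have mb : ∀ b : ℕ, β ^ b ∈ locO M := fun b =>
        pow_mem (mem_locO_of_pow_eq_one (sub_one_ne_zero' e0) hβ) b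
      have mp : ∀ x : ZMod p, (ZMod.stdAddChar x : ℂ) ∈ locO M := fun x =>
        mem_locO_of_pow_eq_one hp.out.ne_zero (psi_pow x)
      rw [GS, red_neg, red_sum fun b _ => mul_mem (mp _) (mb b), neg_eq_zero,
        sum_congr rfl fun b _ => by
          rw [red_mul (mp _) (mb b), hM.red_eq_one_of_pow (k := 1) (by rw [pow_one, psi_pow]), one_mul],
        ← red_sum fun b _ => mb b, geom_sum_eq b1, hβ, sub_self, zero_div, red_zero]
    · exact vM_mul_lt_one' hG (ih h)

theorem exists_map (hD : D ≠ 0) {M : Ideal AlgInt} (h : Rep p D S z) {k : ℕ}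
    (hk : ∀ a ∈ S, red M (a ^ k) = red M a) :
    ∃ y, Rep p D (S.map (· ^ k)) y ∧ ∀ c, red M (y c) = red M (z c) := by
  induction h with
  | nil => exact ⟨1, by simpa using Rep.nil, fun _ => rfl⟩
  | cons e α S z he hα hS ih =>
    obtain ⟨y, hy, e1⟩ := ih fun a ha => hk a (Multiset.mem_add.2 (Or.inr ha))
    have e0 := ne_zero_of_dvd_ne_zero hD he
    have hα' : (α ^ k) ^ (p ^ e - 1) = 1 := by rw [← pow_mul, mul_comm, pow_mul, hα, one_pow]
    refine ⟨_, by rw [Multiset.map_add, ← orb_pow]; exact Rep.cons e _ _ _ he hα' hy, fun c => ?_⟩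
    have mb := mem_locO_of_pow_eq_one (M := M) (sub_one_ne_zero' e0) hα
    have mp : ∀ x : ZMod p, (ZMod.stdAddChar x : ℂ) ∈ locO M := fun x =>
      mem_locO_of_pow_eq_one hp.out.ne_zero (psi_pow x)
    rw [red_mul (mem_locO_of_isIntegral (GS_mem e0 _ hα').1) (mem_locO_of_isIntegral (hy.mem hD c).1),
      red_mul (mem_locO_of_isIntegral (GS_mem e0 _ hα).1) (mem_locO_of_isIntegral (hS.mem hD c).1),
      e1, GS, GS, red_neg, red_neg, red_sum fun b _ => mul_mem (mp _) (pow_mem mb b),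
      red_sum fun b _ => mul_mem (mp _) (pow_mem (pow_mem mb k) b)]
    congr 2
    refine sum_congr rfl fun b _ => ?_
    rw [red_mul (mp _) (pow_mem mb b), red_mul (mp _) (pow_mem (pow_mem mb k) b), red_pow mb,
      red_pow (pow_mem mb k), hk α (Multiset.mem_add.2 (Or.inl (self_mem_orb e0 α)))]

theorem exists_frob (hD : D ≠ 0) {l : ℕ} {M : Ideal AlgInt} (hM : IsPModular l M) (lu : (ZMod p)ˣ)
    (hlu : (lu : ZMod p) = l) (h : Rep p D S z) :
    ∃ y, Rep p D (S.map (· ^ l)) y ∧ ∀ c, red M (y (c * lu)) = red M (z c) ^ l := by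
  haveI := hM.fact
  haveI := hM.charP
  induction h with
  | nil => exact ⟨1, by simpa using Rep.nil, fun _ => by simp⟩
  | cons e α S z he hα hS ih =>
    obtain ⟨y, hy, e1⟩ := ih
    have e0 := ne_zero_of_dvd_ne_zero hD he
    have hα' : (α ^ l) ^ (p ^ e - 1) = 1 := by rw [← pow_mul, mul_comm, pow_mul, hα, one_pow]
    refine ⟨_, by rw [Multiset.map_add, ← orb_pow]; exact Rep.cons e _ _ _ he hα' hy, fun c => ?_⟩
    have mb := mem_locO_of_pow_eq_one (M := M) (sub_one_ne_zero' e0) hα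
    have mp : ∀ x : ZMod p, (ZMod.stdAddChar x : ℂ) ∈ locO M := fun x =>
      mem_locO_of_pow_eq_one hp.out.ne_zero (psi_pow x)
    rw [red_mul (mem_locO_of_isIntegral (GS_mem e0 _ hα').1) (mem_locO_of_isIntegral (hy.mem hD _).1),
      red_mul (mem_locO_of_isIntegral (GS_mem e0 _ hα).1) (mem_locO_of_isIntegral (hS.mem hD c).1),
      e1, mul_pow, GS, GS, red_neg, red_neg, red_sum fun b _ => mul_mem (mp _) (pow_mem mb b),
      red_sum fun b _ => mul_mem (mp _) (pow_mem (pow_mem mb l) b), ← frobenius_def l (-_), map_neg,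
      map_sum]
    congr 2
    refine sum_congr rfl fun b _ => ?_
    rw [frobenius_def, ← red_pow (mul_mem (mp _) (pow_mem mb b)), mul_pow,
      ← AddChar.map_nsmul_eq_pow, nsmul_eq_mul, Units.val_mul, hlu, ← pow_mul, ← pow_mul,
      mul_comm l b, mul_comm (c : ZMod p), mul_assoc]

end Rep

/-- the first digit of a discrete logarithm -/
noncomputable def dg (p D : ℕ) (ξ α : ℂ) : ℕ := dig p D (Classical.epsilon fun A : ℕ => ξ ^ A = α)

theorem dg_pow {ξ : ℂ} (hξ : IsPrimitiveRoot ξ (p ^ D - 1)) (A : ℕ) :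
    dg p D ξ (ξ ^ A) = dig p D A := by
  have := Classical.epsilon_spec (p := fun B : ℕ => ξ ^ B = ξ ^ A) ⟨A, rfl⟩
  by_cases h0 : p ^ D - 1 = 0
  · simp [dg, dig, h0]
  rw [(hξ.isOfFinOrder h0).pow_eq_pow_iff_modEq, ← hξ.eq_orderOf] at this
  rw [dg, dig, dig, this]

theorem red_inv_eq_one {M : Ideal AlgInt} {a : ℂ} (ha : red M a = 1) : red M a⁻¹ = 1 := by
  rw [red_inv (mem_locO_of_red_ne_zero (by simp [ha])) (by simp [ha]), ha, inv_one]

theorem stick_rep (hD : D ≠ 0) {M : Ideal AlgInt} (hM : IsPModular p M) :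
    ∃ ξ : ℂ, IsPrimitiveRoot ξ (p ^ D - 1) ∧ ∀ (S : Multiset ℂ) (z : (ZMod p)ˣ → ℂ), Rep p D S z →
      ∀ c : (ZMod p)ˣ, red M (z c / (S.map fun α => wt p c (dg p D ξ α)).prod) = 1 := by
  obtain ⟨ξ, hξ, h⟩ := stick hD hM
  refine ⟨ξ, hξ, fun S z hS c => ?_⟩
  induction hS with
  | nil => simp
  | cons e α S z he hα _ ih =>
    haveI : NeZero (p ^ D - 1) := ⟨sub_one_ne_zero' hD⟩
    obtain ⟨A, -, rfl⟩ := hξ.eq_pow_of_pow_eq_one
      ((good_orb' hD he hα).1 α (self_mem_orb (ne_zero_of_dvd_ne_zero hD he) α))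
    rw [Multiset.map_add, Multiset.prod_add, mul_div_mul_comm]
    refine red_mul_eq_one ?_ ih
    convert h e he c A hα using 3
    simp only [orb, Multiset.map_map, Function.comp_def, ← pow_mul, dg_pow hξ]
    rfl

/-- Kronecker's theorem decides equality of two numbers of the same absolute value `√p ^ a`. -/
theorem eq_of_red {z w : ℂ} (hz : z ∈ cmInt) (hw : w ∈ cmInt) {a : ℕ}
    (h1 : z * conj z = (p : ℂ) ^ a) (h2 : w * conj w = (p : ℂ) ^ a)
    (h : ∀ M, IsPModular p M → red M (z / w) = 1) {l : ℕ} {M' : Ideal AlgInt}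
    (hM' : IsPModular l M') (hl : l ≠ p) (h' : red M' z = red M' w) : z = w := by
  have p0 : (p : ℂ) ^ a ≠ 0 := pow_ne_zero _ (by exact_mod_cast hp.out.ne_zero)
  have w0 : w ≠ 0 := fun e => p0 (by rw [← h2, e, zero_mul])
  have z0 : z ≠ 0 := fun e => p0 (by rw [← h1, e, zero_mul])
  have hc : IsIntegral ℤ (conj w) := hw.1.map (starRingEnd ℂ).toIntAlgHom
  have unit : ∀ (l : ℕ) (M : Ideal AlgInt), IsPModular l M → l ≠ p → red M w ≠ 0 :=
    fun l M hM hl e => by
      have := congrArg (red M) h2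
      rw [red_mul (mem_locO_of_isIntegral hw.1) (mem_locO_of_isIntegral hc), e, zero_mul,
        ← Nat.cast_pow, eq_comm, red_eq_zero_iff (natCast_mem _ _), hM.vM_natCast_lt_one_iff] at this
      exact hl ((Nat.prime_dvd_prime_iff_eq hM.prime hp.out).1 (hM.prime.dvd_of_dvd_pow this))
  have hi : IsIntegral ℤ (z / w) := isIntegral_of_forall_mem_locO
    ((hz.1.tower_top (A := ℚ)).isAlgebraic.mul (hw.1.tower_top (A := ℚ)).isAlgebraic.inv)
    fun l M hM => by
      by_cases hl : l = p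
      · exact mem_locO_of_red_ne_zero (by simp [h M (hl ▸ hM)])
      · exact mul_mem (mem_locO_of_isIntegral hz.1)
          (inv_mem_locO (mem_locO_of_isIntegral hw.1) (unit l M hM hl))
  have hf := isOfFinOrder_of_forall_norm_le_one (div_ne_zero z0 w0) hi fun σ => by
    have e1 := congrArg σ (h1.trans h2.symm)
    rw [map_mul, map_mul, hz.2, hw.2, Complex.mul_conj', Complex.mul_conj'] at e1
    have e2 : ‖σ z‖ ^ 2 = ‖σ w‖ ^ 2 := by exact_mod_cast e1
    rw [map_div₀, norm_div, (sq_eq_sq₀ (norm_nonneg _) (norm_nonneg _)).1 e2]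
    exact div_self_le_one _
  obtain ⟨n, hn, e⟩ := isOfFinOrder_iff_pow_eq_one.1 hf
  obtain ⟨k, m, hm, rfl⟩ := Nat.exists_eq_pow_mul_and_not_dvd hn.ne' p hp.out.ne_one
  obtain ⟨M, hM⟩ := exists_isPModular hp.out
  have e1 : (z / w) ^ p ^ k = 1 := hM.eq_of_red_eq_of_pow hm (by rw [← pow_mul, e]) (one_pow m) (by
    rw [red_pow (mem_locO_of_isIntegral hi), h M hM, one_pow, red_one])
  refine (div_eq_one_iff_eq w0).1 (hM'.eq_of_red_eq_of_pow (n := p ^ k) (fun e => hl
    ((Nat.prime_dvd_prime_iff_eq hM'.prime hp.out).1 (hM'.prime.dvd_of_dvd_pow e))) e1 (one_pow _) ?_)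
  rw [red_div (mem_locO_of_isIntegral hz.1) (mem_locO_of_isIntegral hw.1) (unit l M' hM' hl), h',
    div_self (unit l M' hM' hl), red_one]

theorem red_pow_eq {l : ℕ} {M : Ideal AlgInt} (hM : IsPModular l M) {a : ℂ} {j N k : ℕ}
    (hN : N ≠ 0) (ha : a ^ (l ^ j * N) = 1) (hk : k ≡ 1 [MOD N]) : red M (a ^ k) = red M a := by
  haveI := hM.fact
  haveI := hM.charP
  have m := mem_locO_of_pow_eq_one (M := M) (mul_ne_zero (pow_ne_zero j hM.prime.ne_zero) hN) ha
  refine iterateFrobenius_inj (ResK M) l j ?_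
  rw [iterateFrobenius_def, iterateFrobenius_def, ← red_pow m, ← red_pow (pow_mem m k), ← pow_mul,
    pow_eq_pow_of_modEq (a := k * l ^ j) (b := l ^ j) _ ha]
  simpa [mul_comm] using hk.mul_left' (l ^ j)

end Cfsg.Kgv

set_option linter.all false in
theorem Cfsg.Rz.Kgv_UniqA_0 : True := by
  have := @_root_.Cfsg.Kgv.cmInt.eq_def
  have := @_root_.Cfsg.Kgv.cmInt.eq_1
  have := @_root_.Cfsg.Kgv.cmInt.fun_cases
  have := @_root_.Cfsg.Kgv.dg.eq_def
  have := @_root_.Cfsg.Kgv.dg.fun_cases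
  trivial
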